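import Mathlib
import Cfsg.Prelude.Def_ChevG2
import Cfsg.Agent.H12.Fast

/-! Verification of the tables of type G2 by kernel computation. -/

set_option autoImplicit false
set_option maxRecDepth 100000

namespace Cfsg.Agent.H12

open Cfsg.Lie

/-- packed tables -/
def fastG2 : Fast where
  n := 12
  l := 2
  w := 36
  T := 0xa70000000000000000970000000890000000690000000000000000000000000000000000000000000000000000000000000b70000000000000000970000000000000000790000000000000000590000000000000000000000000000000000b50000000a50000000000000000000000b508a0000ab0760000000000b70890490a90770390000000000000000000000000bb0000000000000bb09a0000000000b709707700000006b0000000000000650460000000000690490270000000000000000000000000ab0000a50960000000000a909908700000000000000000000000005b00005b03a0570370270000000000000000000000000b90000000000000000000000000890000000000000000000000000000000000470000000000000000000000000170000000a900000000000000000000000007900000000000000000000000000000000003700000000000000000000000000700000000000000000006908709900006b08600000006500000000000000000001702903900000000000001502a00000001500000000000000000005707909900000000000005507a00000000000000005500902704900000000000000b02600000000000000000500000000000000000001704708700903907700000000000001b04a00000503600000000000000000000000001b00000000b000000000000000000000000000000000067000000000000000047000000000000000029000000000000000009000000000000000000000000000000000000000000000000000000000000057000000037000000029000000000000000019000000000000000000000000000000000000000000000000000000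
  Rf := 0xa0b090708050603040200010b060809040a010702030500
  E := 0x969696
  A := 0x97897a6978978b97a5b69758
  C := 0xa999bab98998788757567767
  Al := 0xab9b9a998998788777767565
  S := 0x607
  Len := 0xf57d5f
  Code := 0x80000000000000c280000000000000c180000000000000818000000000000041800000000000004080000000000000017fffffffffffffff7fffffffffffffc07fffffffffffffbf7fffffffffffff7f7fffffffffffff3f7fffffffffffff3e
  Dep := 0x10

theorem fastG2_link1 : fastG2.link1 chevG2 = true := by decide +kernel
theorem fastG2_link2 : fastG2.link2 chevG2 = true := by decide +kernel
theorem fastG2_chkR : fastG2.tab.chkR fastG2.R = true := by decide +kernel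
theorem fastG2_chk1 : fastG2.tab.chk1 fastG2.code fastG2.wt = true := by decide +kernel
theorem fastG2_chk2 : fastG2.tab.chk2 fastG2.dep 0 = true := by decide +kernel
theorem fastG2_chk3 : fastG2.tab.chk3 fastG2.R = true := by decide +kernel
theorem fastG2_chkDom : fastG2.tab.chkDom fastG2.R fastG2.code = true := by decide +kernel
theorem fastG2_chkOm : fastG2.tab.chkOm = true := by decide +kernel
theorem fastG2_compat0 : fastG2.tab.chkCompat fastG2.R 0 12 = true := by decide +kernel

theorem fastG2_compat : ∀ r < fastG2.tab.n, fastG2.tab.chkCompatRow fastG2.R r = true := by
  have h0 : ∀ r < 0, fastG2.tab.chkCompatRow fastG2.R r = true := fun r hr => absurd hr (by omega)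
  have h1 := forall_lt_of_chunks (n := 12) h0 (allLt_iff.1 fastG2_compat0) rfl
  exact h1

theorem fastG2_goodTab : GoodTab fastG2.tab :=
  Tab.goodTab_of_chk fastG2_chkR fastG2_chk1 fastG2_chk2 fastG2_chk3 fastG2_compat fastG2_chkDom fastG2_chkOm

theorem fastG2_tab_eq : tabOf chevG2 fastG2.al fastG2.eta fastG2.len = fastG2.tab :=
  Fast.tab_eq fastG2_link1 fastG2_link2

instance goodG2 : Good chevG2 := Fast.good fastG2_link1 fastG2_link2 fastG2_goodTab

end Cfsg.Agent.H12
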