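import Mathlib
import Cfsg.Agent.H12.Weyl
import Cfsg.Agent.H12.DataD4

/-! The Weyl group of type D4: Coxeter system, Poincaré polynomial. -/

set_option autoImplicit false
set_option maxRecDepth 100000

namespace Cfsg.Agent.H12

open Cfsg.Lie

/-- the Cartan matrix -/
def cartD4 (i j : ℕ) : ℤ :=
  Int.subNatNat (fld (fld 0xa8788a7877a7887a 16 i) 4 j) 8

/-- the exponents attached to the nodes: `(1, 0)` long, `(0, 1)` short -/
def expD4 (i : ℕ) : ℕ × ℕ := [(1, 0), (1, 0), (1, 0), (1, 0)].getD i (1, 0)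

/-- orbit certificate -/
def orbD4_0 : Orb ℤ :=
  pOrb 4 2 0x88878889 0x1 0x0 0x0 0x10000
    [(1, 0, 0), (1, 1, 0)]

/-- orbit certificate -/
def orbD4_1 : Orb ℤ :=
  pOrb 4 3 0x888788798898 0x200000100 0x10000 0x10 0x200010000
    [(1, 0, 0), (1, 1, 0), (1, 2, 0)]

/-- orbit certificate -/
def orbD4_2 : Orb ℤ :=
  pOrb 4 4 0x8887887987988988 0x30000020000010000 0x2010000 0x120 0x3000200010000
    [(1, 0, 0), (1, 1, 0), (1, 2, 0), (1, 3, 0)]

/-- orbit certificate -/
def orbD4_3 : Orb ℤ :=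
  pOrb 4 8 0x78889878879787898987897978989888 0x7000000000006000000000500050000000400030000020001000000 0x605030202010000 0x31220130 0x60005000400030003000200010000
    [(1, 0, 0), (1, 1, 0), (1, 2, 0), (2, 3, 0), (1, 4, 0), (1, 5, 0), (1, 6, 0)]

/-- orbit certificates -/
def orbD4 (n : ℕ) : Orb ℤ := [orbD4_0, orbD4_1, orbD4_2, orbD4_3].getD n orbD4_0

theorem cartD4_chk : cartanChk chevD4 cartD4 = true := by decide +kernel

theorem cartD4_eq (i j : Fin chevD4.rank) : (rsOf chevD4).co i (Pi.single j 1) = cartD4 i j :=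
  co_eq_of_chk cartD4_chk i j

theorem orbD4_chk0 : orbD4_0.chk cartD4 4 (fun i => Nat.blt i 0) (fun i => Nat.blt i 1)
    expD4 = true := by decide +kernel

theorem orbD4_chk1 : orbD4_1.chk cartD4 4 (fun i => Nat.blt i 1) (fun i => Nat.blt i 2)
    expD4 = true := by decide +kernel

theorem orbD4_chk2 : orbD4_2.chk cartD4 4 (fun i => Nat.blt i 2) (fun i => Nat.blt i 3)
    expD4 = true := by decide +kernel

theorem orbD4_chk3 : orbD4_3.chk cartD4 4 (fun i => Nat.blt i 3) (fun i => Nat.blt i 4)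
    expD4 = true := by decide +kernel

theorem orbD4_chk : ∀ n < chevD4.rank, (orbD4 n).chk cartD4 chevD4.rank (fun i => Nat.blt i n)
    (fun i => Nat.blt i (n + 1)) expD4 = true := by
  intro n hn
  change n < 4 at hn
  interval_cases n
  exacts [orbD4_chk0, orbD4_chk1, orbD4_chk2, orbD4_chk3]

theorem finsum_D4 {M : Type*} [CommSemiring M] {x y : M} {f : (rsOf chevD4).W → M}
    (hf : (rsOf chevD4).LM (fun i => x ^ (expD4 i).1 * y ^ (expD4 i).2) f) :
    ∑ᶠ w, f w = orbD4_0.poly x y * orbD4_1.poly x y * orbD4_2.poly x y * orbD4_3.poly x y := by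
  rw [Orb.finsum_chain cartD4_eq hf orbD4 orbD4_chk]
  change ∏ n ∈ Finset.range 4, _ = _
  simp only [Finset.prod_range_succ, Finset.range_zero, Finset.prod_empty, one_mul]
  rfl

theorem poin_D4 (q : ℕ) : ((rsOf chevD4).poin Set.univ q : ℤ) * (q - 1) ^ 4 =
    (q ^ 2 - 1) * (q ^ 4 - 1) * (q ^ 4 - 1) * (q ^ 6 - 1) := by
  rw [poin_cast, finsum_D4 (lm_exp (q : ℤ) (by decide))]
  simp only [Orb.poly, orbD4_0, orbD4_1, orbD4_2, orbD4_3, pOrb, List.map_cons, List.map_nil,
    List.sum_cons, List.sum_nil]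
  push_cast
  ring

theorem card_W_D4 : Nat.card (rsOf chevD4).W = 192 := by
  rw [card_W_eq, finsum_D4 (lm_exp (1 : ℕ) (by decide))]
  decide +kernel

theorem coxeter_D4 : ∃ cs : CoxeterSystem coxeterD4 (rsOf chevD4).W,
    ∀ i, cs.simple i = (rsOf chevD4).s i :=
  RS.exists_coxeterSystem cartD4_eq coxeterD4 (show ∀ i j : Fin 4,
    (ordChk cartD4 4 [i, j] (coxeterD4 i j - 1) && Nat.blt 0 (coxeterD4 i j)) = true by
      decide +kernel)

theorem coxeterElt_D4 : orderOf (wprod (rsOf chevD4).s (List.finRange _)) = 6 :=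
  RS.orderOf_wprod cartD4_eq (n := 5) (by decide +kernel)

end Cfsg.Agent.H12
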