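import Mathlib
import Cfsg.Agent.H12.Weyl
import Cfsg.Agent.H12.DataE6

/-! The Weyl group of type E6: Coxeter system, Poincaré polynomial. -/

set_option autoImplicit false
set_option maxRecDepth 100000

namespace Cfsg.Agent.H12

open Cfsg.Lie

/-- the Cartan matrix -/
def cartE6 (i j : ℕ) : ℤ :=
  Int.subNatNat (fld (fld 0xa788887a788887a778887a878878a888878a 24 i) 4 j) 8

/-- the exponents attached to the nodes: `(1, 0)` long, `(0, 1)` short -/
def expE6 (i : ℕ) : ℕ × ℕ := [(1, 0), (1, 0), (1, 0), (1, 0), (1, 0), (1, 0)].getD i (1, 0)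

/-- orbit certificate -/
def orbE6_0 : Orb ℤ :=
  pOrb 6 2 0x888887888889 0x1 0x0 0x0 0x10000
    [(1, 0, 0), (1, 1, 0)]

/-- orbit certificate -/
def orbE6_1 : Orb ℤ :=
  pOrb 6 2 0x888878888898 0x100 0x0 0x10 0x10000
    [(1, 0, 0), (1, 1, 0)]

/-- orbit certificate -/
def orbE6_2 : Orb ℤ :=
  pOrb 6 3 0x888887888789888988 0x2000000010000 0x10000 0x20 0x200010000
    [(1, 0, 0), (1, 1, 0), (1, 2, 0)]

/-- orbit certificate -/
def orbE6_3 : Orb ℤ :=
  pOrb 6 10 0x888788887987887889889877888897889779888799888978887998889888 0x90000000000000008000008000000000000000600000007000006000000000405000000040000000000030200000001000000 0x8060404030201010000 0x2330022130 0x6000500040004000300030002000200010000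
    [(1, 0, 0), (1, 1, 0), (2, 2, 0), (2, 3, 0), (2, 4, 0), (1, 5, 0), (1, 6, 0)]

/-- orbit certificate -/
def orbE6_4 : Orb ℤ :=
  pOrb 6 16 0x888878887898879788878987898788878889897987897889889877888897889779888799888978887998879888898888 0xf0000000e0000000000000d0000000d0000000000000000000c000c000b0000000a00000009000009000000000000000700000008000007000000000506000000050000000000040300000002000000000100000000 0xe0d0b09090807050504030202010000 0x1344243300221340 0xa000900080007000700060006000500050004000400030003000200010000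
    [(1, 0, 0), (1, 1, 0), (1, 2, 0), (2, 3, 0), (2, 4, 0), (2, 5, 0), (2, 6, 0), (2, 7, 0), (1, 8, 0), (1, 9, 0), (1, 10, 0)]

/-- orbit certificate -/
def orbE6_5 : Orb ℤ :=
  pOrb 6 27 0x888887888789887988879878878898798878797898988878789788987898788987979788788889978987898788978889897987897889889877888897889779888799888978887998879888798888988888 0x1a0000001900000000180000000000000017000017000000000016000015001500000000000000140000001400000013000000001200001200110000000000000000101000000f0000000f000000000e000000000d000d000c0000000b0000000a00000a000000000000000800000009000008000000000607000000060000000000050400000003000000000200000000010000000000 0x19181715141311110f0f0d0c0b0a0a090806060504030302010000 0x23445515354542433002213450 0x10000f000e000d000c000c000b000b000a000a00090009000800080008000700070006000600050005000400040003000200010000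
    [(1, 0, 0), (1, 1, 0), (1, 2, 0), (1, 3, 0), (2, 4, 0), (2, 5, 0), (2, 6, 0), (2, 7, 0), (3, 8, 0), (2, 9, 0), (2, 10, 0), (2, 11, 0), (2, 12, 0), (1, 13, 0), (1, 14, 0), (1, 15, 0), (1, 16, 0)]

/-- orbit certificates -/
def orbE6 (n : ℕ) : Orb ℤ := [orbE6_0, orbE6_1, orbE6_2, orbE6_3, orbE6_4, orbE6_5].getD n orbE6_0

theorem cartE6_chk : cartanChk chevE6 cartE6 = true := by decide +kernel

theorem cartE6_eq (i j : Fin chevE6.rank) : (rsOf chevE6).co i (Pi.single j 1) = cartE6 i j :=
  co_eq_of_chk cartE6_chk i j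

theorem orbE6_chk0 : orbE6_0.chk cartE6 6 (fun i => Nat.blt i 0) (fun i => Nat.blt i 1)
    expE6 = true := by decide +kernel

theorem orbE6_chk1 : orbE6_1.chk cartE6 6 (fun i => Nat.blt i 1) (fun i => Nat.blt i 2)
    expE6 = true := by decide +kernel

theorem orbE6_chk2 : orbE6_2.chk cartE6 6 (fun i => Nat.blt i 2) (fun i => Nat.blt i 3)
    expE6 = true := by decide +kernel

theorem orbE6_chk3 : orbE6_3.chk cartE6 6 (fun i => Nat.blt i 3) (fun i => Nat.blt i 4)
    expE6 = true := by decide +kernel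

theorem orbE6_chk4 : orbE6_4.chk cartE6 6 (fun i => Nat.blt i 4) (fun i => Nat.blt i 5)
    expE6 = true := by decide +kernel

theorem orbE6_chk5 : orbE6_5.chk cartE6 6 (fun i => Nat.blt i 5) (fun i => Nat.blt i 6)
    expE6 = true := by decide +kernel

theorem orbE6_chk : ∀ n < chevE6.rank, (orbE6 n).chk cartE6 chevE6.rank (fun i => Nat.blt i n)
    (fun i => Nat.blt i (n + 1)) expE6 = true := by
  intro n hn
  change n < 6 at hn
  interval_cases n
  exacts [orbE6_chk0, orbE6_chk1, orbE6_chk2, orbE6_chk3, orbE6_chk4, orbE6_chk5]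

theorem finsum_E6 {M : Type*} [CommSemiring M] {x y : M} {f : (rsOf chevE6).W → M}
    (hf : (rsOf chevE6).LM (fun i => x ^ (expE6 i).1 * y ^ (expE6 i).2) f) :
    ∑ᶠ w, f w = orbE6_0.poly x y * orbE6_1.poly x y * orbE6_2.poly x y * orbE6_3.poly x y * orbE6_4.poly x y * orbE6_5.poly x y := by
  rw [Orb.finsum_chain cartE6_eq hf orbE6 orbE6_chk]
  change ∏ n ∈ Finset.range 6, _ = _
  simp only [Finset.prod_range_succ, Finset.range_zero, Finset.prod_empty, one_mul]
  rfl

theorem poin_E6 (q : ℕ) : ((rsOf chevE6).poin Set.univ q : ℤ) * (q - 1) ^ 6 =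
    (q ^ 2 - 1) * (q ^ 5 - 1) * (q ^ 6 - 1) * (q ^ 8 - 1) * (q ^ 9 - 1) * (q ^ 12 - 1) := by
  rw [poin_cast, finsum_E6 (lm_exp (q : ℤ) (by decide))]
  simp only [Orb.poly, orbE6_0, orbE6_1, orbE6_2, orbE6_3, orbE6_4, orbE6_5, pOrb, List.map_cons, List.map_nil,
    List.sum_cons, List.sum_nil]
  push_cast
  ring

theorem card_W_E6 : Nat.card (rsOf chevE6).W = 51840 := by
  rw [card_W_eq, finsum_E6 (lm_exp (1 : ℕ) (by decide))]
  decide +kernel

theorem coxeter_E6 : ∃ cs : CoxeterSystem CoxeterMatrix.E₆ (rsOf chevE6).W,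
    ∀ i, cs.simple i = (rsOf chevE6).s i :=
  RS.exists_coxeterSystem cartE6_eq CoxeterMatrix.E₆ (show ∀ i j : Fin 6,
    (ordChk cartE6 6 [i, j] (CoxeterMatrix.E₆ i j - 1) && Nat.blt 0 (CoxeterMatrix.E₆ i j)) = true by
      decide +kernel)

theorem coxeterElt_E6 : orderOf (wprod (rsOf chevE6).s (List.finRange _)) = 12 :=
  RS.orderOf_wprod cartE6_eq (n := 11) (by decide +kernel)

end Cfsg.Agent.H12
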