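import Mathlib
import Cfsg.Agent.H12.Weyl
import Cfsg.Agent.H12.DataF4

/-! The Weyl group of type F4: Coxeter system, Poincaré polynomial. -/

set_option autoImplicit false
set_option maxRecDepth 100000

namespace Cfsg.Agent.H12

open Cfsg.Lie

/-- the Cartan matrix -/
def cartF4 (i j : ℕ) : ℤ :=
  Int.subNatNat (fld (fld 0xa7887a7886a7887a 16 i) 4 j) 8

/-- the exponents attached to the nodes: `(1, 0)` long, `(0, 1)` short -/
def expF4 (i : ℕ) : ℕ × ℕ := [(0, 1), (0, 1), (1, 0), (1, 0)].getD i (1, 0)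

/-- orbit certificate -/
def orbF4_0 : Orb ℤ :=
  pOrb 4 2 0x88878889 0x1 0x0 0x0 0x1000000
    [(1, 0, 0), (1, 0, 1)]

/-- orbit certificate -/
def orbF4_1 : Orb ℤ :=
  pOrb 4 3 0x888788798898 0x200000100 0x10000 0x10 0x20001000000
    [(1, 0, 0), (1, 0, 1), (1, 0, 2)]

/-- orbit certificate -/
def orbF4_2 : Orb ℤ :=
  pOrb 4 8 0x87888978879787898987897987988988 0x70000000006000000000500050000000400030000020000010000 0x605030202010000 0x21220120 0x3030302020201020201010100010000
    [(1, 0, 0), (1, 1, 0), (1, 1, 1), (1, 1, 2), (1, 2, 1), (1, 2, 2), (1, 2, 3), (1, 3, 3)]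

/-- orbit certificate -/
def orbF4_3 : Orb ℤ :=
  pOrb 4 24 0x7888978889788797878979877979988777989879969869887a78a7887897997878899797978989878979879879889888 0x1700000000160000000015000000001400140000001300121200000000001100110000100f000e00000f0000000d00000c00000000000b000b0a00000000000909000800070000060006000000050004000003000002000001000000 0x1615141211100e0e0c0d0b0a080806060504030302010000 0x321223302123323132201230 0x60906080607050704070506040605050306040503050305030403040204030301040203010302020102000200010000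
    [(1, 0, 0), (1, 1, 0), (1, 2, 0), (1, 2, 1), (1, 2, 2), (1, 3, 1), (1, 3, 2), (1, 4, 1), (1, 3, 3), (1, 4, 2), (2, 4, 3), (2, 5, 3), (1, 5, 4), (1, 6, 3), (1, 5, 5), (1, 6, 4), (1, 6, 5), (1, 7, 4), (1, 7, 5), (1, 7, 6), (1, 8, 6), (1, 9, 6)]

/-- orbit certificates -/
def orbF4 (n : ℕ) : Orb ℤ := [orbF4_0, orbF4_1, orbF4_2, orbF4_3].getD n orbF4_0

theorem cartF4_chk : cartanChk chevF4 cartF4 = true := by decide +kernel

theorem cartF4_eq (i j : Fin chevF4.rank) : (rsOf chevF4).co i (Pi.single j 1) = cartF4 i j :=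
  co_eq_of_chk cartF4_chk i j

theorem orbF4_chk0 : orbF4_0.chk cartF4 4 (fun i => Nat.blt i 0) (fun i => Nat.blt i 1)
    expF4 = true := by decide +kernel

theorem orbF4_chk1 : orbF4_1.chk cartF4 4 (fun i => Nat.blt i 1) (fun i => Nat.blt i 2)
    expF4 = true := by decide +kernel

theorem orbF4_chk2 : orbF4_2.chk cartF4 4 (fun i => Nat.blt i 2) (fun i => Nat.blt i 3)
    expF4 = true := by decide +kernel

theorem orbF4_chk3 : orbF4_3.chk cartF4 4 (fun i => Nat.blt i 3) (fun i => Nat.blt i 4)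
    expF4 = true := by decide +kernel

theorem orbF4_chk : ∀ n < chevF4.rank, (orbF4 n).chk cartF4 chevF4.rank (fun i => Nat.blt i n)
    (fun i => Nat.blt i (n + 1)) expF4 = true := by
  intro n hn
  change n < 4 at hn
  interval_cases n
  exacts [orbF4_chk0, orbF4_chk1, orbF4_chk2, orbF4_chk3]

theorem finsum_F4 {M : Type*} [CommSemiring M] {x y : M} {f : (rsOf chevF4).W → M}
    (hf : (rsOf chevF4).LM (fun i => x ^ (expF4 i).1 * y ^ (expF4 i).2) f) :
    ∑ᶠ w, f w = orbF4_0.poly x y * orbF4_1.poly x y * orbF4_2.poly x y * orbF4_3.poly x y := by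
  rw [Orb.finsum_chain cartF4_eq hf orbF4 orbF4_chk]
  change ∏ n ∈ Finset.range 4, _ = _
  simp only [Finset.prod_range_succ, Finset.range_zero, Finset.prod_empty, one_mul]
  rfl

theorem poin_F4 (q : ℕ) : ((rsOf chevF4).poin Set.univ q : ℤ) * (q - 1) ^ 4 =
    (q ^ 2 - 1) * (q ^ 6 - 1) * (q ^ 8 - 1) * (q ^ 12 - 1) := by
  rw [poin_cast, finsum_F4 (lm_exp (q : ℤ) (by decide))]
  simp only [Orb.poly, orbF4_0, orbF4_1, orbF4_2, orbF4_3, pOrb, List.map_cons, List.map_nil,
    List.sum_cons, List.sum_nil]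
  push_cast
  ring

theorem card_W_F4 : Nat.card (rsOf chevF4).W = 1152 := by
  rw [card_W_eq, finsum_F4 (lm_exp (1 : ℕ) (by decide))]
  decide +kernel

theorem coxeter_F4 : ∃ cs : CoxeterSystem CoxeterMatrix.F₄ (rsOf chevF4).W,
    ∀ i, cs.simple i = (rsOf chevF4).s i :=
  RS.exists_coxeterSystem cartF4_eq CoxeterMatrix.F₄ (show ∀ i j : Fin 4,
    (ordChk cartF4 4 [i, j] (CoxeterMatrix.F₄ i j - 1) && Nat.blt 0 (CoxeterMatrix.F₄ i j)) = true by
      decide +kernel)

theorem coxeterElt_F4 : orderOf (wprod (rsOf chevF4).s (List.finRange _)) = 12 :=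
  RS.orderOf_wprod cartF4_eq (n := 11) (by decide +kernel)

end Cfsg.Agent.H12
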