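import Mathlib
import Cfsg.Agent.H12.Torus
import Cfsg.Agent.H12.ChevAll
import Cfsg.Agent.H12.WeylG2
import Cfsg.Agent.H12.WeylB2
import Cfsg.Agent.H12.WeylD4
import Cfsg.Agent.H12.WeylF4
import Cfsg.Agent.H12.WeylE6
import Cfsg.Agent.H12.WeylE7
import Cfsg.Agent.H12.WeylE8

/-!
The fundamental groups of the seven data.
-/

set_option autoImplicit false
set_option maxRecDepth 100000

namespace Cfsg.Agent.H12

open Cfsg.Lie

theorem kerChk_G2 : kerChk cartG2 chevG2.rank 0 1 (fun i => [1, 0].getD i 0)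
    (fun i => [0, 1].getD i 0) 1 1
    (fun i j => ([[0, 0], [0, 0]].getD i []).getD j 0)
    (fun i => [2, 1].getD i 0) (fun i => [3, 2].getD i 0) = true := by
  decide +kernel

theorem kerChk_B2 : kerChk cartB2 chevB2.rank 0 1 (fun i => [1, 0].getD i 0)
    (fun i => [0, 1].getD i 0) 2 1
    (fun i j => ([[0, 0], [0, 0]].getD i []).getD j 0)
    (fun i => [2, 1].getD i 0) (fun i => [1, 1].getD i 0) = true := by
  decide +kernel

theorem kerChk_D4 : kerChk cartD4 chevD4.rank 0 2 (fun i => [1, 0, 0, 1].getD i 0)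
    (fun i => [0, 0, 1, 1].getD i 0) 2 2
    (fun i j => ([[0, 0, 0, 0], [1, 2, 1, 1], [0, 0, 0, 0], [-1, -1, -1, 0]].getD i []).getD j 0)
    (fun i => [2, 2, 1, 1].getD i 0) (fun i => [1, 2, 2, 1].getD i 0) = true := by
  decide +kernel

theorem kerChk_F4 : kerChk cartF4 chevF4.rank 0 1 (fun i => [1, 0, 0, 0].getD i 0)
    (fun i => [0, 1, 0, 0].getD i 0) 1 1
    (fun i j => ([[0, 0, 0, 0], [0, 0, 0, 0], [4, 8, 6, 3], [2, 4, 3, 2]].getD i []).getD j 0)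
    (fun i => [2, 3, 2, 1].getD i 0) (fun i => [3, 6, 4, 2].getD i 0) = true := by
  decide +kernel

theorem kerChk_E6 : kerChk cartE6 chevE6.rank 0 1 (fun i => [1, 0, 2, 0, 1, 2].getD i 0)
    (fun i => [0, 1, 0, 0, 0, 0].getD i 0) 3 1
    (fun i j => ([[0, 0, 0, 0, 0, 0], [0, 0, 0, 0, 0, 0], [-1, 0, 0, 0, 0, 0], [2, 3, 4, 6, 4, 2], [0, 1, 1, 2, 2, 1], [-2, -1, -2, -2, -1, 0]].getD i []).getD j 0)
    (fun i => [4, 3, 5, 6, 4, 2].getD i 0) (fun i => [1, 2, 2, 3, 2, 1].getD i 0) = true := by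
  decide +kernel

theorem kerChk_E7 : kerChk cartE7 chevE7.rank 1 0 (fun i => [0, 1, 0, 0, 1, 0, 1].getD i 0)
    (fun i => [1, 0, 0, 0, 0, 0, 0].getD i 0) 2 1
    (fun i j => ([[0, 0, 0, 0, 0, 0, 0], [0, 0, 0, 0, 0, 0, 0], [3, 4, 6, 8, 6, 4, 2], [4, 6, 8, 12, 9, 6, 3], [1, 1, 2, 3, 3, 2, 1], [2, 3, 4, 6, 5, 4, 2], [-1, -2, -2, -3, -2, -1, 0]].getD i []).getD j 0)
    (fun i => [4, 7, 8, 12, 9, 6, 3].getD i 0) (fun i => [2, 2, 3, 4, 3, 2, 1].getD i 0) = true := by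
  decide +kernel

theorem kerChk_E8 : kerChk cartE8 chevE8.rank 0 1 (fun i => [1, 0, 0, 0, 0, 0, 0, 0].getD i 0)
    (fun i => [0, 1, 0, 0, 0, 0, 0, 0].getD i 0) 1 1
    (fun i j => ([[0, 0, 0, 0, 0, 0, 0, 0], [0, 0, 0, 0, 0, 0, 0, 0], [7, 10, 14, 20, 16, 12, 8, 4], [10, 15, 20, 30, 24, 18, 12, 6], [8, 12, 16, 24, 20, 15, 10, 5], [6, 9, 12, 18, 15, 12, 8, 4], [4, 6, 8, 12, 10, 8, 6, 3], [2, 3, 4, 6, 5, 4, 3, 2]].getD i []).getD j 0)
    (fun i => [4, 5, 7, 10, 8, 6, 4, 2].getD i 0) (fun i => [5, 8, 10, 15, 12, 9, 6, 3].getD i 0) = true := by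
  decide +kernel


variable {F : Type*} [Field F]

theorem card_hT_ker_G2 [Finite F] : Nat.card (hT chevG2 F).ker = 1 := by
  rw [hT_ker cartG2_chk, card_cker kerChk_G2, Nat.card_units]
  simp

theorem card_hT_ker_B2 [Finite F] : Nat.card (hT chevB2 F).ker = Nat.gcd 2 (Nat.card F - 1) := by
  rw [hT_ker cartB2_chk, card_cker kerChk_B2, Nat.card_units]
  simp

theorem card_hT_ker_D4 [Finite F] : Nat.card (hT chevD4 F).ker = Nat.gcd 2 (Nat.card F - 1) ^ 2 := by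
  rw [hT_ker cartD4_chk, card_cker kerChk_D4, Nat.card_units]
  simp [sq]

theorem card_hT_ker_F4 [Finite F] : Nat.card (hT chevF4 F).ker = 1 := by
  rw [hT_ker cartF4_chk, card_cker kerChk_F4, Nat.card_units]
  simp

theorem card_hT_ker_E6 [Finite F] : Nat.card (hT chevE6 F).ker = Nat.gcd 3 (Nat.card F - 1) := by
  rw [hT_ker cartE6_chk, card_cker kerChk_E6, Nat.card_units]
  simp

theorem card_hT_ker_E7 [Finite F] : Nat.card (hT chevE7 F).ker = Nat.gcd 2 (Nat.card F - 1) := by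
  rw [hT_ker cartE7_chk, card_cker kerChk_E7, Nat.card_units]
  simp

theorem card_hT_ker_E8 [Finite F] : Nat.card (hT chevE8 F).ker = 1 := by
  rw [hT_ker cartE8_chk, card_cker kerChk_E8, Nat.card_units]
  simp

theorem hT_ker_G2 : (hT chevG2 F).ker = ⊥ := by
  rw [hT_ker cartG2_chk, cker_eq_bot kerChk_G2]

theorem hT_ker_F4 : (hT chevF4 F).ker = ⊥ := by
  rw [hT_ker cartF4_chk, cker_eq_bot kerChk_F4]

theorem hT_ker_E8 : (hT chevE8 F).ker = ⊥ := by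
  rw [hT_ker cartE8_chk, cker_eq_bot kerChk_E8]

theorem cast_pow_sub_one {q : ℕ} (hq : 0 < q) (k : ℕ) : ((q ^ k - 1 : ℕ) : ℤ) = (q : ℤ) ^ k - 1 := by
  rw [Nat.cast_sub (Nat.one_le_pow _ _ hq)]; simp

end Cfsg.Agent.H12
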