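import Mathlib
import Cfsg.Agent.H12.AeD2b
import Cfsg.Agent.H10.SL
import Cfsg.Agent.H14.M24f
import Cfsg.Agent.S3344

/-!
The quoted recognition theorem, and the passage from the amalgam to the copy of `A₈`.
-/

set_option autoImplicit false
set_option linter.unusedVariables false

namespace Cfsg.Agent.H12.Ae

open Subgroup Equiv

theorem d3_l27 : Nat.card (Matrix.ProjectiveSpecialLinearGroup (Fin 2) (ZMod 7)) = 168 := by
  haveI : Fact (Nat.Prime 7) := ⟨by norm_num⟩
  have := H10.card_PSL_two (F := ZMod 7)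
  rw [ZMod.card, show Nat.gcd 2 (7 - 1) = 2 from rfl] at this
  exact Nat.eq_of_mul_eq_mul_left Nat.two_pos (this.trans (by norm_num))

theorem d3_l32 : Nat.card (Matrix.ProjectiveSpecialLinearGroup (Fin 3) (ZMod 2)) = 168 := by
  have h1 := H10.card_PSL_fin (F := ZMod 2) 3 (by norm_num)
  have h2 := H10.card_SL_fin (F := ZMod 2) 3 (by norm_num)
  rw [ZMod.card] at h1 h2
  rw [← h1, Fin.prod_univ_three] at h2
  simpa using h2

theorem d3_a9 : Nat.card (alternatingGroup (Fin 9)) = 181440 := by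
  have := two_mul_nat_card_alternatingGroup (α := Fin 9)
  rw [Nat.card_perm, Nat.card_fin] at this
  simp only [Nat.factorial] at this
  omega

theorem d3_h44 (G : Type*) [Group G] [Finite G] : H44 G := by
  intro s hs L hL Q hQ hQex hQcard e X hCQX hnwc
  rcases S3344.result s hs L hL Q hQ hQex hQcard e X hCQX hnwc with
    ⟨N, hN, -, -, c8, ⟨e1⟩⟩ | h | ⟨⟨e1⟩⟩ | ⟨⟨e1⟩⟩
  · left
    rw [← N.card_mul_index, c8, index_eq_card, Nat.card_congr e1.toEquiv, d3_l32]
  · exact Or.inr (Or.inl h)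
  · exact Or.inr (Or.inr (Or.inl ((Nat.card_congr e1.toEquiv).trans d3_a9)))
  · exact Or.inr (Or.inr (Or.inr ((Nat.card_congr e1.toEquiv).trans H14.card_M12)))

theorem d3_sd {G : Type*} [Group G] {ε ε' : E35 →* G} {σ : G} (h : SA ε σ)
    (hU : ∀ g, Commute g (ε u1E) → Commute g (ε u2E) →
      g ∈ closure {ε u1E, ε u2E, ε' u1E, ε' u2E, ε zE})
    (hf : ∃ f : alternatingGroup (Fin 8) →* G, Function.Injective f ∧
      f z0 = ε zE ∧ f z0' = ε zE' ∧ f u1 = ε u1E ∧ f u2 = ε u2E ∧ f w1 = ε' u1E ∧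
      f w2 = ε' u2E) : ∃ f : alternatingGroup (Fin 8) →* G, SD f := by
  obtain ⟨f, hi, a1, a2, a3, a4, a5, a6⟩ := hf
  refine ⟨f, hi, fun g h1 h2 => ?_, by rw [a1, a2]; exact h.cy, by rw [a1]; exact h.cz, h.syl⟩
  rw [a3] at h1
  rw [a4] at h2
  rw [MonoidHom.map_closure]
  simp only [Set.image_insert_eq, Set.image_singleton, a1, a3, a4, a5, a6]
  exact hU g h1 h2

end Cfsg.Agent.H12.Ae
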