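import Mathlib
import Cfsg.Agent.H12.Stb2
import Cfsg.Agent.H12.ChevAll
import Cfsg.Agent.H12.Aut1

/-! The Steinberg character of the tabulated Chevalley groups. -/

set_option autoImplicit false

namespace Cfsg.Agent.H12

open Cfsg.Lie
open scoped Classical

variable {D : ChevalleyDatum} [Good D] {F : Type*} [Field F]

theorem steinbergCharacter_eq [Fintype (D.group F)] :
    D.steinbergCharacter F = (grpRGD D F).stc := by
  ext g
  rw [RGD.stc_apply, ChevalleyDatum.steinbergCharacter, eq_comm]
  refine Finset.sum_nbij (fun K => K.map Fin.valEmbedding) (fun K _ => ?_)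
    (fun K _ L _ h => Finset.map_injective _ h) (fun J hJ => ?_) fun K _ => ?_
  · simp only [Finset.mem_powerset, Finset.subset_iff, Finset.mem_map, Finset.mem_range]
    rintro _ ⟨i, -, rfl⟩; exact i.2
  · refine ⟨Finset.univ.filter fun i => i.1 ∈ J, by simp, ?_⟩
    ext j
    simp only [Finset.mem_map, Finset.mem_filter, Finset.mem_univ, true_and, Fin.valEmbedding_apply]
    exact ⟨fun ⟨i, hi, h⟩ => h ▸ hi, fun h =>
      ⟨⟨j, Finset.mem_range.1 (Finset.mem_powerset.1 hJ h)⟩, h, rfl⟩⟩
  · rw [Finset.card_map, ChevalleyDatum.parabolicIn, ← grpRGD_PJ, fx_univ]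
    congr 3
    ext i
    simp [Fin.val_inj]

theorem grp_card_U (r : Fin D.nroots) : Nat.card ((grpRGD D F).U r) = Nat.card F := by
  rw [grpRGD_U, ← chev_card_U (D := D) (F := F) r]
  exact Nat.card_congr (Subgroup.subgroupOfEquivOfLe (group_eq.ge.trans' (RGD.U_le_grp r))).toEquiv

theorem grp_card_Up : Nat.card (grpRGD D F).Up = Nat.card F ^ (D.nroots / 2) := by
  rw [RGD.Up, RGD.card_US_of_eq grp_card_U (rsOf D).closed_pos fun _ h => h, ncard_pos]

end Cfsg.Agent.H12
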