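import Mathlib
import Cfsg.Agent.H12.CR4
import Cfsg.Agent.H12.Stb3
import Cfsg.Agent.H8.Height
import Cfsg.Agent.H9.Dict
import Cfsg.Agent.H7.GlCyc

/-! The blocks in the defining characteristic of a group with a split BN-pair. -/

set_option autoImplicit false
set_option linter.unusedSectionVars false

namespace Cfsg.Agent.H12

open MonoidAlgebra Cfsg.Lie Cfsg.Agent.H9

theorem sum_eq_zero_of_free {H α M : Type*} [Group H] [Fintype H] [Fintype α] [AddCommMonoid M]
    (act : H → α → α) (h1 : ∀ a, act 1 a = a) (h2 : ∀ g h a, act (g * h) a = act g (act h a))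
    (f : α → M) (h : ∀ a, (∀ g, f (act g a) = 0) ∨
      (∀ g, act g a = a → g = 1) ∧ ∑ g, f (act g a) = 0) : ∑ a, f a = 0 := by
  classical
  let _ : MulAction H α := { smul := act, one_smul := h1, mul_smul := h2 }
  rw [← Finset.sum_fiberwise Finset.univ (Quotient.mk (MulAction.orbitRel H α))]
  refine Finset.sum_eq_zero fun ω _ => ?_
  obtain ⟨a, rfl⟩ := ω.exists_rep
  rcases h a with h | ⟨h, h'⟩
  · refine Finset.sum_eq_zero fun b hb => ?_
    obtain ⟨g, rfl⟩ := Quotient.exact (Finset.mem_filter.1 hb).2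
    exact h g
  · refine Eq.trans (Finset.sum_bij (fun g _ => act g a) (fun g _ => ?_) (fun g _ g' _ e => ?_)
      (fun b hb => ?_) fun _ _ => rfl).symm h'
    · exact Finset.mem_filter.2 ⟨Finset.mem_univ _, Quotient.sound ⟨g, rfl⟩⟩
    · exact (inv_mul_eq_one.1 (h _ (by rw [h2, ← e, ← h2, inv_mul_cancel, h1])))
    · obtain ⟨g, rfl⟩ := Quotient.exact (Finset.mem_filter.1 hb).2
      exact ⟨g, Finset.mem_univ _, rfl⟩

theorem hat_eq_zero_of_le {F V G : Type*} [Field F] [AddCommGroup V] [Module F V] [Group G]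
    [Finite G] {ρ : G →* Module.End F V} {H L : Subgroup G} (h : H ≤ L) {v : V}
    (hv : hat ρ H v = 0) : hat ρ L v = 0 := by
  have := Fintype.ofFinite H
  have := Fintype.ofFinite L
  rw [hat_apply] at hv ⊢
  refine sum_eq_zero_of_free (H := H) (fun u a => a * ⟨u, h u.2⟩⁻¹) (by simp)
    (fun _ _ _ => Subtype.ext (by simp [mul_assoc])) _ fun a => .inr ⟨fun g e =>
      Subtype.ext (congrArg Subtype.val (inv_eq_one.1 (mul_eq_left.1 e)) :), ?_⟩
  rw [← map_zero (ρ a), ← hv, map_sum]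
  exact Fintype.sum_equiv (Equiv.inv H) _ _ fun u => (rho_mul ..).symm

namespace RGD

variable {Φ I k : Type*} [DecidableEq I] [CommRing k] [LinearOrder k] {R : RS Φ I k}
  {G : Type*} [Group G] {X : RGD R G} [IsStrictOrderedRing k] [Fintype I] [Finite Φ] [Finite G]
  {F V : Type*} [Field F] [AddCommGroup V] [Module F V] {ρ : G →* Module.End F V}
  {p : ℕ} [Fact p.Prime] [_root_.CharP F p] {χ : X.T →* Fˣ} {μ : I → F} {v : V}

theorem Wv.hat_rep (h : X.Wv ρ χ μ v) (w : R.W) : ∀ n, X.Rep n w →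
    ∃ c : F, hat ρ (X.US (R.invSet w⁻¹)) (ρ n v) = c • v := by
  induction w using R.induction_left with
  | one =>
    intro n hn
    exact ⟨_, by rw [inv_one, R.invSet_one, US_empty, hat_bot]; exact h.tor ⟨n, hn.mem_T⟩⟩
  | step i w hw ih =>
    intro n hn
    obtain ⟨c, hc⟩ := ih _ (by simpa [← mul_assoc, R.s_mul_s] using (rep_m_inv i).mul hn)
    refine ⟨c * μ i, ?_⟩
    rw [← mul_inv_cancel_left (X.m i) n, ← rho_mul, ← aop_hat hw, hc, aop_smul, h.op, smul_smul]

theorem Wv.hat_eq_zero (top : X.grp = ⊤) (hp : X.CharP p) (h : X.Wv ρ χ μ v) {i : I}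
    (hi : μ i = 0) (g : G) : hat ρ X.Up (ρ g v) = 0 := by
  obtain ⟨w, b, hb, n, hn, b', hb', rfl⟩ := mem_grp_iff.1 (top.ge (Subgroup.mem_top g))
  obtain ⟨u, hu, t, ht, rfl⟩ := mem_B.1 hb
  obtain ⟨u', hu', t', ht', rfl⟩ := mem_B.1 hb'
  have hn' := (hn.T_mul ht).mul_T ht'
  rw [show u * t * n * (u' * t') = u * (t * n * t' * (t'⁻¹ * u' * t'⁻¹⁻¹)) by group, ← rho_mul,
    hat_mul hu, ← rho_mul, h.fix (T_conj_US (inv_mem ht') hu')]
  generalize t * n * t' = n at hn'
  by_cases hw : ∃ j, R.Pos (w⁻¹ • R.simple j)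
  · obtain ⟨j, hj⟩ := hw
    refine hat_eq_zero_of_le (U_le_Up (R.pos_simple j)) (H12.hat_eq_zero (hp.pU _) (U_ne_bot _)
      fun a ha => ?_)
    conv_rhs => rw [← h.fix (U_le_Up hj (hn'.conj_U' ha)), rho_mul]
    rw [rho_mul, ← mul_assoc, ← mul_assoc, mul_inv_cancel, one_mul]
  obtain rfl : w = R.w0 := by
    rw [← mul_inv_eq_one, ← inv_inj, mul_inv_rev, inv_inv, inv_one]
    exact R.eq_one_of_pos fun j => by rw [mul_smul, R.pos_w0_iff]; exact fun h => hw ⟨j, h⟩
  obtain ⟨c, hc⟩ := h.hat_rep _ _ ((rep_m_inv i).mul hn')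
  have h1 := aop_hat (X := X) (ρ := ρ) (w := R.s i * R.w0) (i := i) (by
    rw [mul_inv_rev, R.w0_inv, R.s_inv, mul_smul, R.pos_w0_iff, R.s_smul, R.sref_simple]
    exact R.not_pos_neg_simple i) (ρ ((X.m i)⁻¹ * n) v)
  rw [hc, aop_smul, h.op, hi, zero_smul, smul_zero, ← mul_assoc, R.s_mul_s, one_mul, R.w0_inv,
    R.invSet_w0, rho_mul, mul_inv_cancel_left] at h1
  exact h1.symm

/-- a block of defect zero contains a simple module with the weight of the Steinberg module -/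
theorem Cor.exists_wv_of_isDef [IsAlgClosed F] {Γ : Type*} [Group Γ] (C : X.Cor Γ) (top : X.grp = ⊤)
    (hp : X.CharP p) (hT : ∀ s ∈ X.T, ∀ t ∈ X.T, s * t = t * s)
    (hC : ∀ χ : X.T →* Fˣ, (∀ i, χ.comp (C.h i) = 1) → χ = 1) (W : Wed F F[G]) {b : F[G]}
    (hb : IsBlk ⊤ b) (hD : IsDef p ⊤ b ⊥) :
    ∃ i v, X.Wv (W.rep i) 1 (fun _ => -1) v ∧ W.alg i b = 1 := by
  have := Fintype.ofFinite G
  have := Fintype.ofFinite X.Up
  obtain ⟨i, hi⟩ : ∃ i, W.alg i b ≠ 0 := by
    by_contra! h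
    refine hb.not_nilpotent (W.nil b (funext fun i => ?_))
    exact Matrix.toLinAlgEquiv'.injective ((h i).trans (map_zero _).symm)
  have h1 : W.alg i b = 1 := by
    have h2 : ∀ g x, W.rep i g (W.alg i b x) = W.alg i b (W.rep i g x) := fun g x =>
      LinearMap.congr_fun ((map_mul (W.alg i) ..).symm.trans ((congrArg _
        (comm_of_inv hb.mem.2 (supp_top _)).symm).trans (map_mul ..))) x
    have h3 := (W.irr i (LinearMap.range (W.alg i b)) (eq_top_iff.2 fun g _ _ ⟨x, hx⟩ =>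
      ⟨_, hx ▸ (h2 g x).symm⟩)).resolve_left fun e => hi (LinearMap.range_eq_bot.1 e)
    refine LinearMap.ext fun x => ?_
    obtain ⟨y, rfl⟩ := LinearMap.range_eq_top.1 h3 x
    exact LinearMap.congr_fun ((map_mul (W.alg i) b b).symm.trans (congrArg _ hb.idem)) y
  obtain ⟨χ, μ, v, hv⟩ := RGD.exists_wv (ρ := W.rep i) hp hT
  have h2 : ∀ j, μ j ≠ 0 := fun j hj => hv.ne (by
    refine (LinearMap.congr_fun h1 v).symm.trans ((Wed.alg_eq_sum _ b v).trans ?_)
    refine sum_eq_zero_of_free (H := X.Up) (fun u g => u * g * (u : G)⁻¹) (by simp)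
      (fun _ _ _ => by simp [mul_assoc]) _ fun g => ?_
    have h3 : ∀ u : X.Up, b.coeff (u * g * (u : G)⁻¹) = b.coeff g := fun u =>
      cj_eq_iff.1 (hb.inv (Subgroup.mem_top _)) g
    by_cases h4 : b.coeff g = 0
    · exact .inl fun u => by rw [h3, h4, zero_smul]
    refine .inr ⟨fun u hu => ?_, ?_⟩
    · have h5 := hD.eq_of_le (Q := Subgroup.zpowers (u : G)) le_top
        (hp.Up.to_le (Subgroup.zpowers_le.2 u.2)) (trunc_ne_zero_iff.2 ⟨g, ?_, h4⟩) bot_le
      · exact Subtype.ext (Subgroup.zpowers_eq_bot.1 h5)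
      · rintro _ ⟨n, rfl⟩
        exact (Commute.zpow_left (mul_inv_eq_iff_eq_mul.1 hu) n).eq
    · simp only [h3]
      rw [← Finset.smul_sum, ← smul_zero (b.coeff g), ← hv.hat_eq_zero top hp hj g, hat_apply]
      refine congrArg _ (Finset.sum_congr rfl fun u _ => ?_)
      conv_rhs => rw [← hv.fix (inv_mem u.2), rho_mul, rho_mul]
      rfl)
  have h3 := fun j => (C.adm hp hv j).resolve_left (h2 j)
  obtain rfl := hC χ fun j => (h3 j).2
  obtain rfl : μ = fun _ => -1 := funext fun j => (h3 j).1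
  exact ⟨i, v, hv, h1⟩

theorem Cor.eq_of_isDef_bot [IsAlgClosed F] {Γ : Type*} [Group Γ] (C : X.Cor Γ) (top : X.grp = ⊤)
    (hp : X.CharP p) (hT : ∀ s ∈ X.T, ∀ t ∈ X.T, s * t = t * s)
    (hC : ∀ χ : X.T →* Fˣ, (∀ i, χ.comp (C.h i) = 1) → χ = 1) {b b' : F[G]}
    (hb : IsBlk ⊤ b) (hD : IsDef p ⊤ b ⊥) (hb' : IsBlk ⊤ b') (hD' : IsDef p ⊤ b' ⊥) : b = b' := by
  obtain ⟨W⟩ := nonempty_wed (k := F) (A := F[G])
  have := Fintype.ofFinite G
  obtain ⟨i, v, hv, h1⟩ := C.exists_wv_of_isDef top hp hT hC W hb hD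
  obtain ⟨j, v', hv', h2⟩ := C.exists_wv_of_isDef top hp hT hC W hb' hD'
  by_contra hne
  have h3 := congrArg (W.alg i) (hb.mul_eq_zero le_rfl hb' hne)
  rw [map_mul, h1, one_mul, map_zero] at h3
  refine hv.not_sep top hp (W.irr i) (W.irr j) hv' (c := b'.coeff) ?_ ?_
  · exact (Wed.alg_eq_sum _ b' _).symm.trans (by rw [h3])
  · exact (Wed.alg_eq_sum _ b' _).symm.trans (by rw [h2])

omit [_root_.CharP F p] in
theorem br_eq_of_isPGroup {Q : Subgroup G} (hC : IsPGroup p (Subgroup.centralizer (Q : Set G)))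
    {b : F[G]} (hr : ∀ g, b.coeff g ≠ 0 → ¬ p ∣ orderOf g) :
    br Q b = algebraMap F F[G] (b.coeff 1) := ext_coeff fun x => by
  classical
  rw [coeff_trunc, coeff_algebraMap_apply]
  by_cases h5 : x = 1
  · rw [if_pos h5, h5, if_pos (one_mem _)]
  rw [if_neg h5, ite_eq_right_iff]
  intro h4
  by_contra h6
  obtain ⟨n, hn⟩ := (IsPGroup.iff_orderOf.1 hC) ⟨x, h4⟩
  rw [Subgroup.orderOf_mk] at hn
  refine hr x h6 (hn ▸ dvd_pow_self p ?_)
  rintro rfl
  exact h5 (orderOf_eq_one_iff.1 hn)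

theorem isDef_radical {b : F[G]} (hb : IsBlk ⊤ b) {D Q : Subgroup G} (hD : IsDef p ⊤ b D)
    (h1 : IsPGroup p Q) (h2 : Q ≤ Subgroup.normalizer (D : Set G))
    (h3 : Subgroup.normalizer (D : Set G) ≤ Subgroup.normalizer (Q : Set G)) : Q ≤ D :=
  IsDef.le_of_normal (inf_centralizer_le le_rfl) (hD.isPrim_br le_rfl le_normalizer_top hb)
    hD.isDef_br h1 (le_inf le_top h2) (inf_le_right.trans h3)

theorem br_eq_one_of_isDef {b : F[G]} (hb : IsBlk ⊤ b)
    (hr : ∀ g, b.coeff g ≠ 0 → ¬ p ∣ orderOf g) {D : Subgroup G} (hD : IsDef p ⊤ b D)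
    (hC : IsPGroup p (Subgroup.centralizer (D : Set G))) : br D b = 1 := by
  have h3 := br_eq_of_isPGroup hC hr
  have h4 := br_idem hD.isP (fun t _ => hb.inv (Subgroup.mem_top t)) hb.idem
  have h5 := hD.br_ne
  rw [h3] at h4 h5 ⊢
  have h6 : b.coeff 1 * b.coeff 1 = b.coeff 1 :=
    FaithfulSMul.algebraMap_injective F F[G] ((map_mul ..).trans h4)
  rw [(mul_eq_left₀ fun e => h5 (by rw [e, map_zero])).1 h6, map_one]

variable (p G) in
/-- centralisers of non-trivial radical `p`-subgroups are `p`-groups -/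
def RadC : Prop := ∀ D : Subgroup G, IsPGroup p D → D ≠ ⊥ → (∀ Q : Subgroup G, IsPGroup p Q →
  Q ≤ Subgroup.normalizer (D : Set G) →
  Subgroup.normalizer (D : Set G) ≤ Subgroup.normalizer (Q : Set G) → Q ≤ D) →
  IsPGroup p (Subgroup.centralizer (D : Set G))

/-- a block with non-trivial defect group is the principal block -/
theorem RadC.br_eq_one (hC : RadC G p) (S : Sylow p G)
    {b : F[G]} (hb : IsBlk ⊤ b) (hr : ∀ g, b.coeff g ≠ 0 → ¬ p ∣ orderOf g) {D : Subgroup G}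
    (hD : IsDef p ⊤ b D) (hne : D ≠ ⊥) : br (S : Subgroup G) b = 1 := by
  obtain ⟨T, hT⟩ := hD.isP.exists_le_sylow
  obtain ⟨g, rfl⟩ := MulAction.exists_smul_eq G T S
  have h1 := congrArg (cj g) (br_eq_one_of_isDef hb hr hD
    (hC D hD.isP hne fun Q => isDef_radical hb hD))
  rw [cj_br, hb.inv (Subgroup.mem_top g), map_one] at h1
  rw [← br_br (Q := cg g D) (P := (g • T : Sylow p G)) (cg_mono g hT), h1]
  exact trunc_one _

section Blocks

open Cfsg Cfsg.Agent.H8

variable {M : Ideal AlgInt} [M.IsMaximal] [PMod M p]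

theorem RadC.blockDefect_eq (hC : RadC G p) {B : Set (IrrCharacter G)} (hB : IsPBlock M B) :
    blockDefect p B = 0 ∨ blockDefect p B = (Nat.card G).factorization p := by
  obtain ⟨D, hD⟩ := H9.exists_isDefectGroup hB
  obtain ⟨S⟩ := Sylow.nonempty (p := p) (G := G)
  refine or_iff_not_imp_left.2 fun h => ?_
  rw [blockDefect_eq_zero_iff PMod.out hB hD] at h
  have h1 := (isDefectGroup_iff hB).1 hD
  have h2 := h1.card_le le_top S.isPGroup' (by
    rw [hC.br_eq_one S (H9.isBlk_eB hB) (fun _ => not_dvd_of_coeff_eB_ne_zero PMod.out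
      (isBlockUnion_of_block hB)) h1 h]
    exact one_ne_zero)
  rw [S.card_eq_multiplicity, card_defectGroup PMod.out hB hD,
    pow_le_pow_iff_right₀ (Fact.out : p.Prime).one_lt] at h2
  exact le_antisymm (Nat.sub_le ..) h2

theorem RadC.eq_of_blockDefect_ne (hC : RadC G p) {B B' : Set (IrrCharacter G)}
    (hB : IsPBlock M B) (hB' : IsPBlock M B') (h : blockDefect p B ≠ 0)
    (h' : blockDefect p B' ≠ 0) : B = B' := by
  obtain ⟨D, hD⟩ := H9.exists_isDefectGroup hB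
  obtain ⟨D', hD'⟩ := H9.exists_isDefectGroup hB'
  obtain ⟨S⟩ := Sylow.nonempty (p := p) (G := G)
  rw [Ne, blockDefect_eq_zero_iff PMod.out hB hD] at h
  rw [Ne, blockDefect_eq_zero_iff PMod.out hB' hD'] at h'
  refine (H9.eB_inj hB hB').1 ((H9.isBlk_eB hB).eq_of_mul_ne le_rfl (H9.isBlk_eB hB') fun e => ?_)
  have h1 := br_mul_fix le_top S.isPGroup' (eB_mem_fix (M := M) B) (eB_mem_fix B')
  rw [e, map_zero, hC.br_eq_one S (H9.isBlk_eB hB) (fun _ => not_dvd_of_coeff_eB_ne_zero PMod.out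
      (isBlockUnion_of_block hB)) ((isDefectGroup_iff hB).1 hD) h,
    hC.br_eq_one S (H9.isBlk_eB hB') (fun _ => not_dvd_of_coeff_eB_ne_zero PMod.out
      (isBlockUnion_of_block hB')) ((isDefectGroup_iff hB').1 hD') h', one_mul] at h1
  exact zero_ne_one h1

theorem Cor.eq_of_blockDefect {Γ : Type*} [Group Γ] (C : X.Cor Γ) (top : X.grp = ⊤)
    (hp : X.CharP p) (hT : ∀ s ∈ X.T, ∀ t ∈ X.T, s * t = t * s)
    (hC : ∀ χ : X.T →* (resField M)ˣ, (∀ i, χ.comp (C.h i) = 1) → χ = 1)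
    {B B' : Set (IrrCharacter G)} (hB : IsPBlock M B) (hB' : IsPBlock M B')
    (h : blockDefect p B = 0) (h' : blockDefect p B' = 0) : B = B' := by
  obtain ⟨D, hD⟩ := H9.exists_isDefectGroup hB
  obtain ⟨D', hD'⟩ := H9.exists_isDefectGroup hB'
  obtain rfl := (blockDefect_eq_zero_iff PMod.out hB hD).1 h
  obtain rfl := (blockDefect_eq_zero_iff PMod.out hB' hD').1 h'
  exact (H9.eB_inj hB hB').1 (C.eq_of_isDef_bot top hp hT hC (H9.isBlk_eB hB)
    ((isDefectGroup_iff hB).1 hD) (H9.isBlk_eB hB') ((isDefectGroup_iff hB').1 hD'))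

end Blocks

end RGD

theorem RGD.CharP.radC {Φ I : Type*} [DecidableEq I] [Fintype I] [Finite Φ] {R : RS Φ I ℤ}
    {G : Type*} [Group G] [Finite G] {X : RGD R G} {p : ℕ} [Fact p.Prime] (hp : X.CharP p)
    (top : X.grp = ⊤)
    (hC : ∀ J : Set I, (∃ i, i ∉ J) → IsPGroup p (Subgroup.centralizer (X.UJ J : Set G))) :
    RGD.RadC G p := fun D h1 h2 h3 => by
  obtain ⟨g, J, hJ, h⟩ := hp.exists_eq_UJ top h1 h2 h3
  have h4 := IsPGroup_cg (hC J hJ) g⁻¹
  rwa [cg_centralizer, ← h, cg_inv_cg] at h4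

section Chev

open Cfsg Cfsg.Agent.H8

variable {D : ChevalleyDatum} [Good D] {K : Type*} [Field K] [Finite K] {p : ℕ} [Fact p.Prime]
  [CharP K p] {M : Ideal AlgInt} [M.IsMaximal] [PMod M p]

theorem StSys.cor_gen {Φ I : Type*} [DecidableEq I] [Fintype I] [Finite Φ] {R : RS Φ I ℤ} {C : CD R}
    {K : Type*} [Field K] {G : Type*} [Group G] {S : StSys C K G} (hS : S.NC) (hM : S.NM)
    (h3 : S.R3) {A : Type*} [Group A] (χ : (StSys.rgd hS hM).T →* A)
    (h : ∀ i, χ.comp ((StSys.cor hS hM h3).h i) = 1) : χ = 1 := by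
  refine MonoidHom.ext fun t => ?_
  have : S.H ≤ χ.ker.map S.H.subtype := hS.H_eq_closure.le.trans ((Subgroup.closure_le _).2 (by
    rintro _ ⟨i, t, ht, rfl⟩
    exact ⟨_, DFunLike.congr_fun (h i) (Units.mk0 t ht), rfl⟩))
  obtain ⟨s, hs, e⟩ := this t.2
  rwa [← Subtype.ext e]

theorem grp_centralizer_UJ (J : Set (Fin D.rank)) (hJ : ∃ i, i ∉ J) :
    IsPGroup p (Subgroup.centralizer ((grpRGD D K).UJ J : Set (D.group K))) :=
  (grp_charP p).Up.to_le fun _ h => (StSys.rgd_ab grpNC grpNM).centralizer_UJ_le rsOf_irred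
    grp_faithful hJ (grpRGD_top.ge (Subgroup.mem_top _)) h

theorem grp_eq_of_blockDefect {B B' : Set (IrrCharacter (D.group K))} (hB : IsPBlock M B)
    (hB' : IsPBlock M B') (h : blockDefect p B = 0 ↔ blockDefect p B' = 0) : B = B' := by
  by_cases h0 : blockDefect p B = 0
  · exact (StSys.cor grpNC grpNM grpSt_r3).eq_of_blockDefect grpRGD_top (grp_charP p)
      (StSys.NC.T_comm grpNC grpSt_r3) (StSys.cor_gen _ _ _) hB hB' h0 (h.1 h0)
  · exact ((grp_charP p).radC grpRGD_top grp_centralizer_UJ).eq_of_blockDefect_ne hB hB' h0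
      (mt h.2 h0)

theorem blockDefect_blockOf {G : Type*} [Group G] [Finite G] (χ : IrrCharacter G) :
    blockDefect p (blockOf M (χ : G → ℂ)) = 0 ↔
      (charDegree (χ : G → ℂ)).factorization p = (Nat.card G).factorization p := by
  refine ⟨fun h => le_antisymm (factorization_charDegree_le χ) ?_, fun h => ?_⟩
  · rw [blockDefect_eq, Nat.sub_eq_zero_iff_le] at h
    exact h.trans (minVal_le (mem_blockOf_self χ))
  · rw [(blockOf_eq_singleton_iff PMod.out χ).2 h, blockDefect, Set.image_singleton, csInf_singleton,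
      h, Nat.sub_self]

open Classical in
theorem grp_stc_degree [Fintype (D.group K)] :
    (charDegree (grpRGD D K).stc).factorization p = (Nat.card (D.group K)).factorization p := by
  rw [H7.charDegree_eq (RGD.stc_one grpRGD_top), (grp_charP p).card_Up grpRGD_top,
    (Fact.out : p.Prime).factorization_pow, Finsupp.single_eq_same]

include p in
theorem grp_card_blocks : Nat.card {B : Set (IrrCharacter (D.group K)) // IsPBlock M B} = 2 := by
  classical
  have := Fintype.ofFinite (D.group K)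
  have h1 := (blockDefect_blockOf (M := M) ⟨_, RGD.isIrr_stc grpRGD_top⟩).2
    (grp_stc_degree (D := D) (K := K))
  have h2 : blockDefect p (blockOf M (irrOne (D.group K) : D.group K → ℂ)) ≠ 0 := fun h => by
    rw [blockDefect_blockOf, H7.charDegree_eq (d := 1) (by simp [irrOne]), Nat.factorization_one,
      Finsupp.zero_apply] at h
    have h3 := (grp_charP (D := D) (K := K) p).card_Up grpRGD_top
    rw [← h, pow_zero, Subgroup.card_eq_one] at h3
    obtain ⟨i⟩ := instNonemptyRank (D := D)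
    exact RGD.U_ne_bot _ (le_bot_iff.1 ((RGD.U_le_Up ((rsOf D).pos_simple i)).trans h3.le))
  refine Nat.card_eq_two_iff.2 ⟨⟨_, isPBlock_blockOf ⟨_, RGD.isIrr_stc grpRGD_top⟩⟩,
    ⟨_, isPBlock_blockOf (irrOne _)⟩, fun e => h2 ((congrArg (blockDefect p ·.1) e).symm.trans h1),
    Set.eq_univ_of_forall fun B => ?_⟩
  by_cases h : blockDefect p B.1 = 0
  · exact .inl (Subtype.ext (grp_eq_of_blockDefect B.2 (isPBlock_blockOf _) (iff_of_true h h1)))
  · exact .inr (Subtype.ext (grp_eq_of_blockDefect B.2 (isPBlock_blockOf _) (iff_of_false h h2)))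

end Chev

theorem grp_eq_stc {D : ChevalleyDatum} [Good D] {K : Type*} [Field K] [Finite K] {p : ℕ}
    [hp : Fact p.Prime] [CharP K p] {χ : D.group K → ℂ} (hχ : IsIrrCharacter _ χ) {d : ℕ}
    (h1 : χ 1 = d) (h2 : p ^ (Nat.card (D.group K)).factorization p ∣ d) :
    χ = D.steinbergCharacter K := by
  classical
  have := Fintype.ofFinite (D.group K)
  obtain ⟨M, hM⟩ := H7.exists_isPModular hp.out
  have := hM.2.1
  have : PMod M p := ⟨hM⟩
  have h3 : (charDegree χ).factorization p = (Nat.card (D.group K)).factorization p :=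
    le_antisymm (H8.factorization_charDegree_le ⟨χ, hχ⟩) ((hp.out.pow_dvd_iff_le_factorization
      (H7.irr_degree_pos hχ).ne').1 (H7.charDegree_eq h1 ▸ h2))
  have h4 := grp_eq_of_blockDefect (M := M) (H8.isPBlock_blockOf ⟨χ, hχ⟩)
    (H8.isPBlock_blockOf ⟨_, RGD.isIrr_stc grpRGD_top⟩) (iff_of_true
      ((blockDefect_blockOf _).2 h3) ((blockDefect_blockOf _).2 grp_stc_degree))
  rw [(H8.blockOf_eq_singleton_iff hM ⟨_, RGD.isIrr_stc grpRGD_top⟩).2 grp_stc_degree] at h4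
  rw [steinbergCharacter_eq]
  exact congrArg Subtype.val (h4.le (H8.mem_blockOf_self ⟨χ, hχ⟩))

end Cfsg.Agent.H12
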