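import Mathlib
import Cfsg.Agent.H12.Inv3
import Cfsg.Agent.H12.Tb

/-!
Classes of involutions in characteristic two: certificates.
-/

set_option autoImplicit false

namespace Cfsg.Agent.H12

open Cfsg.Lie

def repsG2 : List (List ℕ × List ℕ × List ℕ) :=
  [([11], [11], []), ([9], [9, 10, 11], [10, 11])]

def certG2 : List (List ℕ × List ℕ × ℕ) :=
  [([], [], 2), ([7], [0, 1, 0], 1), ([6], [1, 0, 1], 0), ([11, 7], [0, 1, 0, 1, 0, 1, 10, 11, 1,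
   0], 1)]

theorem repsG2_chk : fastG2.tab.repsChk repsG2 = true := by decide +kernel

theorem certG2_chk : allLt 4 (invChk ⟨fastG2.tab, 2, id, id, 60⟩ (repsG2.map Prod.fst) certG2) =
    true := by decide +kernel

theorem invCl_G2 {K : Type*} [Field K] [Finite K] [CharP K 2] :
    InvCl chevG2 K (repsG2.map Prod.fst) :=
  invCl_of_chk tbG2 (allLt_iff.1 certG2_chk) repsG2_chk

def casB2 : List (List ℕ) :=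
  [[], [5], [4], [7, 4]]

theorem casB2_chk : allLt 4 (fun m => fastB2.tab.casChk m (casB2.getD m [])) = true := by
  decide +kernel

def casD4 : List (List ℕ) :=
  [[], [18], [14], [19], [13], [18, 13], [16], [21, 14], [12], [18, 12], [15], [20, 14], [13, 12],
   [18, 13, 12], [17, 14], [23, 18, 13, 12]]

theorem casD4_chk : allLt 16 (fun m => fastD4.tab.casChk m (casD4.getD m [])) = true := by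
  decide +kernel

def repsF4 : List (List ℕ × List ℕ × List ℕ) :=
  [([47], [47], []), ([44], [44], []), ([47, 44], [44, 47], []), ([39, 45], [39, 40, 44, 45, 46,
   47], [40, 44, 46, 47])]

def certF4 : List (List ℕ × List ℕ × ℕ) :=
  [([], [], 4), ([33], [0, 1, 2, 1, 3, 2, 1, 0], 1), ([27], [1, 0, 2, 1, 3, 2, 1, 0], 1), ([34], [0,
   1, 0, 2, 1, 3, 2, 1, 0], 1), ([25], [2, 1, 0, 3, 2, 1, 2, 3], 0), ([33, 25], [0, 2, 1, 0, 2, 3,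
   2, 1, 0, 2, 1, 2], 3), ([30, 25], [2, 1, 0, 2, 1, 3, 2, 1, 0, 2, 3, 33, 3, 2, 1, 2, 3], 2), ([41,
   30, 25], [2, 1, 0, 2, 1, 2, 3, 2, 1, 0, 2, 1, 3, 33, 37, 0, 3, 2, 1, 31], 3), ([24], [3, 2, 1, 0,
   2, 1, 2, 3], 0), ([33, 24], [0, 1, 2, 3, 2, 1, 0, 2, 1, 3, 2, 1], 3), ([27, 24], [1, 0, 2, 3, 2,
   1, 0, 2, 1, 3, 2, 1], 3), ([34, 24], [0, 1, 0, 2, 3, 2, 1, 0, 2, 1, 3, 2, 1], 3), ([26], [2, 3,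
   2, 1, 0, 2, 1, 2, 3], 0), ([26, 33], [0, 2, 1, 2, 3, 2, 1, 0, 2, 1, 3, 2, 1], 3), ([32, 27, 24],
   [1, 3, 2, 1, 0, 2, 1, 2, 3, 2, 1, 0, 2, 33, 46, 36, 3, 2, 1, 0, 2, 1, 2], 3), ([47, 41, 30, 25],
   [2, 1, 0, 2, 1, 2, 3, 2, 1, 0, 2, 1, 3, 2, 31, 1, 0, 37, 31, 40, 35, 47, 0, 3, 2, 1, 0, 2, 1, 2],
   3)]

theorem repsF4_chk : fastF4.tab.repsChk repsF4 = true := by decide +kernel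

theorem certF4_chk : allLt 16 (invChk ⟨fastF4.tab, 2, id, id, 60⟩ (repsF4.map Prod.fst) certF4) =
    true := by decide +kernel

theorem invCl_F4 {K : Type*} [Field K] [Finite K] [CharP K 2] :
    InvCl chevF4 K (repsF4.map Prod.fst) :=
  invCl_of_chk tbF4 (allLt_iff.1 certF4_chk) repsF4_chk

def repsE6 : List (List ℕ × List ℕ × List ℕ) :=
  [([71], [71], []), ([68, 66], [66, 68, 69, 70, 71], [69, 70, 71]), ([55, 65, 67], [55, 65, 66, 67,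
   68, 69, 70, 71], [66, 68, 69, 70, 71])]

def certE6 : List (List ℕ × List ℕ × ℕ) :=
  [([], [], 3), ([56], [0, 2, 3, 1, 4, 3, 2, 5, 4, 3, 1], 0), ([46], [1, 3, 2, 0, 4, 3, 2, 5, 4, 3,
   1], 0), ([56, 46], [0, 1, 2, 3, 2, 4, 3, 1, 5, 4, 3, 2, 0], 1), ([42], [2, 0, 3, 1, 4, 3, 2, 5,
   4, 3, 1], 0), ([57], [0, 2, 0, 3, 1, 4, 3, 2, 5, 4, 3, 1], 0), ([46, 42], [1, 2, 0, 3, 1, 2, 0,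
   4, 3, 1, 5, 4, 3, 2, 0], 1), ([57, 46], [0, 1, 2, 0, 3, 2, 4, 3, 1, 5, 4, 3, 2, 0], 1), ([39],
   [3, 1, 2, 0, 4, 3, 2, 5, 4, 3, 1], 0), ([56, 39], [0, 3, 1, 2, 3, 4, 3, 1, 5, 4, 3, 2, 0], 1),
   ([47], [1, 3, 1, 2, 0, 4, 3, 2, 5, 4, 3, 1], 0), ([47, 56], [0, 1, 2, 3, 1, 2, 0, 3, 4, 3, 1, 5,
   4, 3, 2, 0], 1), ([43], [2, 3, 1, 2, 0, 4, 3, 2, 5, 4, 3, 1], 0), ([58, 42], [0, 2, 0, 3, 1, 2,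
   3, 4, 3, 1, 5, 4, 3, 2, 0], 1), ([50, 39], [2, 3, 1, 2, 0, 3, 2, 4, 3, 1, 5, 4, 3, 2, 0], 1),
   ([61, 43], [0, 2, 0, 3, 1, 2, 0, 3, 2, 4, 3, 1, 5, 4, 3, 2, 0], 1), ([37], [4, 3, 1, 2, 0, 3, 2,
   5, 4, 3, 1], 0), ([56, 37], [0, 2, 4, 3, 1, 2, 3, 4, 5, 4, 3, 2, 0], 1), ([46, 37], [1, 4, 3, 2,
   0, 5, 4, 3, 1, 2, 3, 4, 5], 1), ([56, 46, 37], [0, 1, 2, 3, 4, 3, 1, 2, 0, 3, 5, 4, 3, 1, 2, 3],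
   2), ([42, 37], [2, 0, 4, 3, 1, 2, 3, 4, 5, 4, 3, 2, 0], 1), ([57, 37], [0, 2, 0, 4, 3, 1, 2, 3,
   4, 5, 4, 3, 2, 0], 1), ([46, 42, 37], [1, 2, 0, 3, 4, 3, 1, 2, 0, 3, 5, 4, 3, 1, 2, 0, 3, 4], 2),
   ([57, 46, 37], [0, 1, 2, 0, 3, 4, 3, 1, 2, 0, 3, 5, 4, 3, 1, 2, 3], 2), ([40], [3, 4, 3, 1, 2, 0,
   3, 2, 5, 4, 3, 1], 0), ([40, 56], [0, 2, 3, 2, 4, 3, 1, 2, 0, 3, 4, 5, 4, 3, 2, 0], 1), ([48,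
   39], [1, 3, 1, 4, 3, 2, 0, 5, 4, 3, 1, 2, 3, 4, 5], 1), ([48, 56, 39], [0, 1, 3, 1, 2, 3, 4, 3,
   1, 2, 0, 3, 5, 4, 3, 1, 2, 3], 2), ([44, 39], [2, 3, 2, 0, 4, 3, 1, 2, 3, 4, 5, 4, 3, 2, 0], 1),
   ([59, 43], [0, 2, 0, 3, 2, 0, 4, 3, 1, 2, 3, 4, 5, 4, 3, 2, 0], 1), ([53, 46, 42, 37], [1, 2, 3,
   2, 0, 4, 3, 1, 2, 0, 3, 4, 5, 4, 3, 1, 2, 0, 3, 2, 53, 50, 57, 69, 1, 3, 2, 0, 4, 3, 2, 0, 5, 4,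
   3, 2, 0], 2), ([67, 48, 56, 39], [0, 2, 3, 1, 2, 3, 4, 3, 1, 2, 0, 3, 5, 4, 3, 1, 2, 3, 4, 5, 53,
   50, 57, 69, 1, 3, 2, 0, 4, 3, 2, 0, 5, 4, 3, 2, 0], 2), ([36], [5, 4, 3, 1, 2, 0, 3, 2, 4, 3, 1],
   0), ([56, 36], [0, 2, 3, 1, 5, 4, 3, 1, 2, 0, 3, 4, 5], 1), ([46, 36], [1, 3, 2, 0, 5, 4, 3, 1,
   2, 0, 3, 4, 5], 1), ([56, 46, 36], [0, 1, 2, 3, 2, 4, 5, 4, 3, 1, 2, 0, 3, 2, 4, 3], 2), ([42,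
   36], [2, 0, 3, 1, 5, 4, 3, 1, 2, 0, 3, 4, 5], 1), ([57, 36], [0, 2, 0, 3, 1, 5, 4, 3, 1, 2, 0, 3,
   4, 5], 1), ([46, 42, 36], [1, 2, 0, 3, 1, 2, 0, 4, 5, 4, 3, 1, 2, 0, 3, 2, 4, 3], 2), ([57, 46,
   36], [0, 1, 2, 0, 3, 2, 4, 5, 4, 3, 1, 2, 0, 3, 2, 4, 3], 2), ([39, 36], [3, 1, 2, 0, 5, 4, 3, 1,
   2, 0, 3, 4, 5], 1), ([56, 39, 36], [0, 3, 1, 2, 3, 4, 5, 4, 3, 1, 2, 0, 3, 2, 4, 3], 2), ([47,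
   36], [1, 3, 1, 2, 0, 5, 4, 3, 1, 2, 0, 3, 4, 5], 1), ([47, 56, 36], [0, 1, 2, 3, 1, 2, 0, 3, 4,
   5, 4, 3, 1, 2, 0, 3, 2, 4, 3], 2), ([43, 36], [2, 3, 1, 2, 0, 5, 4, 3, 1, 2, 0, 3, 4, 5], 1),
   ([58, 42, 36], [0, 2, 0, 3, 1, 2, 3, 4, 5, 4, 3, 1, 2, 0, 3, 2, 4, 3], 2), ([50, 39, 36], [2, 3,
   1, 2, 0, 3, 2, 4, 5, 4, 3, 1, 2, 0, 3, 2, 4, 3], 2), ([61, 43, 36], [0, 2, 0, 3, 1, 2, 0, 3, 2,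
   4, 5, 4, 3, 1, 2, 0, 3, 2, 4, 3], 2), ([38], [4, 5, 4, 3, 1, 2, 0, 3, 2, 4, 3, 1], 0), ([38, 56],
   [0, 2, 3, 4, 3, 1, 5, 4, 3, 1, 2, 0, 3, 2, 4, 5], 1), ([38, 46], [1, 3, 4, 3, 2, 0, 5, 4, 3, 1,
   2, 0, 3, 2, 4, 5], 1), ([38, 56, 46], [0, 1, 2, 3, 2, 4, 3, 1, 2, 5, 4, 3, 1, 2, 0, 3, 2, 4, 3,
   5, 4], 2), ([38, 42], [2, 0, 3, 4, 3, 1, 5, 4, 3, 1, 2, 0, 3, 2, 4, 5], 1), ([57, 38], [0, 2, 0,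
   4, 3, 1, 5, 4, 3, 1, 2, 0, 3, 4, 5], 1), ([38, 46, 42], [1, 2, 0, 3, 2, 4, 3, 1, 2, 0, 3, 5, 4,
   3, 1, 2, 0, 3, 2, 4, 3, 5, 4], 2), ([57, 38, 46], [0, 1, 2, 0, 3, 2, 4, 3, 2, 5, 4, 3, 1, 2, 0,
   3, 2, 4, 3, 5], 2), ([41, 37], [3, 4, 3, 1, 2, 0, 5, 4, 3, 1, 2, 0, 3, 4, 5], 1), ([41, 56, 37],
   [0, 3, 4, 3, 1, 2, 3, 4, 5, 4, 3, 1, 2, 0, 3, 2, 4, 3], 2), ([49, 40], [1, 3, 1, 4, 3, 1, 2, 0,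
   5, 4, 3, 1, 2, 0, 3, 4, 5], 1), ([49, 40, 56], [0, 1, 3, 1, 2, 3, 4, 3, 1, 2, 0, 3, 4, 5, 4, 3,
   1, 2, 0, 3, 2, 4, 3, 5], 2), ([45, 40], [2, 3, 2, 4, 3, 1, 2, 0, 5, 4, 3, 1, 2, 0, 3, 4, 5], 1),
   ([60, 44, 39], [0, 2, 0, 3, 2, 0, 4, 3, 1, 2, 3, 4, 5, 4, 3, 1, 2, 0, 3, 2, 4, 3], 2), ([55, 50,
   39, 36], [3, 1, 2, 0, 3, 2, 4, 3, 1, 2, 5, 4, 3, 1, 2, 0, 3, 2, 4, 3, 53, 50, 57, 69, 1, 3, 2, 0,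
   4, 3, 2, 0, 5, 4, 3, 2, 0], 2), ([71, 60, 44, 39], [3, 1, 2, 0, 4, 3, 1, 2, 3, 4, 5, 4, 3, 1, 2,
   0, 3, 2, 4, 3, 53, 50, 57, 69, 1, 3, 2, 0, 4, 3, 2, 0, 5, 4, 3, 2, 0], 2)]

theorem repsE6_chk : fastE6.tab.repsChk repsE6 = true := by decide +kernel

theorem certE6_chk : allLt 64 (invChk ⟨fastE6.tab, 2, id, id, 60⟩ (repsE6.map Prod.fst) certE6) =
    true := by decide +kernel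

theorem invCl_E6 {K : Type*} [Field K] [Finite K] [CharP K 2] :
    InvCl chevE6 K (repsE6.map Prod.fst) :=
  invCl_of_chk tbE6 (allLt_iff.1 certE6_chk) repsE6_chk

end Cfsg.Agent.H12
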