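import Mathlib
import Cfsg.Agent.H12.Fix
import Cfsg.Agent.H12.Bonds
import Cfsg.Agent.H13.Folds

/-!
`F₄ ≤ E₆` and `G₂ ≤ D₄` as fixed points of graph automorphisms.
-/

set_option autoImplicit false

namespace Cfsg.Agent.H12

open Cfsg.Lie Cfsg.Agent.H13

/-- the root elements of `F₄` in `E₆` -/
def fmE6 (c : ℕ) : List (ℕ × ℤ) :=
  [[(0, 1)], [(1, 1)], [(2, 1)], [(3, 1), (5, 1)], [(6, 1)], [(8, 1)], [(11, 1)], [(4, 1), (16,
   -1)], [(7, 1), (17, -1)], [(9, 1), (19, -1)], [(12, 1), (26, -1)], [(10, 1), (22, -1)], [(13,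
   1), (30, 1)], [(14, 1), (33, -1)], [(15, 1), (35, 1)], [(18, 1)], [(20, 1)], [(27, 1)], [(21,
   1), (23, 1)], [(28, 1), (31, -1)], [(29, 1), (34, 1)], [(24, -1)], [(32, 1)], [(25, 1)],
   [(46, 1)], [(39, 1)], [(47, -1)], [(42, 1), (37, 1)], [(40, -1), (43, 1)], [(48, 1), (50,
   1)], [(44, 1)], [(51, 1)], [(53, 1)], [(56, 1), (36, 1)], [(38, -1), (57, 1)], [(41, 1), (58,
   1)], [(49, -1), (61, 1)], [(45, -1), (59, 1)], [(52, -1), (62, 1)], [(54, -1), (64, 1)],
   [(55, -1), (67, 1)], [(60, 1)], [(63, 1)], [(65, 1)], [(66, 1), (68, 1)], [(69, 1)], [(70,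
   1)], [(71, 1)]].getD c []

/-- the root elements of `G₂` in `D₄` -/
def fmD4 (c : ℕ) : List (ℕ × ℤ) :=
  [[(0, -1)], [(1, -1)], [(2, -1), (3, -1), (6, 1)], [(4, 1), (7, -1), (8, -1)], [(5, 1), (10,
   1), (11, 1)], [(9, 1)], [(14, 1)], [(18, 1), (13, 1), (12, 1)], [(15, -1), (16, -1), (19,
   1)], [(17, 1), (20, -1), (21, -1)], [(22, -1)], [(23, -1)]].getD c []

theorem fmD4_chk : allLt 12 (foldChk ⟨fastD4.tab, 0, id, id, 40⟩ fastG2.tab fmD4) = true := by
  decide +kernel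

theorem fmE6_chk0 : allLt 16 (foldChk ⟨fastE6.tab, 0, id, id, 40⟩ fastF4.tab fmE6) = true := by
  decide +kernel

theorem fmE6_chk1 :
    allLt 16 (fun k => foldChk ⟨fastE6.tab, 0, id, id, 40⟩ fastF4.tab fmE6 (16 + k)) = true := by
  decide +kernel

theorem fmE6_chk2 :
    allLt 16 (fun k => foldChk ⟨fastE6.tab, 0, id, id, 40⟩ fastF4.tab fmE6 (32 + k)) = true := by
  decide +kernel

theorem fmE6_ok : ∀ r < 48, foldChk ⟨fastE6.tab, 0, id, id, 40⟩ fastF4.tab fmE6 r = true :=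
  forall_lt_of_chunks (forall_lt_of_chunks (allLt_iff.1 fmE6_chk0) (allLt_iff.1 fmE6_chk1) rfl)
    (allLt_iff.1 fmE6_chk2) rfl

/-- the classes of fundamental roots -/
def flE6 (i : Fin chevF4.rank) : List (Fin chevE6.rank) :=
  (List.finRange _).filter fun j => foldE6.cls j = i

/-- the classes of fundamental roots -/
def flD4 (i : Fin chevG2.rank) : List (Fin chevD4.rank) :=
  (List.finRange _).filter fun j => foldD4.cls j = i

theorem foldOK_E6 : FoldOK foldE6 flE6 :=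
  ⟨fun _ => (List.nodup_finRange _).filter _, fun _ _ => by simp [flE6], by decide +kernel,
    by decide +kernel, by decide +kernel⟩

theorem foldOK_D4 : FoldOK foldD4 flD4 :=
  ⟨fun _ => (List.nodup_finRange _).filter _, fun _ _ => by simp [flD4], by decide +kernel,
    by decide +kernel, by decide +kernel⟩

variable {K : Type*} [Field K] {G : Type*} [Group G]

/-- `F₄` inside `E₆` -/
def stF4E6 (S : StSys (cdOf chevE6) K G) : StSys (cdOf chevF4) K G :=
  foldSt S fmE6 tbE6 tbF4 40 fmE6_ok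

/-- `G₂` inside `D₄` -/
def stG2D4 (S : StSys (cdOf chevD4) K G) : StSys (cdOf chevG2) K G :=
  foldSt S fmD4 tbD4 tbG2 40 (allLt_iff.1 fmD4_chk)

theorem exists_fix_E6 [Finite K] {α : MulAut (chevE6.group K)} (h : IsGr chevE6 K α symE6) :
    ∃ e : chevF4.group K →* chevE6.group K, Function.Injective e ∧
      (grpSt chevF4 K).Hom (stF4E6 (grpSt chevE6 K)) e ∧
      e.range = α.toMonoidHom.eqLocus (MonoidHom.id _) := by
  have e : ∀ i, foldE6.τ i = symE6 i := by decide +kernel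
  refine exists_fix_graph foldOK_E6 hT_ker_F4 tbE6 tbF4 fmE6_ok (by decide +kernel) _
    (fun i t => ?_) fun i t => ?_
  · simpa only [graphExp_E6 _ (Fin.is_lt _) (Fin.is_lt _), pow_one, e,
      MulEquiv.coe_toMonoidHom] using (h i t).1
  · simpa only [graphExp_E6 _ (Fin.is_lt _) (Fin.is_lt _), pow_one, e,
      MulEquiv.coe_toMonoidHom] using (h i t).2

theorem exists_fix_D4 [Finite K] {α : MulAut (chevD4.group K)} (h : IsGr chevD4 K α symD4a) :
    ∃ e : chevG2.group K →* chevD4.group K, Function.Injective e ∧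
      (grpSt chevG2 K).Hom (stG2D4 (grpSt chevD4 K)) e ∧
      e.range = α.toMonoidHom.eqLocus (MonoidHom.id _) := by
  have e : ∀ i, foldD4.τ i = symD4a i := by decide +kernel
  refine exists_fix_graph foldOK_D4 hT_ker_G2 tbD4 tbG2 (allLt_iff.1 fmD4_chk) (by decide +kernel) _
    (fun i t => ?_) fun i t => ?_
  · simpa only [graphExp_D4 _ (Fin.is_lt _) (Fin.is_lt _), pow_one, e,
      MulEquiv.coe_toMonoidHom] using (h i t).1
  · simpa only [graphExp_D4 _ (Fin.is_lt _) (Fin.is_lt _), pow_one, e,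
      MulEquiv.coe_toMonoidHom] using (h i t).2

end Cfsg.Agent.H12
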