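import Mathlib
import Cfsg.Agent.H12.Aut3
import Cfsg.Agent.H12.TwInv
import Cfsg.Agent.H13.TwFr

/-!
Automorphisms of twisted Chevalley groups: generic part.
-/

set_option autoImplicit false
set_option linter.unusedSectionVars false

namespace Cfsg.Agent.H12

open Cfsg.Lie Cfsg.Agent.H13

namespace RGD

variable {Φ I k : Type*} [DecidableEq I] [CommRing k] [LinearOrder k] {R : RS Φ I k}
  {G : Type*} [Group G] {X : RGD R G} [IsStrictOrderedRing k] [Fintype I] [Finite Φ]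
  {θ : MulAut G}

theorem Iso.W_eq (h : Iso X X θ (1 : Equiv.Perm I)) (w : R.W) : h.W w = w := by
  induction w using R.W_induction with
  | one => exact map_one _
  | step i w ih => rw [map_mul, ih, h.W_s]; rfl

theorem Iso.rep_same (h : Iso X X θ (1 : Equiv.Perm I)) {n : G} {w : R.W} (hn : X.Rep n w) :
    X.Rep (θ n) w := h.W_eq w ▸ h.rep hn

theorem Iso.ρ_eq (h : Iso X X θ (1 : Equiv.Perm I)) (r : Φ) : h.ρ r = r := by
  obtain ⟨w, i, rfl⟩ := R.exists_smul_simple r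
  rw [h.ρ_smul, h.W_eq, h.ρ_simple]; rfl

theorem Iso.mem_US_iff (h : Iso X X θ (1 : Equiv.Perm I)) (S : Set Φ) {g : G} :
    θ g ∈ X.US S ↔ g ∈ X.US S := by
  rw [← mem_map_equiv_iff θ (H := X.US S) (g := g), h.map_US (S' := S) fun r => by rw [h.ρ_eq]]

theorem Iso.mem_T_iff {π : Equiv.Perm I} (h : Iso X X θ π) {g : G} : θ g ∈ X.T ↔ g ∈ X.T := by
  rw [← mem_map_equiv_iff θ (H := X.T) (g := g), h.T]

theorem Iso.fix_neg (h : Iso X X θ (1 : Equiv.Perm I)) {i : I}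
    (hU : ∀ u ∈ X.U (R.simple i), θ u = u) {v : G} (hv : v ∈ X.U (R.neg (R.simple i))) :
    θ v = v := by
  by_cases h1 : v = 1
  · simp [h1]
  obtain ⟨a, ha, t, ht, b, hb, he⟩ := X.rank1 i v hv h1
  have hn := (RGD.rep_m (X := X) i).T_mul ht
  have h2 : v⁻¹ * θ v = 1 := eq_one_of_mem_U_neg
    (mul_mem (inv_mem hv) (mem_of_map_eq (h.neg i) hv)) (by
      have h3 := mul_mem (mul_mem (inv_mem (U_le_B (R.pos_simple i) hb))
        (T_le_B (hn.inv_mul_mem_T (h.rep_same hn)))) (U_le_B (R.pos_simple i) hb)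
      convert h3 using 1
      rw [he, map_mul, map_mul, hU a ha, hU b hb]; group)
  exact (inv_mul_eq_one.1 h2).symm

theorem Iso.eq_one (h : Iso X X θ (1 : Equiv.Perm I)) (top : X.US Set.univ = ⊤)
    (hU : ∀ i, ∀ u ∈ X.U (R.simple i), θ u = u) : θ = 1 := MulEquiv.ext fun g =>
  US_univ_le (X := X) (H := θ.toMonoidHom.eqLocus (MonoidHom.id G)) hU (fun i => by
    obtain ⟨v, hv, h1⟩ := exists_ne_one (X := X) (R.neg (R.simple i))
    exact ⟨v, hv, h1, h.fix_neg (hU i) hv⟩) (top ▸ Subgroup.mem_top g)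

theorem Iso.card_U {π : Equiv.Perm I} (h : Iso X X θ π) (i : I) :
    Nat.card (X.U (R.simple (π i))) = Nat.card (X.U (R.simple i)) := by
  rw [← h.pos, Subgroup.card_map_of_injective θ.injective]

end RGD

section Fields

variable {K : Type*} [Field K] [Finite K]

theorem sq_induction (k : Subfield K) {P : K → Prop} (h : ∀ t ∈ k, P (t ^ 2))
    (hs : ∀ s ∈ k, ∀ t ∈ k, P s → P t → P (s - t)) {a : K} (ha : a ∈ k) : P a := by
  by_cases h2 : (2 : K) = 0
  · obtain ⟨s, hs⟩ := isSquare_of_finite (K := k) (Subtype.ext h2) ⟨a, ha⟩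
    have := h s s.2
    rwa [sq, ← Subfield.coe_mul, ← hs] at this
  · have h3 : (2 : K) ∈ k := ofNat_mem k 2
    have h4 := div_mem (add_mem ha (one_mem k)) h3
    have h5 := div_mem (sub_mem ha (one_mem k)) h3
    convert hs _ (pow_mem h4 2) _ (pow_mem h5 2) (h _ h4) (h _ h5) using 1
    field_simp; ring

theorem ringHom_comm (φ ψ : K →+* K) (t : K) : φ (ψ t) = ψ (φ t) := by
  have := ringAut_cyclic (K := K)
  exact DFunLike.congr_fun (IsCyclic.isMulCommutative.is_comm.comm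
    (RingEquiv.ofBijective φ (Finite.injective_iff_bijective.1 φ.injective) : RingAut K)
    (RingEquiv.ofBijective ψ (Finite.injective_iff_bijective.1 ψ.injective))) t

end Fields

variable {D : ChevalleyDatum} [Good D] {K : Type*} [Field K]

theorem chv_of_rep {n : GL D.Idx K} {w : (rsOf D).W} (hn : (chevRGD D K).Rep n w) {χ ψ : Chr D K}
    (h : n⁻¹ * dgU D K χ * n = dgU D K ψ) (r : Fin D.nroots) :
    chv ψ r = chv χ (w • r : Fin D.nroots) := by
  obtain ⟨c, hc, h1⟩ := StSys.Rep.exists_conj chevNC chevNM hn r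
  have h2 := dg_conj_x χ (w • r) (c * 1)
  have h3 := h1 ((chv ψ r : K) * 1)
  rw [← dg_conj_x, ← h] at h3
  rw [← h1] at h2
  have h4 := StSys.x_injective chevNC chevNM _ (h2.symm.trans ((by group : _ = _).trans h3))
  exact Units.ext (mul_left_cancel₀ hc (by linear_combination -h4))

theorem dg_conj_mem_iff (β : MulAut (D.group K)) {g : D.group K} {χ : Chr D K}
    (hg : (g : GL D.Idx K) = dgU D K χ) (r : Fin D.nroots) (t : K) :
    β g * β ((grpSt D K).x r t) * (β g)⁻¹ = β ((grpSt D K).x r (chv χ r * t)) := by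
  rw [← map_inv, ← map_mul, ← map_mul]
  exact congrArg β (Subtype.ext (Eq.trans (by rw [← hg]; rfl) (dg_conj_x χ r t)))

/-- the character twisted by a field automorphism -/
def chrMap (τ : K →+* K) (χ : Chr D K) : Chr D K := (Units.map τ.toMonoidHom).comp χ

theorem fldAut_dg (τ : RingAut K) {g : D.group K} {χ : Chr D K}
    (hg : (g : GL D.Idx K) = dgU D K χ) :
    (fldAut D K τ g : GL D.Idx K) = dgU D K (chrMap τ χ) := by
  have h1 : g ∈ (grpRGD D K).T := by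
    rw [grpRGD_T, Subgroup.mem_subgroupOf, hg]; exact dg_mem_H (hg ▸ g.2)
  have h2 := (iso_fldAut τ).mem_T_iff.2 h1
  rw [grpRGD_T, Subgroup.mem_subgroupOf] at h2
  obtain ⟨ψ, hψ⟩ := exists_dg_of_mem_H h2
  rw [← hψ]
  refine congrArg _ (chr_ext fun i => Units.ext ?_)
  have h3 := congrArg Subtype.val (dg_conj_mem_iff (fldAut D K τ) hg ((rsOf D).simple i) 1)
  rw [fldAut_x, fldAut_x, Subgroup.coe_mul, Subgroup.coe_mul, Subgroup.coe_inv, ← hψ] at h3
  exact (show _ = τ (chv χ _) by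
    simpa using StSys.x_injective chevNC chevNM _ ((dg_conj_x ψ _ _).symm.trans h3))

theorem aut_pr (β : MulAut (D.group K)) {f : Fin D.nroots → K → K}
    (h : ∀ r t, β ((grpSt D K).x r t) = (grpSt D K).x r (f r t)) (L : List (Fin D.nroots))
    (a : Fin D.nroots → K) {g : D.group K} (hg : (g : GL D.Idx K) = pr (chevSt D K) L a) :
    (β g : GL D.Idx K) = pr (chevSt D K) L fun r => f r (a r) := by
  have e : ∀ a, ((pr (grpSt D K) L a : D.group K) : GL D.Idx K) = pr (chevSt D K) L a := fun a => by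
    rw [pr, pr, ← Subgroup.subtype_apply, map_list_prod, List.map_map]; rfl
  rw [show g = pr (grpSt D K) L a from Subtype.ext (hg.trans (e a).symm), ← e, pr, map_list_prod,
    List.map_map]
  exact congrArg _ (congrArg _ (List.map_congr_left fun r _ => h r _))

variable {Φ' I' k' : Type*} [DecidableEq I'] [Fintype I'] [Finite Φ'] [CommRing k']
  [LinearOrder k'] [IsStrictOrderedRing k'] {R' : RS Φ' I' k'} {F : Fold (rsOf D) R'}

/-- characters compatible with the twist -/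
def TI (A : TwSt F (chevNC (D := D) (F := K)) chevNM) : Subgroup (Chr D K) where
  carrier := {χ | ∀ i, (chv χ (D.simple (F.τ i)) : K) = A.φ i (chv χ (D.simple i))}
  mul_mem' := fun {a b} ha hb i => by simp only [chv_mul, Units.val_mul, map_mul, ha i, hb i]
  one_mem' := fun i => by simp [chv_one]
  inv_mem' := fun {a} ha i => by simp only [chv_inv, Units.val_inv_eq_inv_val, map_inv₀, ha i]

variable {A : TwSt F (chevNC (D := D) (F := K)) chevNM}

theorem mkChr_mem_TI {τ' : Fin D.rank → Fin D.rank} (h1 : ∀ i, τ' (F.τ i) = i)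
    (h2 : ∀ i, F.τ (τ' i) = i) {c : Fin D.rank → Kˣ} :
    mkChr c ∈ TI A ↔ c ∈ (Sc A τ').eqLocus (MonoidHom.id _) := by
  rw [mem_eqLocus_Sc]
  refine ⟨fun h j => ?_, fun h i => ?_⟩
  · simpa only [chv_mkChr, h2] using (h (τ' j)).symm
  · simpa only [chv_mkChr, h1] using (h (F.τ i)).symm

theorem card_TI {τ' : Fin D.rank → Fin D.rank} (h1 : ∀ i, τ' (F.τ i) = i)
    (h2 : ∀ i, F.τ (τ' i) = i) :
    Nat.card (TI A) = Nat.card ((Sc A τ').eqLocus (MonoidHom.id _)) :=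
  (Nat.card_congr (chrEquiv.symm.subtypeEquiv fun _ => (mkChr_mem_TI h1 h2).symm)).symm

variable {hn : ∀ i', ∃ v ∈ (StSys.rgd chevNC chevNM).US (F.π ⁻¹' {R'.neg (R'.simple i')}),
    v ≠ 1 ∧ A.σ v = v} {G1 : Subgroup (GL D.Idx K)} (hG : G1 = (A.twist hn).Fix)
include hG

theorem G1_le : G1 ≤ D.group K := hG ▸ (A.twist hn).Fix_le_grp.trans group_eq.ge

theorem mem_TI_of_mem {χ : Chr D K} (h : dgU D K χ ∈ G1) : χ ∈ TI A := fun i => by
  have h0 := G1_le hG h
  subst hG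
  have h1 := congrArg A.σ (dg_conj_x χ ((rsOf D).simple i) 1)
  rw [A.map_mul _ (mul_mem h.1 (x_mem_grp _ _ _ _)) _ (inv_mem h.1), A.map_mul_x _ _ h.1,
    A.map_inv h.1, show A.σ (dgU D K χ) = _ from h.2, A.σ_pos, A.σ_pos, dg_conj_x] at h1
  simpa using StSys.x_injective chevNC chevNM _ h1

theorem mem_twT {t : G1} : t ∈ (twSub hG).T ↔ ∃ χ, dgU D K χ = t :=
  ⟨fun h => exists_dg_of_mem_H h.1, fun ⟨_, h⟩ =>
    ⟨Set.mem_of_eq_of_mem h.symm (dg_mem_H (h ▸ G1_le hG t.2)), hG ▸ t.2⟩⟩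

theorem exists_res {β : MulAut (D.group K)}
    (hβ : RGD.Iso (grpRGD D K) (grpRGD D K) β (1 : Equiv.Perm (Fin D.rank)))
    (hc : ∀ g g' : D.group K, A.σ g = g' → A.σ (β g) = β g') :
    ∃ θ : MulAut G1, RGD.Iso (twSub hG) (twSub hG) θ (1 : Equiv.Perm I') ∧
      ∀ (g : G1) (g' : D.group K), (g : GL D.Idx K) = g' → (θ g : GL D.Idx K) = β g' := by
  have hF : ∀ g : D.group K, (β g : GL D.Idx K) ∈ G1 ↔ (g : GL D.Idx K) ∈ G1 := fun g => by
    have h1 := hc g ⟨_, group_eq.ge ((A.twist hn).σ_grp (group_eq.le g.2))⟩ rfl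
    rw [hG]
    refine ⟨fun h => ⟨group_eq.le g.2, ?_⟩, fun h => ⟨group_eq.le (β g).2, hc g g h.2⟩⟩
    exact congrArg Subtype.val (β.injective (Subtype.ext (h1.symm.trans h.2)))
  let θ : MulAut G1 :=
    { toFun := fun g => ⟨β ⟨g, G1_le hG g.2⟩, (hF _).2 g.2⟩
      invFun := fun g => ⟨β.symm ⟨g, G1_le hG g.2⟩, (hF _).1 (by simp)⟩
      left_inv := fun g => by simp
      right_inv := fun g => by simp
      map_mul' := fun a b => Subtype.ext (congrArg (fun y : D.group K => y.1)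
        (map_mul β ⟨a, G1_le hG a.2⟩ ⟨b, G1_le hG b.2⟩)) }
  have key : ∀ H : Subgroup (GL D.Idx K), (∀ g : D.group K, (β g : GL D.Idx K) ∈ H ↔ g.1 ∈ H) →
      ((H ⊓ (A.twist hn).Fix).subgroupOf G1).map θ.toMonoidHom =
        (H ⊓ (A.twist hn).Fix).subgroupOf G1 := fun H h => by
    ext g
    obtain ⟨g, rfl⟩ := θ.surjective g
    rw [mem_map_equiv_iff, ← hG, Subgroup.inf_subgroupOf_right]
    exact (h ⟨g, G1_le hG g.2⟩).symm
  have hU := fun S => key ((chevRGD D K).US S) fun g => by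
    have := hβ.mem_US_iff S (g := g)
    rwa [grpRGD_US] at this
  exact ⟨θ, ⟨fun i => hU _, fun i => hU _, key _ fun g => by
    have := hβ.mem_T_iff (g := g)
    rwa [grpRGD_T] at this⟩, fun g g' h => congrArg (fun y => (β y).1) (Subtype.ext h)⟩

theorem σ_fld_diag [Finite K] (τ : RingAut K) {χ : Chr D K} (hχ : χ ∈ TI A) (g g' : D.group K)
    (h : A.σ g = g') : A.σ ((fldAut D K τ * diagAut D K χ) g) = (fldAut D K τ * diagAut D K χ) g' := by
  let s : D.group K →* D.group K := MonoidHom.mk'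
    (fun g => ⟨_, group_eq.ge ((A.twist hn).σ_grp (group_eq.le g.2))⟩) fun a b =>
      Subtype.ext (A.map_mul _ (group_eq.le a.2) _ (group_eq.le b.2))
  have s1 : ∀ i t, s ((grpSt D K).x ((rsOf D).simple i) t) =
      (grpSt D K).x ((rsOf D).simple (F.τ i)) (A.φ i t) := fun i t => Subtype.ext (A.σ_pos i t)
  have s2 : ∀ i t, s ((grpSt D K).x ((rsOf D).neg ((rsOf D).simple i)) t) =
      (grpSt D K).x ((rsOf D).neg ((rsOf D).simple (F.τ i))) (A.φ i t) :=
    fun i t => Subtype.ext (A.σ_neg i t)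
  have e := fun i t => ringHom_comm (A.φ i) τ.toRingHom t
  have := StSys.hom_ext_simple grpNC grpNM grpSt_top
    (f := s.comp (fldAut D K τ * diagAut D K χ).toMonoidHom)
    (g := (fldAut D K τ * diagAut D K χ).toMonoidHom.comp s) (fun i t => by
      simp only [MonoidHom.comp_apply, MulEquiv.coe_toMonoidHom, MulAut.mul_apply, diagAut_simple,
        fldAut_x, s1, hχ i, ← map_mul]
      exact congrArg _ (e i _)) fun i t => by
      simp only [MonoidHom.comp_apply, MulEquiv.coe_toMonoidHom, MulAut.mul_apply, diagAut_neg,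
        fldAut_x, s2, hχ i, ← map_inv₀, ← map_mul]
      exact congrArg _ (e i _)
  rw [show g' = s g from Subtype.ext h.symm]
  exact congrArg Subtype.val (DFunLike.congr_fun this g)

/-- the lattice on which an automorphism acts through a given field automorphism -/
def TwL (θ : MulAut G1) (σ : K →+* K) : AddSubgroup (Fin D.rank → ℤ) where
  carrier := {v | ∀ (t : G1) χ ψ, dgU D K χ = t → dgU D K ψ = θ t →
    (ψ (Multiplicative.ofAdd v) : K) = σ (χ (Multiplicative.ofAdd v))}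
  add_mem' := fun {a b} ha hb t χ ψ h1 h2 => by
    simp only [ofAdd_add, map_mul, Units.val_mul, ha t χ ψ h1 h2, hb t χ ψ h1 h2]
  zero_mem' := fun t χ ψ _ _ => by simp
  neg_mem' := fun {a} ha t χ ψ h1 h2 => by
    simp only [ofAdd_neg, map_inv, Units.val_inv_eq_inv_val, map_inv₀, ha t χ ψ h1 h2]

variable {θ : MulAut G1} {σ : K →+* K}

theorem TwL_τ [Finite K] {i : Fin D.rank} (h : av D (D.simple i) ∈ TwL θ σ) :
    av D (D.simple (F.τ i)) ∈ TwL θ σ := fun t χ ψ h1 h2 => by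
  have e1 := mem_TI_of_mem hG (h1 ▸ t.2) i
  have e2 := mem_TI_of_mem hG (h2 ▸ (θ t).2) i
  exact e2.trans ((congrArg _ (h t χ ψ h1 h2)).trans ((ringHom_comm _ _ _).trans
    (congrArg _ e1.symm)))

theorem TwL_w (hθ : RGD.Iso (twSub hG) (twSub hG) θ (1 : Equiv.Perm I')) (i' : I')
    {r : Fin D.nroots} (h : av D r ∈ TwL θ σ) :
    av D ((F.wd i').foldr (rsOf D).sref r : Fin D.nroots) ∈ TwL θ σ := fun t χ ψ h1 h2 => by
  have hr : ∀ n : G1, (twSub hG).Rep n (R'.s i') → (chevRGD D K).Rep n (F.w i') := fun n h => by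
    obtain ⟨-, w, h3, h4⟩ := (A.twist hn).rgd_rep_iff.1 ((RGD.sub_rep _).1 h)
    rwa [h4.unique' (F.lifts_w i')] at h3
  have hm := RGD.rep_m (X := twSub hG) i'
  have ht := hm.conj_T' ((mem_twT hG).2 ⟨_, h1⟩)
  obtain ⟨χ', e1⟩ := (mem_twT hG).1 ht
  obtain ⟨ψ', e2⟩ := (mem_twT hG).1 (hθ.mem_T_iff.2 ht)
  have h3 := h _ _ _ e1 e2
  have e3 := chv_of_rep (hr _ hm) (χ := χ) (ψ := χ') (by rw [h1, e1]; rfl) r
  have e4 := chv_of_rep (hr _ (hθ.rep_same hm)) (χ := ψ) (ψ := ψ') (by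
    rw [h2, e2, map_mul, map_mul, map_inv]; rfl) r
  rw [← wprod_smul]
  exact (congrArg Units.val e4).symm.trans (h3.trans (congrArg (fun y : Kˣ => σ y) e3))

omit hG in
/-- a parametrised root subgroup -/
structure Par (A : TwSt F (chevNC (D := D) (F := K)) chevNM) (G1 U : Subgroup (GL D.Idx K))
    (k : Subfield K) (a : ℕ) (y : K → GL D.Idx K) : Prop where
  le : U ≤ G1
  add : ∀ s t, y (s + t) = y s * y t
  mem : ∀ g, g ∈ U ↔ ∃ t ∈ k, g = y t
  inj : Function.Injective y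
  conj : ∀ χ ∈ TI A, ∀ t, dgU D K χ * y t * (dgU D K χ)⁻¹ = y (chv χ a * t)
  fix : ∀ χ ∈ TI A, (chv χ a : K) ∈ k
  sq : ∀ t : Kˣ, t.1 ∈ k → ∃ χ, dgU D K χ ∈ G1 ∧ chv χ a = t ^ 2

section Par

variable {U : Subgroup (GL D.Idx K)} {k : Subfield K} {a : ℕ} {y : K → GL D.Idx K}

theorem Par.exists_f (P : Par A G1 U k a y)
    (hU : (U.subgroupOf G1).map θ.toMonoidHom = U.subgroupOf G1) :
    ∃ f : K → K, (∀ t ∈ k, f t ∈ k) ∧ (∀ (g : G1), ∀ t ∈ k, g = y t → θ g = y (f t)) ∧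
      (∀ s ∈ k, ∀ t ∈ k, f (s + t) = f s + f t) ∧ (∀ t ∈ k, f t = 0 → t = 0) ∧
      ∀ (g : G1) χ ψ, dgU D K χ = g → dgU D K ψ = θ g → ∀ t ∈ k,
        f (chv χ a * t) = chv ψ a * f t := by
  classical
  have hy : ∀ t ∈ k, y t ∈ U := fun t ht => (P.mem _).2 ⟨t, ht, rfl⟩
  have h0 : y 0 = 1 := left_eq_mul.1 ((congrArg y (add_zero 0)).symm.trans (P.add 0 0))
  choose f hf hf' using fun t (ht : t ∈ k) =>
    (P.mem _).1 (mem_of_map_eq hU (g := ⟨y t, P.le (hy t ht)⟩) (hy t ht))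
  have h1 : ∀ (g : G1), ∀ t ∈ k, g = y t → θ g = y (if h : t ∈ k then f t h else 0) :=
    fun g t ht h => by
      rw [dif_pos ht, show g = ⟨y t, P.le (hy t ht)⟩ from Subtype.ext h]; exact hf' t ht
  refine ⟨fun t => if h : t ∈ k then f t h else 0, fun t ht => by simp [ht, hf], h1,
    fun s hs t ht => P.inj ?_, fun t ht h => P.inj ?_, fun g χ ψ h2 h3 t ht => P.inj ?_⟩
  · rw [P.add, ← h1 ⟨_, P.le (hy s hs)⟩ s hs rfl, ← h1 ⟨_, P.le (hy t ht)⟩ t ht rfl,
      ← h1 (⟨_, P.le (hy s hs)⟩ * ⟨_, P.le (hy t ht)⟩) _ (add_mem hs ht) (P.add s t).symm, map_mul]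
    rfl
  · have := h1 ⟨_, P.le (hy t ht)⟩ t ht rfl
    rw [show (if h : t ∈ k then f t h else 0) = 0 from h, h0, OneMemClass.coe_eq_one, map_eq_one_iff _ θ.injective] at this
    exact (congrArg Subtype.val this).trans h0.symm
  · have e1 := P.conj χ (mem_TI_of_mem hG (h2 ▸ g.2)) t
    have e2 := mul_mem (P.fix χ (mem_TI_of_mem hG (h2 ▸ g.2))) ht
    rw [← P.conj ψ (mem_TI_of_mem hG (h3 ▸ (θ g).2)), ← h1 ⟨_, P.le (hy t ht)⟩ t ht rfl, h3,
      ← h1 (g * ⟨_, P.le (hy t ht)⟩ * g⁻¹) _ e2 (by rw [← e1, h2]; rfl), map_mul, map_mul, map_inv]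
    rfl

theorem Par.exists_σ [Finite K] (P : Par A G1 U ⊤ a y)
    (hU : (U.subgroupOf G1).map θ.toMonoidHom = U.subgroupOf G1)
    (hT : (twSub hG).T.map θ.toMonoidHom = (twSub hG).T) :
    ∃ σ : RingAut K, av D a ∈ TwL θ (σ : K →+* K) := by
  obtain ⟨f, -, -, h2, h3, h4⟩ := P.exists_f hG hU
  let f' : K →+ K := AddMonoidHom.mk' f fun s t => h2 s trivial t trivial
  have h1 : f 1 ≠ 0 := fun h => one_ne_zero (h3 1 trivial h)
  have h5 : ∀ s t, f (s * t) * f 1 = f s * f t := fun s => by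
    refine sq_induction ⊤ (P := fun s => ∀ t, f (s * t) * f 1 = f s * f t) (fun s _ t => ?_)
      (fun s _ s' _ h h' t => ?_) trivial
    · by_cases hs : s = 0
      · simp [hs, show f 0 = 0 from map_zero f']
      obtain ⟨χ, hχ, e⟩ := P.sq (Units.mk0 s hs) trivial
      obtain ⟨ψ, hψ⟩ := (mem_twT hG).1 (mem_of_map_eq hT ((mem_twT hG (t := ⟨_, hχ⟩)).2 ⟨χ, rfl⟩))
      have h6 := fun t => h4 _ χ ψ rfl hψ t trivial
      simp only [e, Units.val_pow_eq_pow_val, Units.val_mk0] at h6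
      rw [h6, ← mul_one (s ^ 2), h6]; ring
    · rw [sub_mul, show f _ = _ from map_sub f' _ _, show f _ = _ from map_sub f' _ _, sub_mul,
        sub_mul]
      exact congrArg₂ _ (h t) (h' t)
  let σ : K →+* K :=
    { toFun := fun t => f t / f 1
      map_one' := div_self h1
      map_mul' := fun s t => by field_simp; exact h5 s t
      map_zero' := by rw [show f 0 = 0 from map_zero f', zero_div]
      map_add' := fun s t => by rw [h2 s trivial t trivial, add_div] }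
  refine ⟨RingEquiv.ofBijective σ (Finite.injective_iff_bijective.1 σ.injective),
    fun g χ ψ e1 e2 => ?_⟩
  have := h4 g χ ψ e1 e2 1 trivial
  rw [mul_one] at this
  exact (eq_div_iff h1).2 this.symm

theorem Par.exists_c [Finite K] (P : Par A G1 U k a y)
    (hU : (U.subgroupOf G1).map θ.toMonoidHom = U.subgroupOf G1)
    (hT : ∀ t ∈ (twSub hG).T, θ t = t) :
    ∃ c : Kˣ, c.1 ∈ k ∧ ∀ χ ∈ TI A, chv χ a = c → ∀ g : G1, g.1 ∈ U →
      θ g = dgU D K χ * g * (dgU D K χ)⁻¹ := by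
  obtain ⟨f, h0, h1, h2, h3, h4⟩ := P.exists_f hG hU
  have h5 : f 0 = 0 := left_eq_add.1 ((congrArg f (add_zero 0)).symm.trans
    (h2 0 (zero_mem k) 0 (zero_mem k)))
  have h6 : ∀ t ∈ k, f t = f 1 * t := fun t ht => by
    refine sq_induction k (P := fun t => f t = f 1 * t) (fun s hs => ?_)
      (fun s hs s' hs' h h' => ?_) ht
    · by_cases hs0 : s = 0
      · simp [hs0, h5]
      obtain ⟨χ, hχ, e⟩ := P.sq (Units.mk0 s hs0) hs
      have := h4 ⟨_, hχ⟩ χ χ rfl (congrArg Subtype.val (hT ⟨_, hχ⟩ ((mem_twT hG).2 ⟨χ, rfl⟩))).symm 1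
        (one_mem k)
      simpa [e, mul_comm] using this
    · have := h2 _ (sub_mem hs hs') _ hs'
      rw [sub_add_cancel] at this
      linear_combination h - h' - this
  refine ⟨Units.mk0 (f 1) fun h => one_ne_zero (h3 1 (one_mem k) h), h0 1 (one_mem k),
    fun χ hχ e g hg => ?_⟩
  obtain ⟨t, ht, e'⟩ := (P.mem _).1 hg
  rw [h1 g t ht e', e', P.conj χ hχ, e, h6 t ht, Units.val_mk0]

end Par

/-- the kernel of the action on the diagram -/
theorem tw_card_ker [Finite K] (hUS : G1 = (A.twist hn).rgd.US Set.univ)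
    (h1 : ∀ θ : MulAut G1, RGD.Iso (twSub hG) (twSub hG) θ (1 : Equiv.Perm I') →
      ∃ σ : RingAut K, ∀ i : Fin D.rank, av D (D.simple i) ∈ TwL θ (σ : K →+* K))
    (h2 : ∀ θ : MulAut G1, RGD.Iso (twSub hG) (twSub hG) θ (1 : Equiv.Perm I') →
      (∀ t ∈ (twSub hG).T, θ t = t) → ∃ χ ∈ TI A, ∀ i (g : G1),
        g.1 ∈ (A.twist hn).rgd.U (R'.simple i) → θ g = dgU D K χ * g * (dgU D K χ)⁻¹)
    (h3 : ∀ i, ∃ (L : List (Fin D.nroots)) (f : Fin D.nroots → K), L.Nodup ∧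
      (∀ r ∈ L, (rsOf D).Pos r) ∧ (rsOf D).simple i ∈ L ∧ f ((rsOf D).simple i) = 1 ∧
      pr (chevSt D K) L f ∈ G1)
    (h4 : ∃ r, ∀ t, ∃ (L : List (Fin D.nroots)) (f : Fin D.nroots → K), L.Nodup ∧
      (∀ r ∈ L, (rsOf D).Pos r) ∧ r ∈ L ∧ f r = t ∧ pr (chevSt D K) L f ∈ G1) :
    Nat.card (twSub hG).perm.ker = Nat.card (TI A) * Nat.card (RingAut K) := by
  choose β hβ hβ' using fun p : TI A × RingAut K => exists_res hG
    ((iso_fldAut p.2).mul (iso_diagAut p.1.1)) (σ_fld_diag hG p.2 p.1.2)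
  have hx : ∀ (p : TI A × RingAut K) L f (h : pr (chevSt D K) L f ∈ G1),
      (β p ⟨_, h⟩ : GL D.Idx K) = pr (chevSt D K) L fun r => p.2 (chv p.1.1 r * f r) :=
    fun p L f h => (hβ' p _ ⟨_, G1_le hG h⟩ rfl).trans (aut_pr _ (f := fun r t => p.2 (chv p.1.1 r * t))
      (fun r t => by rw [MulAut.mul_apply, diagAut_x, fldAut_x]) L f rfl)
  rw [← Nat.card_prod]
  refine (Nat.card_congr (Equiv.ofBijective (fun p => (⟨⟨β p, _, hβ p⟩, RGD.perm_eq_iff.2 (hβ p)⟩ :
    (twSub hG).perm.ker)) ⟨fun p q h => ?_, fun θ => ?_⟩)).symm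
  · have e : β p = β q := congrArg (fun θ => θ.1.1) h
    have key : ∀ L f, L.Nodup → (∀ r ∈ L, (rsOf D).Pos r) → pr (chevSt D K) L f ∈ G1 → ∀ r ∈ L,
        p.2 (chv p.1.1 r * f r) = q.2 (chv q.1.1 r * f r) := fun L f a b c r hr =>
      pr_unique chevNC chevNM a b ((hx p L f c).symm.trans (e ▸ hx q L f c)) hr
    obtain ⟨r, hr⟩ := h4
    have k1 : ∀ t, p.2 (chv p.1.1 r * t) = q.2 (chv q.1.1 r * t) := fun t => by
      obtain ⟨L, f, a, b, c, rfl, d⟩ := hr t
      exact key L f a b d r c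
    have k2 : p.2 = q.2 := RingEquiv.ext fun t => by
      have := k1 t
      rw [map_mul, map_mul, ← mul_one (chv p.1.1 r : K), k1, mul_one] at this
      exact mul_left_cancel₀ (by simp) this
    refine Prod.ext (Subtype.ext (chr_ext fun i => Units.ext ?_)) k2
    obtain ⟨L, f, a, b, c, d, e⟩ := h3 i
    simpa [d, k2] using key L f a b e _ c
  · have hθ := RGD.perm_eq_iff.1 θ.2
    obtain ⟨σ, hσ⟩ := h1 _ hθ
    have h5 := (hβ (1, σ)).symm.mul hθ
    obtain ⟨χ, hχ, h6⟩ := h2 _ h5 fun t ht => by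
      obtain ⟨χ, e1⟩ := (mem_twT hG).1 ht
      obtain ⟨ψ, e2⟩ := (mem_twT hG).1 (hθ.mem_T_iff.2 ht)
      refine (β (1, σ)).symm_apply_eq.2 (Subtype.ext (e2.symm.trans ?_))
      rw [hβ' _ t ⟨t, G1_le hG t.2⟩ rfl, MulAut.mul_apply, OneMemClass.coe_one, map_one,
        MulAut.one_apply, fldAut_dg σ e1.symm]
      exact congrArg _ (chr_ext fun i => Units.ext (hσ i t χ ψ e1 e2))
    refine ⟨(⟨χ, hχ⟩, σ), Subtype.ext (Subtype.ext (inv_mul_eq_one.1
      (((hβ _).symm.mul hθ).eq_one ((RGD.sub_US _ _).trans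
        (Subgroup.subgroupOf_eq_top.2 hUS.le)) fun i g hg => ?_)))⟩
    refine (β _).symm_apply_eq.2 (Subtype.ext ?_)
    have h7 := h6 i g hg
    change (θ.1.1 g).1 = _
    rw [← (β (1, σ)).apply_symm_apply (θ.1.1 g), hβ' _ g ⟨g, G1_le hG g.2⟩ rfl,
      hβ' _ ((β (1, σ)).symm (θ.1.1 g)) (diagAut D K χ ⟨g, G1_le hG g.2⟩) h7]
    simp

theorem tw_card_out [Finite K] {τ' : Fin D.rank → Fin D.rank} (e1 : ∀ i, τ' (F.τ i) = i)
    (e2 : ∀ i, F.τ (τ' i) = i) (hL : ∀ c, c⁻¹ * Sc A τ' c ∈ (hT D K).ker →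
      ∃ z ∈ (hT D K).ker, Sc A τ' (c * z) = c * z) (hz : Subgroup.center G1 = ⊥)
    (hp : ∀ θ π, RGD.Iso (twSub hG) (twSub hG) θ π → π = 1)
    (h : Nat.card (twSub hG).perm.ker = Nat.card (TI A) * Nat.card (RingAut K)) :
    Nat.card (Out G1) = Nat.card ((hT D K).ker ⊓ (Sc A τ').eqLocus (MonoidHom.id _) : Subgroup _) *
      Nat.card (RingAut K) := by
  have := Fact.mk (CharP.char_is_prime K (ringChar K))
  have h1 := ((twist_charP (A.twist hn) (chev_charP (ringChar K))).sub (tw_grp hG).le).card_out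
    (twSub_top hG) hz
  have h2 : (twSub hG).perm.range = ⊥ := eq_bot_iff.2 (by
    rintro _ ⟨θ, rfl⟩
    exact hp _ _ (RGD.iso_perm θ))
  have h3 : Nat.card (twSub hG).T = Nat.card (A.twist hn).rgd.T :=
    Nat.card_congr (Subgroup.subgroupOfEquivOfLe (RGD.T_le_grp.trans (tw_grp hG).le)).toEquiv
  change _ * Nat.card (twSub hG).T = Nat.card (twSub hG).perm.range * Nat.card (twSub hG).perm.ker
    at h1
  rw [h, h2, h3, card_TI e1 e2, ← card_tw_T A e1 e2 hn hL, Subgroup.card_bot] at h1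
  exact Nat.eq_of_mul_eq_mul_right (Nat.card_pos (α := (A.twist hn).rgd.T)) (by rw [h1]; ring)

end Cfsg.Agent.H12
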