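import Mathlib
import Cfsg.Agent.H12.TwOut
import Cfsg.Agent.H12.Bonds
import Cfsg.Agent.H13.D4Str
import Cfsg.Agent.H13.E6Str
import Cfsg.Agent.H13.F4Str

/-!
Outer automorphism groups of `³D₄(q)`, `²E₆(q)` and `²F₄(q)`.
-/

set_option autoImplicit false
set_option linter.unusedSectionVars false
set_option maxRecDepth 100000

namespace Cfsg.Agent.H12

open Cfsg.Lie Cfsg.Agent.H13

section Gen

variable {D : ChevalleyDatum} [Good D] {K : Type*} [Field K]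
  {Φ' I' k' : Type*} [DecidableEq I'] [Fintype I'] [Finite Φ'] [CommRing k']
  [LinearOrder k'] [IsStrictOrderedRing k'] {R' : RS Φ' I' k'} {F : Fold (rsOf D) R'}
  {A : TwSt F (chevNC (D := D) (F := K)) chevNM} {G1 U : Subgroup (GL D.Idx K)} {θ : K →+* K}

theorem TI_val (hφ : ∀ i, A.φ i = θ) {χ : Chr D K} (hχ : χ ∈ TI A) (i : Fin D.rank) {a b : ℕ}
    (h : D.simple i = a ∧ D.simple (F.τ i) = b) : (chv χ b : K) = θ (chv χ a) := by
  rw [← h.1, ← h.2, ← hφ i]; exact hχ i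

theorem par_one (hU : U ≤ G1) {a : Fin D.nroots}
    (hm : ∀ g, g ∈ U ↔ ∃ t, θ t = t ∧ g = (chevSt D K).x a t)
    (hf : ∀ χ ∈ TI A, (chv χ a : K) = θ (chv χ a))
    (hs : ∀ t : Kˣ, θ t = t → ∃ χ, dgU D K χ ∈ G1 ∧ chv χ a = t ^ 2) :
    Par A G1 U (θ.eqLocusField (RingHom.id K)) a ((chevSt D K).x a) :=
  ⟨hU, (chevSt D K).add a, hm, StSys.x_injective chevNC chevNM a, fun χ _ t => dg_conj_x χ a t,
    fun χ h => (hf χ h).symm, hs⟩

theorem par_two (hU : U ≤ G1) {a b : Fin D.nroots} (h : Orth a b)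
    (hp : ∀ r ∈ [a, b], (rsOf D).Pos r) {φ ψ : K →+* K}
    (hm : ∀ g, g ∈ U ↔ ∃ t, g = (chevSt D K).x a (φ t) * (chevSt D K).x b (ψ t)) {c : ℕ}
    (hf : ∀ χ ∈ TI A, (chv χ a : K) = φ (chv χ c) ∧ (chv χ b : K) = ψ (chv χ c))
    (hs : ∀ t : Kˣ, ∃ χ, dgU D K χ ∈ G1 ∧ chv χ c = t ^ 2) :
    Par A G1 U ⊤ c fun t => (chevSt D K).x a (φ t) * (chevSt D K).x b (ψ t) where
  le := hU
  add := fun s t => by
    rw [map_add, map_add, StSys.add, StSys.add, (h.pp _ _).mul_mul_mul_comm]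
  mem := fun g => by simpa using hm g
  inj := fun s t e => φ.injective (two_inj h hp e).1
  conj := fun χ hχ t => by
    rw [← conj_mul, dg_conj_x, dg_conj_x, (hf χ hχ).1, (hf χ hχ).2, map_mul, map_mul]
  fix := fun _ _ => trivial
  sq := fun t _ => hs t

theorem center_eq_bot_of_simple {G : Type*} [Group G]
    (h : IsSimpleGroup G ∧ ¬ IsMulCommutative G) : Subgroup.center G = ⊥ :=
  (h.1.eq_bot_or_eq_top_of_normal _ inferInstance).resolve_right fun e =>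
    h.2 ⟨⟨fun a b => Subgroup.mem_center_iff.1 (e ▸ Subgroup.mem_top b) a⟩⟩

theorem perm_two_eq_one (π : Equiv.Perm (Fin 2)) (h : π 0 ≠ 1) : π = 1 := by
  revert π; decide

theorem card_twSub_U {B : Twist F (chevRGD D K)} (hG : G1 = B.Fix) (r : Φ') :
    Nat.card ((twSub hG).U r) = Nat.card (B.rgd.U r) :=
  Nat.card_congr (Subgroup.subgroupOfEquivOfLe ((RGD.U_le_grp r).trans (tw_grp hG).le)).toEquiv

end Gen

/-! ### `³D₄` -/

section D4

variable {K : Type*} [Field K] (S : DD K)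

theorem DD_U_le (r : Fin chevG2.nroots) : S.X.U r ≤ S.G := (RGD.U_le_grp r).trans S.X_grp.le

theorem DD_dg (a : Kˣ) {b : Kˣ} (hb : S.θ b = b) : dgU chevD4 K (hT chevD4 K (S.hc a b)) ∈ S.G :=
  S.X_grp.le (RGD.T_le_grp (S.mem_T.2 ⟨a, b, hb, rfl⟩))

theorem DD_par7 : Par S.A S.G (S.X.U 7) ⊤ 18 S.us where
  le := DD_U_le S 7
  add := fun s t => by
    simp only [DD.us, map_add, StSys.add]
    rw [(D4.o3.pp _ _).mul_mul_mul_comm, ((D4.o1.pp _ _).mul_right (D4.o2.pp _ _)).mul_mul_mul_comm]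
  mem := fun g => by simpa using S.mem_U7
  inj := fun s t e => (three_inj D4.o1 D4.o2 D4.o3 (by decide +kernel) e).1
  conj := fun χ hχ t => by
    have h1 := TI_val S.φ hχ 0 (a := 18) (b := 13) (by decide +kernel)
    have h2 := TI_val S.φ hχ 2 (a := 13) (b := 12) (by decide +kernel)
    rw [DD.us, DD.us, ← conj_mul, ← conj_mul, dg_conj_x, dg_conj_x, dg_conj_x, map_mul, map_mul,
      ← h1, ← h2]
    rfl
  fix := fun _ _ => trivial
  sq := fun t _ => ⟨_, DD_dg S t (b := 1) (map_one _), by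
    have e : chevD4.cartan 0 18 = 2 ∧ chevD4.cartan 2 18 = 0 ∧ chevD4.cartan 3 18 = 0 := by
      decide +kernel
    rw [chv_hT _ (by decide)]
    refine (Fin.prod_univ_four _).trans ?_
    change t ^ chevD4.cartan 0 18 * 1 ^ _ * _ ^ chevD4.cartan 2 18 * _ ^ chevD4.cartan 3 18 = _
    simp [e, zpow_ofNat]⟩

theorem DD_par6 : Par S.A S.G (S.X.U 6) (S.θ.eqLocusField (RingHom.id K)) 14 (D4.x 14) :=
  par_one (a := 14) (DD_U_le S 6) (fun _ => S.mem_U6)
    (fun _ hχ => TI_val S.φ hχ 1 (by decide +kernel)) fun t ht => ⟨_, DD_dg S 1 ht, by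
      rw [chv_hT _ (by decide)]
      refine (Fin.prod_univ_four _).trans ?_
      change 1 ^ _ * t ^ chevD4.cartan 1 14 * Units.map _ 1 ^ _ * Units.map _ (Units.map _ 1) ^ _ = _
      simp [show chevD4.cartan 1 14 = 2 by decide +kernel, zpow_ofNat]⟩

theorem DD_card_out [Finite K] (h : 3 < Nat.card K) (hθ : ∃ t, S.θ t ≠ t) :
    Nat.card (Out S.G) = Nat.card (RingAut K) := by
  have hG : S.G = (S.A.twist S.nontriv).Fix := rfl
  have h7 := fun t => DD_U_le S 7 (S.mem_U7.2 ⟨t, rfl⟩)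
  simp only [DD.us, three_eq_pr D4.o1 D4.o2 D4.o3] at h7
  have n7 := D4.o1.nodup3 D4.o2 D4.o3
  have p7 : ∀ r ∈ [18, 13, 12], (rsOf chevD4).Pos r := by decide +kernel
  rw [tw_card_out hG D4.τ'_τ D4.τ_τ' S.lang (center_eq_bot_of_simple
    (tw_simple hG rsOf_irred (S.perfect h) S.faithful)) (fun θ π hπ => ?_)
    (tw_card_ker hG S.G_eq_US (fun θ hθ => ?_) (fun θ hθ hT => ?_) (fun i => ?_)
      ⟨18, fun t => ⟨_, _, n7, p7, by decide, rfl, h7 t⟩⟩)]
  · rw [show (hT chevD4 K).ker ⊓ (Sc S.A D4.τ').eqLocus (MonoidHom.id _) = ⊥ from ?_,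
      Subgroup.card_bot, one_mul]
    refine eq_bot_iff.2 fun c hc => ?_
    obtain ⟨h0, h1, h2, h3⟩ := D4.mem_ker hc.1
    have h4 := (S.mem_eqLocus.1 hc.2).2
    have h5 : Units.map S.θ.toMonoidHom (c 0) = c 0 := by
      rcases sq_eq_one_iff.1 (show (c 0 : K) ^ 2 = 1 from congrArg Units.val h0) with h | h <;>
        exact Units.ext (by simp [h])
    have h6 : c 2 = c 0 := (congrFun h4 2).trans h5
    have h7 : c 3 = c 0 := (congrFun h4 3).trans (by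
      change Units.map _ (Units.map _ _) = _; rw [h5, h5])
    rw [h7, h6, left_eq_mul] at h3
    rw [Subgroup.mem_bot, h4, h3, h1]
    funext i
    simp [DD.hc]
  · refine perm_two_eq_one π fun e => ?_
    have := (congrArg (fun i => Nat.card ((twSub hG).U ((rsOf chevG2).simple i))) e).symm.trans
      (hπ.card_U 0)
    obtain ⟨t, ht⟩ := hθ
    exact (Finite.card_subtype_lt (p := fun t => S.θ t = t) ht).ne
      (S.card_U6.symm.trans ((card_twSub_U hG _).symm.trans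
        (this.trans ((card_twSub_U hG _).trans S.card_U7))))
  · obtain ⟨σ, h0⟩ := (DD_par7 S).exists_σ hG (hθ.pos 0) hθ.T
    have h2 := TwL_τ hG (i := 0) h0
    have h3 := TwL_τ hG (i := 2) h2
    have h1 := sub_mem (TwL_w hG hθ 1 (r := 18) h0) h0
    refine ⟨σ, fun i => ?_⟩
    rcases D4.rank_cases i with rfl | rfl | rfl | rfl
    exacts [h0, Set.mem_of_eq_of_mem (by decide +kernel) h1, h2, h3]
  · obtain ⟨a, -, ha⟩ := (DD_par7 S).exists_c hG (hθ.pos 0) hT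
    obtain ⟨b, hb, hb'⟩ := (DD_par6 S).exists_c hG (hθ.pos 1) hT
    have hχ := (mkChr_mem_TI D4.τ'_τ D4.τ_τ').2 (S.hc_mem a hb)
    refine ⟨_, hχ, fun i => ?_⟩
    fin_cases i
    exacts [ha _ hχ (chv_mkChr _ 0), hb' _ hχ (chv_mkChr _ 1)]
  · rcases D4.rank_cases i with rfl | rfl | rfl | rfl
    · exact ⟨_, _, n7, p7, by decide, rfl, h7 1⟩
    · exact ⟨[14], fun _ => 1, List.nodup_singleton _, by decide +kernel, by decide, rfl,
        DD_U_le S 6 (S.mem_U6.2 ⟨1, map_one _, pr_one _ _⟩)⟩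
    · exact ⟨_, _, n7, p7, by decide, map_one S.θ, h7 1⟩
    · exact ⟨_, _, n7, p7, by decide, (congrArg S.θ (map_one S.θ)).trans (map_one S.θ), h7 1⟩

end D4

/-! ### `²E₆` -/

section E6

variable {K : Type*} [Field K] (S : ED K)

theorem ED_U_le (r : Fin chevF4.nroots) : S.X.U r ≤ S.G := (RGD.U_le_grp r).trans S.X_grp.le

theorem ED_dg (a b : Kˣ) {c d : Kˣ} (hc : S.θ c = c) (hd : S.θ d = d) {r : ℕ}
    (hr : r < chevE6.nroots) :
    ∃ χ, dgU chevE6 K χ ∈ S.G ∧ chv χ r = a ^ chevE6.cartan 0 r * d ^ chevE6.cartan 1 r *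
      b ^ chevE6.cartan 2 r * c ^ chevE6.cartan 3 r *
      Units.map S.θ.toMonoidHom b ^ chevE6.cartan 4 r *
      Units.map S.θ.toMonoidHom a ^ chevE6.cartan 5 r :=
  ⟨hT chevE6 K (S.hc a b c d), S.X_grp.le (RGD.T_le_grp (S.mem_T.2 ⟨a, b, c, d, hc, hd, rfl⟩)),
    (chv_hT _ hr).trans (Fin.prod_univ_six _)⟩

theorem ED_par33 : Par S.A S.G (S.X.U 33) ⊤ 56 (S.up 56 36) :=
  par_two (φ := RingHom.id K) (ED_U_le S 33) E6.o1 (by decide +kernel) (fun _ => S.mem_U33)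
    (fun _ hχ => ⟨rfl, TI_val S.φ hχ 0 (by decide +kernel)⟩) fun t => by
      have e : chevE6.cartan 0 56 = 2 ∧ chevE6.cartan 5 56 = 0 := by decide +kernel
      obtain ⟨χ, h1, h2⟩ := ED_dg S t 1 (c := 1) (d := 1) (map_one _) (map_one _) (r := 56) (by decide)
      exact ⟨χ, h1, h2.trans (by simp [e, zpow_ofNat])⟩

theorem ED_par27 : Par S.A S.G (S.X.U 27) ⊤ 42 (S.up 42 37) :=
  par_two (φ := RingHom.id K) (ED_U_le S 27) E6.o2 (by decide +kernel) (fun _ => S.mem_U27)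
    (fun _ hχ => ⟨rfl, TI_val S.φ hχ 2 (by decide +kernel)⟩) fun t => by
      have e : chevE6.cartan 2 42 = 2 ∧ chevE6.cartan 4 42 = 0 := by decide +kernel
      obtain ⟨χ, h1, h2⟩ := ED_dg S 1 t (c := 1) (d := 1) (map_one _) (map_one _) (r := 42) (by decide)
      exact ⟨χ, h1, h2.trans (by simp [e, zpow_ofNat])⟩

theorem ED_par25 : Par S.A S.G (S.X.U 25) (S.θ.eqLocusField (RingHom.id K)) 39 (E6.x 39) :=
  par_one (a := 39) (ED_U_le S 25) (fun _ => S.mem_U25)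
    (fun _ hχ => TI_val S.φ hχ 3 (by decide +kernel)) fun t ht => by
      have e : chevE6.cartan 3 39 = 2 := by decide +kernel
      obtain ⟨χ, h1, h2⟩ := ED_dg S 1 1 ht (d := 1) (map_one _) (r := 39) (by decide)
      exact ⟨χ, h1, h2.trans (by simp [e, zpow_ofNat])⟩

theorem ED_par24 : Par S.A S.G (S.X.U 24) (S.θ.eqLocusField (RingHom.id K)) 46 (E6.x 46) :=
  par_one (a := 46) (ED_U_le S 24) (fun _ => S.mem_U24)
    (fun _ hχ => TI_val S.φ hχ 1 (by decide +kernel)) fun t ht => by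
      have e : chevE6.cartan 1 46 = 2 := by decide +kernel
      obtain ⟨χ, h1, h2⟩ := ED_dg S 1 1 (c := 1) (map_one _) ht (r := 46) (by decide)
      exact ⟨χ, h1, h2.trans (by simp [e, zpow_ofNat])⟩

theorem ED_card_out [Finite K] (h : 3 < Nat.card K) (hθ : ∃ t, S.θ t ≠ t) :
    Nat.card (Out S.G) = Nat.card ((hT chevE6 K).ker ⊓
      (Sc S.A foldE6.τ).eqLocus (MonoidHom.id _) : Subgroup _) * Nat.card (RingAut K) := by
  have hG : S.G = (S.A.twist S.nontriv).Fix := rfl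
  have h33 := fun t => ED_U_le S 33 (S.mem_U33.2 ⟨t, rfl⟩)
  have h27 := fun t => ED_U_le S 27 (S.mem_U27.2 ⟨t, rfl⟩)
  simp only [ED.up, two_eq_pr E6.o1, two_eq_pr E6.o2] at h33 h27
  have p33 : ∀ r ∈ [56, 36], (rsOf chevE6).Pos r := by decide +kernel
  have p27 : ∀ r ∈ [42, 37], (rsOf chevE6).Pos r := by decide +kernel
  refine tw_card_out hG E6.τ_τ E6.τ_τ S.lang (center_eq_bot_of_simple
    (tw_simple hG rsOf_irred (S.perfect h) S.faithful)) (fun θ π hπ => ?_)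
    (tw_card_ker hG S.G_eq_US (fun θ hθ => ?_) (fun θ hθ hT => ?_) (fun i => ?_)
      ⟨56, fun t => ⟨_, _, E6.o1.nodup, p33, by decide, rfl, h33 t⟩⟩)
  · refine (symm_F4 (bondOK_F4.symm_of_iso hπ)).resolve_right fun e => ?_
    have := hπ.card_U 0
    rw [e] at this
    obtain ⟨t, ht⟩ := hθ
    exact (Finite.card_subtype_lt (p := fun t => S.θ t = t) ht).ne
      ((S.card_U 24).symm.trans ((card_twSub_U hG _).symm.trans
        (this.trans ((card_twSub_U hG _).trans (S.card_U 33)))))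
  · obtain ⟨σ, h0⟩ := (ED_par33 S).exists_σ hG (hθ.pos 0) hθ.T
    have h2 : av chevE6 42 ∈ _ :=
      Set.mem_of_eq_of_mem (by decide +kernel) (sub_mem (TwL_w hG hθ 1 (r := 56) h0) h0)
    have h3 : av chevE6 39 ∈ _ :=
      Set.mem_of_eq_of_mem (by decide +kernel) (sub_mem (TwL_w hG hθ 2 (r := 42) h2) h2)
    have h1 : av chevE6 46 ∈ _ :=
      Set.mem_of_eq_of_mem (by decide +kernel) (sub_mem (TwL_w hG hθ 3 (r := 39) h3) h3)
    refine ⟨σ, fun i => ?_⟩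
    rcases E6.rank_cases i with rfl | rfl | rfl | rfl | rfl | rfl
    exacts [h0, h1, h2, h3, TwL_τ hG (i := 2) h2, TwL_τ hG (i := 0) h0]
  · obtain ⟨a, -, ha⟩ := (ED_par33 S).exists_c hG (hθ.pos 0) hT
    obtain ⟨b, -, hb⟩ := (ED_par27 S).exists_c hG (hθ.pos 1) hT
    obtain ⟨c, hc, hc'⟩ := (ED_par25 S).exists_c hG (hθ.pos 2) hT
    obtain ⟨d, hd, hd'⟩ := (ED_par24 S).exists_c hG (hθ.pos 3) hT
    have hχ := (mkChr_mem_TI E6.τ_τ E6.τ_τ).2 (S.hc_mem a b hc hd)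
    refine ⟨_, hχ, fun i => ?_⟩
    fin_cases i
    exacts [ha _ hχ (chv_mkChr _ 0), hb _ hχ (chv_mkChr _ 2), hc' _ hχ (chv_mkChr _ 3),
      hd' _ hχ (chv_mkChr _ 1)]
  · rcases E6.rank_cases i with rfl | rfl | rfl | rfl | rfl | rfl
    · exact ⟨_, _, E6.o1.nodup, p33, by decide, rfl, h33 1⟩
    · exact ⟨[46], fun _ => 1, List.nodup_singleton _, by decide +kernel, by decide, rfl,
        ED_U_le S 24 (S.mem_U24.2 ⟨1, map_one _, pr_one _ _⟩)⟩
    · exact ⟨_, _, E6.o2.nodup, p27, by decide, rfl, h27 1⟩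
    · exact ⟨[39], fun _ => 1, List.nodup_singleton _, by decide +kernel, by decide, rfl,
        ED_U_le S 25 (S.mem_U25.2 ⟨1, map_one _, pr_one _ _⟩)⟩
    · exact ⟨_, _, E6.o2.nodup, p27, by decide, map_one S.θ, h27 1⟩
    · exact ⟨_, _, E6.o1.nodup, p33, by decide, map_one S.θ, h33 1⟩

theorem ED_card_ker [Finite K] {q : ℕ} (hq : 2 ≤ q) (hK : Nat.card K = q ^ 2)
    (he : ∀ t, S.θ t = t ^ q) : Nat.card ((hT chevE6 K).ker ⊓
      (Sc S.A foldE6.τ).eqLocus (MonoidHom.id _) : Subgroup _) = Nat.gcd 3 (q + 1) := by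
  have h := card_tw_T S.A E6.τ_τ E6.τ_τ S.nontriv S.lang
  have h1 : Nat.card {t : Kˣ // S.θ t = t} = q - 1 := by
    simp only [he]; exact card_fixed_units hq hK
  rw [← Nat.card_congr (Equiv.ofBijective
      (fun p : (Kˣ × Kˣ) × {t : Kˣ // S.θ t = t} × {t : Kˣ // S.θ t = t} =>
        (⟨_, S.hc_mem p.1.1 p.1.2 p.2.1.2 p.2.2.2⟩ : (Sc S.A foldE6.τ).eqLocus (MonoidHom.id _)))
      ⟨fun p q e => ?_, fun c => ?_⟩)] at h
  · refine Nat.eq_of_mul_eq_mul_right (Nat.card_pos (α := S.X.T)) (h.trans ?_)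
    rw [S.card_T' hq hK he, Nat.card_prod, Nat.card_prod, Nat.card_prod, h1, Nat.card_units, hK,
      show q ^ 2 - 1 = (q + 1) * (q - 1) by rw [← Nat.sq_sub_sq, one_pow]]
    ring
  · have := congrArg Subtype.val e
    exact Prod.ext (Prod.ext (congrFun this 0) (congrFun this 2))
      (Prod.ext (Subtype.ext (congrFun this 3)) (Subtype.ext (congrFun this 1)))
  · obtain ⟨h1, h2, h3⟩ := S.mem_eqLocus.1 c.2
    exact ⟨((_, _), ⟨_, h1⟩, ⟨_, h2⟩), Subtype.ext h3.symm⟩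

end E6

/-! ### `²F₄` -/

section F4

variable {K : Type*} [Field K] (S : FD K)

local notation "v" n:max => Ex.var n

theorem F4_mul4 (h2 : (2 : K) = 0) (A B C D A' B' C' D' : K) :
    F4.x 27 A * F4.x 25 B * F4.x 28 C * F4.x 30 D * (F4.x 27 A' * F4.x 25 B' * F4.x 28 C' * F4.x 30 D') =
      F4.x 27 (A + A') * F4.x 25 (B + B') * F4.x 28 (C + C' + B * A') *
        F4.x 30 (D + D' + B * A' ^ 2) := by
  obtain ⟨μ, rfl, rfl, rfl, rfl, rfl, rfl, rfl, rfl⟩ := exists_mu8 A B C D A' B' C' D'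
  have := F4.chk2 h2 μ [(27, v 2), (25, v 3), (28, v 5), (30, v 7), (27, v 11), (25, v 13),
    (28, v 17), (30, v 19)] [(27, v 2 + v 11), (25, v 3 + v 13), (28, v 5 + v 17 + v 3 * v 11),
      (30, v 7 + v 19 + v 3 * v 11 ^ 2)] (by decide +kernel)
  simpa [mul_assoc] using this

theorem FD_ub_mul (t u t' u' : K) : S.ub 27 25 28 30 t u * S.ub 27 25 28 30 t' u' =
    S.ub 27 25 28 30 (t + t') (u + u' + S.θ t * t') := by
  rw [FD.ub, FD.ub, FD.ub, F4_mul4 S.two]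
  simp only [map_add, map_mul, S.sq_add, mul_pow, S.hθ]
  congr 3
  linear_combination (-S.θ t * t') * S.two

theorem FD_U_le (r : Fin 16) : S.X.U r ≤ S.G := (RGD.U_le_grp r).trans S.X_grp.le

theorem FD_TI {χ : Chr chevF4 K} (hχ : χ ∈ TI S.A) :
    (chv χ 33 : K) = S.θ (chv χ 24) ∧ (chv χ 27 : K) = S.θ (chv χ 25) :=
  ⟨(hχ 3).trans (S.φs 3 _), (hχ 2).trans (S.φs 2 _)⟩

theorem FD_conj_ub {χ : Chr chevF4 K} (hχ : χ ∈ TI S.A) (t u : K) :
    dgU chevF4 K χ * S.ub 27 25 28 30 t u * (dgU chevF4 K χ)⁻¹ =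
      S.ub 27 25 28 30 (chv χ 25 * t) (S.θ (chv χ 25) * chv χ 25 * u) := by
  have h1 := (FD_TI S hχ).2
  have h2 := chv_of_av χ (q := 28) (s := 25) (r := 27) (a := 1) (by decide +kernel)
  have h3 := chv_of_av χ (q := 30) (s := 25) (r := 27) (a := 2) (by decide +kernel)
  rw [FD.ub, FD.ub, ← conj_mul, ← conj_mul, ← conj_mul, dg_conj_x, dg_conj_x, dg_conj_x, dg_conj_x]
  change F4.x 27 ((chv χ 27 : K) * _) * F4.x 25 ((chv χ 25 : K) * _) *
    F4.x 28 ((chv χ 28 : K) * _) * F4.x 30 ((chv χ 30 : K) * _) = _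
  simp only [h2, h3, zpow_ofNat, Units.val_mul, Units.val_pow_eq_pow_val, h1, map_mul, mul_pow, S.hθ]
  congr 3
  ring

theorem FD_dg (a b : Kˣ) {r : ℕ} (hr : r < chevF4.nroots) :
    ∃ χ, dgU chevF4 K χ ∈ S.G ∧ chv χ r = Units.map S.θ.toMonoidHom a ^ chevF4.cartan 0 r *
      Units.map S.θ.toMonoidHom b ^ chevF4.cartan 1 r * b ^ chevF4.cartan 2 r *
      a ^ chevF4.cartan 3 r :=
  ⟨hT chevF4 K (S.hc (a, b)), S.X_grp.le (RGD.T_le_grp (S.hh_mem_T (a, b))),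
    (chv_hT _ hr).trans (Fin.prod_univ_four _)⟩

theorem FD_par0 : Par S.A S.G (S.X.U 0) ⊤ 24 (S.up 33 24) :=
  par_two (ψ := RingHom.id K) (FD_U_le S 0) (by decide +kernel) F4.pos2 (fun _ => S.mem_U0)
    (fun _ hχ => ⟨(FD_TI S hχ).1, rfl⟩) fun t => by
      have e : chevF4.cartan 0 24 = 0 ∧ chevF4.cartan 3 24 = 2 := by decide +kernel
      obtain ⟨χ, h1, h2⟩ := FD_dg S t 1 (r := 24) (by decide)
      exact ⟨χ, h1, h2.trans (by simp [e, zpow_ofNat])⟩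

theorem FD_norm_injective : Function.Injective fun t : K => S.θ t * t := fun s t h => by
  by_cases ht : t = 0
  · simpa [ht] using h
  have h1 : S.θ (s / t) * (s / t) = 1 := by
    rw [map_div₀, div_mul_div_comm]; exact (div_eq_one_iff_eq (by simpa using ht)).2 h
  have h2 := S.hθ (s / t)
  rw [eq_inv_of_mul_eq_one_left h1, map_inv₀, eq_inv_of_mul_eq_one_left h1, inv_inv, sq,
    mul_eq_right₀ (right_ne_zero_of_mul_eq_one h1)] at h2
  exact (div_eq_one_iff_eq ht).1 h2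

theorem FD_exists_c [Finite K] (hθ : ∃ t, S.θ t ≠ t) {θ : MulAut S.G}
    (hU : ((S.X.U 7).subgroupOf S.G).map θ.toMonoidHom = (S.X.U 7).subgroupOf S.G)
    (hT : ∀ (g : S.G) χ, dgU chevF4 K χ = g → θ g = g) :
    ∃ c : Kˣ, ∀ χ ∈ TI S.A, chv χ 25 = c → ∀ g : S.G, g.1 ∈ S.X.U 7 →
      θ g = dgU chevF4 K χ * g * (dgU chevF4 K χ)⁻¹ := by
  have hG : S.G = (S.A.twist S.nontriv).Fix := rfl
  let y : K → K → S.G := fun t u => ⟨_, FD_U_le S 7 (S.mem_U7.2 ⟨t, u, rfl⟩)⟩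
  choose a b h using fun t u => S.mem_U7.1 (mem_of_map_eq hU (g := y t u) (S.mem_U7.2 ⟨t, u, rfl⟩))
  have h' : ∀ t u, θ (y t u) = y (a t u) (b t u) := fun t u => Subtype.ext (h t u)
  have hi : ∀ {t u t' u'}, y t u = y t' u' → t = t' ∧ u = u' := fun e =>
    S.ub_inj (congrArg Subtype.val e)
  have hm : ∀ t u t' u', y t u * y t' u' = y (t + t') (u + u' + S.θ t * t') := fun t u t' u' =>
    Subtype.ext (FD_ub_mul S t u t' u')
  have h1 : ∀ t u t' u', a (t + t') (u + u' + S.θ t * t') = a t u + a t' u' ∧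
      b (t + t') (u + u' + S.θ t * t') = b t u + b t' u' + S.θ (a t u) * a t' u' :=
    fun t u t' u' => hi (by rw [← h', ← hm, map_mul, h', h', hm])
  have h0 := h1 0 0 0 0
  simp only [add_zero, mul_zero, left_eq_add] at h0
  have h00 : b 0 0 = 0 := by simpa [h0.1] using h0.2
  have h2 : ∀ t, a t 0 = t * a 1 0 ∧ b t 0 = S.θ t * t * b 1 0 := fun t => by
    by_cases ht : t = 0
    · simp [ht, h0.1, h00]
    obtain ⟨χ, e1, e2⟩ := FD_dg S (Units.mk0 t ht)⁻¹ 1 (r := 25) (by decide)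
    have e : chevF4.cartan 0 25 = 0 ∧ chevF4.cartan 3 25 = -1 := by decide +kernel
    have e3 : (chv χ 25 : K) = t := by simp [e2, e]
    have e4 : ∀ s u, (⟨_, e1⟩ : S.G) * y s u * (⟨_, e1⟩ : S.G)⁻¹ = y (t * s) (S.θ t * t * u) :=
      fun s u => Subtype.ext (e3 ▸ FD_conj_ub S (mem_TI_of_mem hG e1) s u)
    have := congrArg θ (e4 1 0)
    rw [map_mul, map_mul, map_inv, hT _ χ rfl, h', h', e4, mul_one, mul_zero] at this
    exact ⟨(hi this).1.symm, (hi this).2.symm⟩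
  have h3 : ∀ u, a 0 u = 0 ∧ b 0 u = S.θ (a 1 0) * a 1 0 * u := fun u => by
    obtain ⟨t, rfl⟩ := Finite.surjective_of_injective (FD_norm_injective S) u
    have := h1 t 0 t 0
    rw [← two_mul t, S.two, zero_mul, add_zero, zero_add, (h2 t).1, map_mul] at this
    exact ⟨by linear_combination this.1 + (t * a 1 0) * S.two,
      by linear_combination this.2 + b t 0 * S.two⟩
  have h4 : ∀ t u, a t u = a 1 0 * t ∧ b t u = b t 0 + S.θ (a 1 0) * a 1 0 * u := fun t u => by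
    simpa [h3, (h2 t).1, mul_comm t] using h1 t 0 0 u
  have h5 : b 1 0 = 0 := by
    obtain ⟨t, ht⟩ := hθ
    have := (h1 t 0 1 0).2
    rw [(h4 _ _).2, (h2 (t + 1)).2, (h2 t).2, (h2 t).1, map_mul, map_add, map_one] at this
    refine (mul_eq_zero.1 (show (S.θ t - t) * b 1 0 = 0 by
      linear_combination this - t * b 1 0 * S.two)).resolve_left (sub_ne_zero.2 ht)
  refine ⟨Units.mk0 (a 1 0) fun e => one_ne_zero (hi (θ.injective (a₁ := y 1 0) (a₂ := y 0 0) (by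
    rw [h', h', e, h5, h0.1, h00]))).1, fun χ hχ e g hg => ?_⟩
  obtain ⟨t, u, e'⟩ := S.mem_U7.1 hg
  rw [show g = y t u from Subtype.ext e', h', FD_conj_ub S hχ, e, Units.val_mk0, (h4 t u).1,
    (h4 t u).2, (h2 t).2, h5, mul_zero, zero_add]

theorem FD_card_out [Finite K] (h : 2 < Nat.card K) (hθ : ∃ t, S.θ t ≠ t) :
    Nat.card (Out S.G) = Nat.card (RingAut K) := by
  have hG : S.G = (S.A.twist S.nontriv).Fix := rfl
  have h1 : ∀ i, foldF4.τ (foldF4.τ i) = i := by decide +kernel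
  have hi : ∀ i : Fin chevF4.rank, i = 0 ∨ i = 1 ∨ i = 2 ∨ i = 3 := by decide
  have hk : (hT chevF4 K).ker = ⊥ := by rw [hT_ker cartF4_chk, cker_eq_bot kerChkF4]
  have h0 := fun t => S.up_eq_pr t ▸ FD_U_le S 0 (S.mem_U0.2 ⟨t, rfl⟩)
  have h7 := S.ub_eq_pr 1 0 ▸ FD_U_le S 7 (S.mem_U7.2 ⟨1, 0, rfl⟩)
  rw [tw_card_out hG h1 h1 (fun c hc => ⟨1, one_mem _, by
    rw [hk, Subgroup.mem_bot, inv_mul_eq_one] at hc; rw [mul_one, ← hc]⟩) (center_eq_bot_of_simple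
    (tw_simple hG rsI8_irred (S.perfect h) S.faithful)) (fun θ π hπ => ?_)
    (tw_card_ker hG S.G_eq_US (fun θ hθ => ?_) (fun θ hθ' hT => ?_) (fun i => ?_)
      ⟨24, fun t => ⟨_, _, F4.nd2, F4.pos2, by decide, rfl, h0 t⟩⟩), hk, bot_inf_eq,
    Subgroup.card_bot, one_mul]
  · refine perm_two_eq_one π fun e => ?_
    have := (congrArg (fun i => Nat.card ((twSub hG).U (rsI8.simple i))) e).symm.trans
      (hπ.card_U 0)
    have := S.card_U7.symm.trans ((card_twSub_U hG _).symm.trans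
        (this.trans ((card_twSub_U hG _).trans S.card_U0)))
    nlinarith
  · obtain ⟨σ, h3⟩ := (FD_par0 S).exists_σ hG (hθ.pos 0) hθ.T
    have h0 := TwL_τ hG (i := 3) h3
    have h2 : av chevF4 25 ∈ _ := Set.mem_of_eq_of_mem (by decide +kernel)
      (sub_mem (sub_mem (TwL_w hG hθ 1 (r := 24) h3) h3) (sub_mem (TwL_w hG hθ 1 (r := 33) h0) h0))
    refine ⟨σ, fun i => ?_⟩
    rcases hi i with rfl | rfl | rfl | rfl
    exacts [h0, TwL_τ hG (i := 2) h2, h2, h3]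
  · obtain ⟨a, -, ha⟩ := (FD_par0 S).exists_c hG (hθ'.pos 0) hT
    obtain ⟨b, hb⟩ := FD_exists_c S hθ (hθ'.pos 1) fun g χ e => hT g ((mem_twT hG).2 ⟨χ, e⟩)
    have hχ : mkChr (S.hc (a, b)) ∈ TI S.A := fun i => by
      rw [chv_mkChr, chv_mkChr, S.φs]
      rcases hi i with rfl | rfl | rfl | rfl
      exacts [(S.hθ _).symm, (S.hθ _).symm, rfl, rfl]
    refine ⟨_, hχ, fun i => ?_⟩
    fin_cases i
    exacts [ha _ hχ (chv_mkChr _ 3), hb _ hχ (chv_mkChr _ 2)]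
  · rcases hi i with rfl | rfl | rfl | rfl
    · exact ⟨_, _, F4.nd2, F4.pos2, by decide, map_one S.θ, h0 1⟩
    · exact ⟨_, _, F4.nd4, F4.pos4, by decide, map_one S.θ, h7⟩
    · exact ⟨_, _, F4.nd4, F4.pos4, by decide, rfl, h7⟩
    · exact ⟨_, _, F4.nd2, F4.pos2, by decide, rfl, h0 1⟩

end F4

theorem exists_pow_ne {K : Type*} [Field K] [Finite K] {q : ℕ} (hq : 2 ≤ q) (h : q < Nat.card K) :
    ∃ t : K, t ^ q ≠ t := by
  by_contra hc
  push Not at hc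
  have : Monoid.exponent Kˣ ∣ q - 1 := Monoid.exponent_dvd_of_forall_pow_eq_one fun t =>
    mul_right_cancel (b := t) (Units.ext (by
      rw [← pow_succ, Nat.sub_add_cancel (by omega)]; simpa using hc t))
  rw [IsCyclic.exponent_eq_card, Nat.card_units] at this
  have := Nat.le_of_dvd (by omega) this
  omega

end Cfsg.Agent.H12
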