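import Mathlib
import Cfsg.Agent.H12.TwOut2
import Cfsg.Agent.H12.Fix2
import Cfsg.Agent.S2122

/-!
Three classes of subgroups `F₄(2)` in `²E₆(2)`.
-/

set_option autoImplicit false
set_option linter.unusedSectionVars false
set_option maxRecDepth 100000

namespace Cfsg.Agent.H12

open Cfsg.Lie Cfsg.Agent.H13

theorem RGD.mem_B_of_simple {Φ I k : Type*} [DecidableEq I] [CommRing k] [LinearOrder k]
    {R : RS Φ I k} {G : Type*} [Group G] {X : RGD R G} [IsStrictOrderedRing k] [Fintype I]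
    [Finite Φ] {g : G} (hg : g ∈ X.grp) (h : ∀ i, ∃ a ∈ X.U (R.simple i), a ≠ 1 ∧
      ∃ v ∈ X.UJ {i}, g * (a * v) * g⁻¹ ∈ X.B) : g ∈ X.B := by
  obtain ⟨w, b, hb, n, hn, b', hb', rfl⟩ := RGD.mem_grp_iff.1 hg
  obtain rfl : w = 1 := R.eq_one_of_pos fun i => by_contra fun hi => by
    obtain ⟨a, ha, h1, v, hv, h2⟩ := h i
    have h3 := mul_mem (RGD.U_le_Up (R.pos_simple i) ha) (RGD.UJ_le_Up _ hv)
    have h4 := hn.mem_US_of_conj_mem_B
      ((Subgroup.mem_normalizer_iff.1 (RGD.B_le_normalizer_Up hb') _).1 h3) (by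
        convert mul_mem (mul_mem (inv_mem hb) h2) hb using 1; group)
    have h5 : b' * (a * v) * b'⁻¹ ∈ X.UJ {i} := RGD.US_mono (fun r hr =>
      R.pos_not_inJ_singleton.2 ⟨hr.1, fun e => hi (e ▸ hr.2)⟩) h4
    have h6 := (Subgroup.mem_normalizer_iff.1
      (RGD.PJ_le_normalizer {i} (RGD.B_le_PJ _ hb')) _).2 h5
    exact h1 (RGD.eq_one_of_mem_U_simple ha (fun r hr => R.pos_not_inJ_singleton.1 hr)
      (show a ∈ X.UJ {i} by simpa using mul_mem h6 (inv_mem hv)))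
  exact mul_mem (mul_mem hb (RGD.T_le_B hn.mem_T)) hb'

section Gen

variable {D : ChevalleyDatum} [Good D] {K : Type*} [Field K]

theorem mul_dg_eq_one {g : GL D.Idx K} (hg : g ∈ D.group K) {χ : Chr D K}
    (h : ∀ i, ∃ (b : Fin D.nroots) (d : K), (rsOf D).Pos b ∧ b ≠ (rsOf D).simple i ∧
      Commute (g * dgU D K χ) ((chevSt D K).x ((rsOf D).simple i) 1 * (chevSt D K).x b d) ∧
      Commute (g * dgU D K χ) ((chevSt D K).x ((rsOf D).neg ((rsOf D).simple i)) 1 *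
        (chevSt D K).x ((rsOf D).neg b) d)) : g * dgU D K χ = 1 := by
  have hx : ∀ r, (chevSt D K).x r (chv χ r * 1) ≠ 1 := fun r e => by
    simpa using (StSys.x_eq_one_iff chevNC chevNM).1 e
  have hU : ∀ r t, (chevSt D K).x r t ∈ (chevRGD D K).U r := fun r t => (chevSt D K).x_mem_U r t
  have key : ∀ r s d, Commute (g * dgU D K χ) ((chevSt D K).x r 1 * (chevSt D K).x s d) →
      g * ((chevSt D K).x r (chv χ r * 1) * (chevSt D K).x s (chv χ s * d)) * g⁻¹ =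
        (chevSt D K).x r 1 * (chevSt D K).x s d := fun r s d e => by
    rw [← dg_conj_x, ← dg_conj_x, conj_mul]
    exact Eq.trans (by group) e.mul_inv_cancel
  have h1 : g ∈ (chevRGD D K).B := RGD.mem_B_of_simple (group_eq.le hg) fun i => by
    obtain ⟨b, d, h1, h2, h3, -⟩ := h i
    refine ⟨_, hU _ _, hx _, _, RGD.U_le_US (X := chevRGD D K) (r := b)
      ((rsOf D).pos_not_inJ_singleton.2 ⟨h1, h2⟩) (hU b _), Set.mem_of_eq_of_mem (key _ _ _ h3) ?_⟩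
    exact mul_mem (RGD.U_le_B ((rsOf D).pos_simple i) (hU _ _)) (RGD.U_le_B h1 (hU _ _))
  have h2 : g ∈ (chevRGD D K).opp.B := RGD.mem_B_of_simple (RGD.opp_grp.ge (group_eq.le hg))
    fun i => by
      obtain ⟨b, d, h1, h2, -, h3⟩ := h i
      refine ⟨_, hU _ _, hx _, _, RGD.U_le_US (X := (chevRGD D K).opp) (r := b)
        ((rsOf D).pos_not_inJ_singleton.2 ⟨h1, h2⟩) (hU _ _),
        Set.mem_of_eq_of_mem (key _ _ _ h3) ?_⟩
      exact mul_mem (RGD.U_le_B (X := (chevRGD D K).opp) ((rsOf D).pos_simple i) (hU _ _))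
        (RGD.U_le_B (X := (chevRGD D K).opp) h1 (hU _ _))
  obtain ⟨ψ, rfl⟩ := exists_dg_of_mem_H (RGD.B_inf_Um_sup_T.le ⟨h1, RGD.opp_B.le h2⟩)
  rw [← map_mul] at h ⊢
  rw [← map_one (dgU D K)]
  refine congrArg _ (chr_ext fun i => Units.ext ?_)
  obtain ⟨b, d, h1, h2, h3, -⟩ := h i
  have := commute_dg_pr (L := [(rsOf D).simple i, b]) (f := f3 ((rsOf D).simple i) b 1 d d)
    (by simp [h2.symm]) (by simp [h1, (rsOf D).pos_simple i])
    (by rw [pr_two, f3_a, f3_b h2]; exact h3) List.mem_cons_self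
  rw [f3_a, mul_one] at this
  exact this

variable {Φ' I' k' : Type*} [DecidableEq I'] [Fintype I'] [Finite Φ'] [CommRing k']
  [LinearOrder k'] [IsStrictOrderedRing k'] {R' : RS Φ' I' k'} {F : Fold (rsOf D) R'}
  {A : TwSt F (chevNC (D := D) (F := K)) chevNM}
  {hn : ∀ i', ∃ v ∈ (StSys.rgd chevNC chevNM).US (F.π ⁻¹' {R'.neg (R'.simple i')}),
    v ≠ 1 ∧ A.σ v = v} {G1 : Subgroup (GL D.Idx K)} (hG : G1 = (A.twist hn).Fix)
include hG

theorem dg_conj_mem [Finite K] {χ : Chr D K} (hχ : χ ∈ TI A) {g : GL D.Idx K} (hg : g ∈ G1) :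
    dgU D K χ * g * (dgU D K χ)⁻¹ ∈ G1 := by
  obtain ⟨θ, -, h⟩ := exists_res hG ((iso_fldAut 1).mul (iso_diagAut χ)) (σ_fld_diag hG 1 hχ)
  have := (θ ⟨g, hg⟩).2
  rwa [h _ ⟨g, G1_le hG hg⟩ rfl, map_one, one_mul] at this

theorem card_TI_le [Finite K] (h : ∀ χ ∈ TI A, dgU D K χ ∈ G1) :
    Nat.card (TI A) ≤ Nat.card (A.twist hn).rgd.T :=
  Nat.card_le_card_of_injective (fun χ => ⟨_, (mem_twT hG (t := ⟨_, h _ χ.2⟩)).2 ⟨_, rfl⟩⟩)
    fun _ _ e => Subtype.ext (dgU_injective (congrArg Subtype.val e))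

end Gen

variable {K : Type*} [Field K] (S : ED K)

theorem exists_F4_in_ED {K₀ : Type*} [Field K₀] [Finite K₀] (ι : K₀ →+* K)
    (hι : ∀ t, S.θ (ι t) = ι t) : ∃ e : chevF4.group K₀ →* GL chevE6.Idx K,
      Function.Injective e ∧ (∀ x, e x ∈ S.G) ∧ ∀ i, ∃ (b : Fin chevE6.nroots) (d : K),
        (rsOf chevE6).Pos b ∧ b ≠ (rsOf chevE6).simple i ∧
        E6.x ((rsOf chevE6).simple i) 1 * E6.x b d ∈ e.range ∧
        E6.x ((rsOf chevE6).neg ((rsOf chevE6).simple i)) 1 * E6.x ((rsOf chevE6).neg b) d ∈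
          e.range := by
  obtain ⟨α, hα⟩ := grE6_aut K₀
  obtain ⟨e, h1, h2, -⟩ := exists_fix_E6 (isGr_E6 hα)
  let e' := ((chevE6.group K).subtype.comp (fieldHom chevE6 ι)).comp e
  have k1 : ∀ (r : Fin chevF4.nroots) (a : Fin chevE6.nroots) t, fmE6 r = [(a.1, 1)] →
      e' ((grpSt chevF4 K₀).x r t) = E6.x a (ι t) := fun r a t h => by
    simp only [e', MonoidHom.comp_apply, h2 r t, stF4E6, foldSt, h, List.map_cons, List.map_nil,
      List.prod_cons, List.prod_nil, xN_fin, mul_one, Int.cast_one, one_mul, fieldHom_x]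
    rfl
  have k2 : ∀ (r : Fin chevF4.nroots) (a b : Fin chevE6.nroots) t, fmE6 r = [(a.1, 1), (b.1, 1)] →
      e' ((grpSt chevF4 K₀).x r t) = E6.x a (ι t) * E6.x b (ι t) := fun r a b t h => by
    simp only [e', MonoidHom.comp_apply, h2 r t, stF4E6, foldSt, h, List.map_cons, List.map_nil,
      List.prod_cons, List.prod_nil, xN_fin, mul_one, Int.cast_one, one_mul, map_mul, fieldHom_x]
    rfl
  have k3 : ∀ r a b t, S.up a b (ι t) ∈ S.X.U r → E6.x a (ι t) * E6.x b (ι t) ∈ S.G :=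
    fun r a b t h => by
      have := ED_U_le S r h
      rwa [ED.up, hι] at this
  have k4 : ∀ x y, e' x = y → y ∈ S.G → x ∈ S.G.comap e' := fun x y h h' => (h ▸ h' : e' x ∈ S.G)
  have hi : ∀ i : Fin chevF4.rank, i = 0 ∨ i = 1 ∨ i = 2 ∨ i = 3 := by decide
  have m1 : ∀ (r : Fin chevF4.nroots) (a b : Fin chevE6.nroots), fmE6 r = [(a.1, 1)] →
      E6.x a 1 * E6.x b 0 ∈ e'.range := fun r a b h =>
    ⟨_, (k1 r a 1 h).trans (by simp [E6.x])⟩
  have m2 : ∀ (r : Fin chevF4.nroots) (a b : Fin chevE6.nroots), fmE6 r = [(a.1, 1), (b.1, 1)] →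
      E6.x a 1 * E6.x b 1 ∈ e'.range := fun r a b h => ⟨_, (k2 r a b 1 h).trans (by simp)⟩
  refine ⟨e', (Subtype.val_injective.comp (fieldHom_injective ι)).comp h1,
    StSys.induction_simple grpNC grpNM grpSt_top (L := S.G.comap e') (fun i t => ?_) fun i t => ?_,
    fun i => ?_⟩
  · rcases hi i with rfl | rfl | rfl | rfl
    · exact k4 _ _ (k2 33 56 36 t rfl) (k3 _ _ _ _ (S.mem_U33.2 ⟨_, rfl⟩))
    · exact k4 _ _ (k2 27 42 37 t rfl) (k3 _ _ _ _ (S.mem_U27.2 ⟨_, rfl⟩))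
    · exact k4 _ _ (k1 25 39 t rfl) (ED_U_le S _ (S.mem_U25.2 ⟨_, hι t, rfl⟩))
    · exact k4 _ _ (k1 24 46 t rfl) (ED_U_le S _ (S.mem_U24.2 ⟨_, hι t, rfl⟩))
  · rcases hi i with rfl | rfl | rfl | rfl
    · exact k4 _ _ (k2 14 15 35 t rfl) (k3 _ _ _ _ (S.mem14 _))
    · exact k4 _ _ (k2 20 29 34 t rfl) (k3 _ _ _ _ (S.mem20 _))
    · exact k4 _ _ (k1 22 32 t rfl) (ED_U_le S _ (S.mem22 (hι t)))
    · exact k4 _ _ (k1 23 25 t rfl) (ED_U_le S _ (S.mem23 (hι t)))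
  · rcases E6.rank_cases i with rfl | rfl | rfl | rfl | rfl | rfl
    · exact ⟨36, 1, by decide +kernel, by decide, m2 33 56 36 rfl, m2 14 15 35 rfl⟩
    · exact ⟨36, 0, by decide +kernel, by decide, m1 24 46 36 rfl, m1 23 25 35 rfl⟩
    · exact ⟨37, 1, by decide +kernel, by decide, m2 27 42 37 rfl, m2 20 29 34 rfl⟩
    · exact ⟨36, 0, by decide +kernel, by decide, m1 25 39 36 rfl, m1 22 32 35 rfl⟩
    · exact ⟨42, 1, by decide +kernel, by decide,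
        Set.mem_of_eq_of_mem (E6.o2.pp 1 1).eq.symm (m2 27 42 37 rfl),
        Set.mem_of_eq_of_mem (E6.o2'.pp 1 1).eq.symm (m2 20 29 34 rfl)⟩
    · exact ⟨56, 1, by decide +kernel, by decide,
        Set.mem_of_eq_of_mem (E6.o1.pp 1 1).eq.symm (m2 33 56 36 rfl),
        Set.mem_of_eq_of_mem (E6.o1'.pp 1 1).eq.symm (m2 14 15 35 rfl)⟩

theorem exists_sq_eq_conj {H G : Type*} [Group H] [Finite H] [Group G] (h : Nat.card (Out H) = 2)
    {e : H →* G} (he : Function.Injective e) {y : G} (hy : ∀ x, y * e x * y⁻¹ ∈ e.range) :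
    ∃ z, ∀ x, Commute ((e z)⁻¹ * (y * y)) (e x) := by
  choose a ha using hy
  let a' : H →* H := MonoidHom.mk' a fun u v => he (by simp [ha])
  let α : MulAut H := MulEquiv.ofBijective a' (Finite.injective_iff_bijective.1 fun u v e' =>
    he ((MulAut.conj y).injective ((ha u).symm.trans ((congrArg e e').trans (ha v)))))
  have := pow_card_eq_one' (x := QuotientGroup.mk' (Inn H) α)
  rw [h, ← map_pow, QuotientGroup.mk'_apply, QuotientGroup.eq_one_iff] at this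
  obtain ⟨z, hz⟩ := this
  refine ⟨z, fun x => ?_⟩
  have h1 : e (z * x * z⁻¹) = e (a (a x)) := congrArg e (DFunLike.congr_fun hz x)
  rw [ha, ha, map_mul, map_mul, map_inv] at h1
  calc _ = (e z)⁻¹ * (y * (y * e x * y⁻¹) * y⁻¹) * (y * y) := by group
    _ = _ := by rw [← h1]; group

theorem sq_sq_of_cube {A : Type*} [Group A] {a : A} (h : a ^ 3 = 1) : (a * a) ^ 2 = a := by
  rw [← pow_two a, ← pow_mul, show 2 * 2 = 3 + 1 from rfl, pow_succ, h, one_mul]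

theorem zpow_of_cube {A : Type*} [Group A] {a : A} (h : a ^ 3 = 1) {i j : Fin 3} (hij : i ≠ j) :
    ((a ^ j.1)⁻¹ * a ^ i.1) ^ (-(j.1 : ℤ) + i.1) = a := by
  have h7 : ∀ i j : Fin 3, i ≠ j → (-(j.1 : ℤ) + i.1) ^ 2 % 3 = 1 := by decide
  rw [← zpow_natCast a, ← zpow_natCast a, ← zpow_neg, ← zpow_add, ← zpow_mul, ← sq,
    zpow_eq_zpow_emod' _ h, Nat.cast_ofNat, h7 i j hij, zpow_one]

theorem three_F4 [Fintype K] (hK : Fintype.card K = 4) :
    ∃ H : Fin 3 → Subgroup (twistedE6 K 2), (∀ i, Nonempty (H i ≃* chevF4.group (ZMod 2))) ∧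
      ∀ i j, i ≠ j → ∀ g : twistedE6 K 2, (H i).map (MulAut.conj g).toMonoidHom ≠ H j := by
  obtain ⟨S, h1, h2, h3⟩ := exists_ED (K := K) (q := 2) Nat.prime_two.isPrimePow hK
  have : CharP K 2 := charP_of_card_pow (n := 2) hK
  have hG : S.G = (S.A.twist S.nontriv).Fix := rfl
  obtain ⟨e, e1, e2, e3⟩ := exists_F4_in_ED S (ZMod.castHom (dvd_refl 2) K) fun t =>
    DFunLike.congr_fun (Subsingleton.elim (S.θ.comp (ZMod.castHom (dvd_refl 2) K)) _) t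
  obtain ⟨χ, hχ, hχ'⟩ : ∃ χ ∈ TI S.A, dgU chevE6 K χ ∉ S.G := by
    by_contra hc
    push Not at hc
    have h4 := card_TI_le hG hc
    rw [card_TI E6.τ_τ E6.τ_τ, ← card_tw_T S.A E6.τ_τ E6.τ_τ S.nontriv S.lang,
      ED_card_ker S le_rfl h3 h1] at h4
    have := Nat.card_pos (α := (S.A.twist S.nontriv).rgd.T)
    simp at h4
  have h5 : ∀ ψ : Chr chevE6 K, ψ ^ 3 = 1 := fun ψ => MonoidHom.ext fun v => by
    have := pow_card_eq_one' (x := ψ v)
    rwa [Nat.card_units, h3] at this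
  have key : ∀ ψ ∈ TI S.A, ∀ g ∈ S.G, (∀ x, g * dgU chevE6 K ψ * e x * (g * dgU chevE6 K ψ)⁻¹ ∈
      e.range) → dgU chevE6 K ψ ∈ S.G := fun ψ hψ g hg h => by
    obtain ⟨z, hz⟩ := exists_sq_eq_conj (S2122.result 2 1 (by simp)) e1 h
    have h6 := mul_mem (mul_mem (inv_mem (e2 z)) hg) (dg_conj_mem hG hψ hg)
    have h7 := mul_dg_eq_one (G1_le hG h6) (χ := ψ * ψ) fun i => by
      obtain ⟨b, d, a1, a2, ⟨x, a3⟩, y, a4⟩ := e3 i
      rw [show (e z)⁻¹ * g * (dgU chevE6 K ψ * g * (dgU chevE6 K ψ)⁻¹) * dgU chevE6 K (ψ * ψ) =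
        (e z)⁻¹ * (g * dgU chevE6 K ψ * (g * dgU chevE6 K ψ)) by rw [map_mul]; group]
      exact ⟨b, d, a1, a2, a3 ▸ hz x, a4 ▸ hz y⟩
    have h8 := pow_mem (eq_inv_of_mul_eq_one_right h7 ▸ inv_mem h6) 2
    rwa [← map_pow, sq_sq_of_cube (h5 ψ)] at h8
  rw [h2]
  let f : Fin 3 → (chevF4.group (ZMod 2) →* S.G) := fun i =>
    ((MulAut.conj (dgU chevE6 K (χ ^ i.1))).toMonoidHom.comp e).codRestrict _ fun x =>
      dg_conj_mem hG (pow_mem hχ _) (e2 x)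
  refine ⟨fun i => (f i).range, fun i => ⟨(MonoidHom.ofInjective fun a b h =>
    e1 ((MulAut.conj _).injective (congrArg Subtype.val h))).symm⟩, fun i j hij g h => ?_⟩
  have h6 := key ((χ ^ j.1)⁻¹ * χ ^ i.1) (mul_mem (inv_mem (pow_mem hχ _)) (pow_mem hχ _)) _
    (dg_conj_mem hG (inv_mem (pow_mem hχ j.1)) g.2) fun x => by
      obtain ⟨y, hy⟩ := h.le ⟨_, ⟨x, rfl⟩, rfl⟩
      refine ⟨y, (MulAut.conj (dgU chevE6 K (χ ^ j.1))).injective ((congrArg Subtype.val hy).trans ?_)⟩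
      change g.1 * (dgU chevE6 K (χ ^ i.1) * e x * (dgU chevE6 K (χ ^ i.1))⁻¹) * g.1⁻¹ = _
      rw [MulAut.conj_apply, map_mul (dgU chevE6 K), map_inv (dgU chevE6 K)]
      generalize dgU chevE6 K (χ ^ i.1) = a, dgU chevE6 K (χ ^ j.1) = b
      group
  have h8 := zpow_mem h6 (-(j.1 : ℤ) + i.1)
  rw [← map_zpow, zpow_of_cube (h5 χ) hij] at h8
  exact hχ' h8

end Cfsg.Agent.H12
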