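import Mathlib
import Cfsg.Agent.H11.UBridge
import Cfsg.Agent.H11.Classify
import Cfsg.Agent.H11.Exc3

/-!
# Unit vectors of the standard Hermitian form and block subgroups of `SU`
-/

set_option autoImplicit false

namespace Cfsg.Agent.H12.Ph

open Matrix H11

variable {F : Type*} [Field F] {σ : F →+* F} {q n : ℕ}

/-- The standard Hermitian form. -/
def hB (σ : F →+* F) (u v : Fin n → F) : F := hermB (Fin n) σ u v

section

variable (u v w : Fin n → F) (c : F)

@[simp] theorem hB_add_left : hB σ (u + v) w = hB σ u w + hB σ v w := by simp [hB]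
@[simp] theorem hB_add_right : hB σ u (v + w) = hB σ u v + hB σ u w := by simp [hB]
@[simp] theorem hB_sub_left : hB σ (u - v) w = hB σ u w - hB σ v w := by simp [hB]
@[simp] theorem hB_sub_right : hB σ u (v - w) = hB σ u v - hB σ u w := by simp [hB]
@[simp] theorem hB_smul_left : hB σ (c • u) v = σ c * hB σ u v := by simp [hB]
@[simp] theorem hB_smul_right : hB σ u (c • v) = c * hB σ u v := by simp [hB]
@[simp] theorem hB_zero_left : hB σ 0 v = 0 := by simp [hB]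
@[simp] theorem hB_zero_right : hB σ v 0 = 0 := by simp [hB]

end

/-- The action of `SU` on vectors. -/
def ac (g : SU n F q) : (Fin n → F) →ₗ[F] (Fin n → F) := g.1.1.mulVecLin

theorem ac_apply (g : SU n F q) (v : Fin n → F) : ac g v = g.1.1 *ᵥ v := rfl

theorem ac_mul (g h : SU n F q) (v : Fin n → F) : ac (g * h) v = ac g (ac h v) := by
  simp [ac_apply]

theorem ac_one (v : Fin n → F) : ac (1 : SU n F q) v = v := by simp [ac_apply]

theorem ac_inv_ac (g : SU n F q) (v : Fin n → F) : ac g⁻¹ (ac g v) = v := by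
  rw [← ac_mul, inv_mul_cancel, ac_one]

theorem ac_ac_inv (g : SU n F q) (v : Fin n → F) : ac g (ac g⁻¹ v) = v := by
  rw [← ac_mul, mul_inv_cancel, ac_one]

theorem hB_ac (hq : QConj σ q) (g : SU n F q) (u v : Fin n → F) :
    hB σ (ac g u) (ac g v) = hB σ u v := by
  have := g.2 v u
  rwa [hq.hermForm_eq, hq.hermForm_eq] at this

theorem hB_conj (hq : QConj σ q) (u v : Fin n → F) : σ (hB σ u v) = hB σ v u := by
  simp [hB, hermB_apply, hq.invol, mul_comm]

/-- The standard basis. -/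
abbrev ee (i : Fin n) : Fin n → F := Pi.single i 1

theorem hB_ee (i : Fin n) (v : Fin n → F) : hB σ (ee i) v = v i := hermB_single i v

theorem hB_ee' (hq : QConj σ q) (i : Fin n) (v : Fin n → F) : hB σ v (ee i) = σ (v i) := by
  rw [← hB_conj hq, hB_ee]

theorem su_ext {g h : SU n F q} (e : ∀ i, ac g (ee i) = ac h (ee i)) : g = h :=
  Subtype.ext (Subtype.ext (Matrix.ext fun i j => by
    simpa [ac_apply] using congrFun (e j) i))

/-- The pointwise stabiliser of the basis vectors outside `s`. -/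
def Blk (F : Type*) [Field F] (q : ℕ) (s : Set (Fin n)) : Subgroup (SU n F q) where
  carrier := {g | ∀ k ∉ s, ac g (ee k) = ee k}
  one_mem' := fun _ _ => ac_one _
  mul_mem' ha hb k hk := by rw [ac_mul, hb k hk, ha k hk]
  inv_mem' {g} hg k hk := by
    have := ac_inv_ac g (ee k : Fin n → F)
    rwa [hg k hk] at this

theorem mem_Blk {s : Set (Fin n)} {g : SU n F q} :
    g ∈ Blk F q s ↔ ∀ k ∉ s, ac g (ee k) = ee k := Iff.rfl

theorem Blk_mono {s t : Set (Fin n)} (h : s ⊆ t) : Blk F q s ≤ Blk F q t :=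
  fun _ hg k hk => hg k fun h' => hk (h h')

theorem mem_Blk_diff {s : Set (Fin n)} {g : SU n F q} {a : Fin n} (hg : g ∈ Blk F q s)
    (ha : ac g (ee a) = ee a) : g ∈ Blk F q (s \ {a}) := fun k hk => by
  by_cases h : k = a
  · rw [h, ha]
  · exact hg k fun h' => hk ⟨h', h⟩

theorem Blk_apply (hq : QConj σ q) {s : Set (Fin n)} {g : SU n F q} (hg : g ∈ Blk F q s)
    {k : Fin n} (hk : k ∉ s) (v : Fin n → F) : ac g v k = v k := by
  rw [← hB_ee (σ := σ) k (ac g v), ← hg k hk, hB_ac hq, hB_ee]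

/-- Unit vectors supported on `s`. -/
def Un (σ : F →+* F) (s : Set (Fin n)) (v : Fin n → F) : Prop :=
  hB σ v v = 1 ∧ ∀ k ∉ s, v k = 0

theorem Un.mono {s t : Set (Fin n)} {v : Fin n → F} (h : Un σ s v) (e : s ⊆ t) : Un σ t v :=
  ⟨h.1, fun k hk => h.2 k fun h' => hk (e h')⟩

theorem Un.ac (hq : QConj σ q) {s : Set (Fin n)} {v : Fin n → F} (h : Un σ s v) {g : SU n F q}
    (hg : g ∈ Blk F q s) : Un σ s (ac g v) :=
  ⟨by rw [hB_ac hq, h.1], fun k hk => by rw [Blk_apply hq hg hk, h.2 k hk]⟩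

theorem un_ee {s : Set (Fin n)} {a : Fin n} (ha : a ∈ s) : Un σ s (ee a) :=
  ⟨by simp [hB_ee], fun k hk => Pi.single_eq_of_ne (fun e : k = a => hk (e ▸ ha)) _⟩

theorem Un.diff {s : Set (Fin n)} {v : Fin n → F} (h : Un σ s v) {a : Fin n} (ha : v a = 0) :
    Un σ (s \ {a}) v :=
  ⟨h.1, fun k hk => by
    by_cases e : k = a
    · rw [e, ha]
    · exact h.2 k fun h' => hk ⟨h', e⟩⟩

theorem exists_unit_smul (hq : QConj σ q) {v : Fin n → F} (h : hB σ v v ≠ 0) :
    ∃ β : F, β ≠ 0 ∧ σ β * β = hB σ v v ∧ hB σ (β⁻¹ • v) (β⁻¹ • v) = 1 := by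
  have := hq.finite
  obtain ⟨β, hβ⟩ := exists_norm_eq hq.ne_id hq.invol (hB_conj hq v v)
  have h0 : β ≠ 0 := by rintro rfl; simp [h.symm] at hβ
  refine ⟨β, h0, hβ, ?_⟩
  have h1 : σ β ≠ 0 := by simpa using h0
  simp only [hB_smul_left, hB_smul_right, map_inv₀, ← hβ]
  field_simp

theorem conj_mul_of_pres {M : Matrix (Fin n) (Fin n) F}
    (h : ∀ x y, hB σ (M *ᵥ x) (M *ᵥ y) = hB σ x y) : (M.map σ)ᵀ * M = 1 := by
  ext i j
  have := h (ee i) (ee j)
  rw [hB_ee] at this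
  simp only [hB, mulVec_single_one, hermB_apply] at this
  simpa [Matrix.mul_apply, Matrix.one_apply, Pi.single_apply, eq_comm] using this

theorem norm_det {M : Matrix (Fin n) (Fin n) F} (h : (M.map σ)ᵀ * M = 1) :
    σ M.det * M.det = 1 := by
  have := congrArg det h
  rwa [det_mul, det_transpose, det_one, ← RingHom.mapMatrix_apply, ← RingHom.map_det] at this

theorem conj_mul_self (hq : QConj σ q) (g : SU n F q) : (g.1.1.map σ)ᵀ * g.1.1 = 1 :=
  conj_mul_of_pres (hB_ac hq g)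

theorem conj_mul_diagonal {t : Fin n → F} (ht : ∀ k, σ (t k) * t k = 1) :
    ((diagonal t).map σ)ᵀ * diagonal t = 1 := by
  rw [diagonal_map (map_zero σ), diagonal_transpose, diagonal_mul_diagonal]
  simp [ht]

theorem exists_su (hq : QConj σ q) {M : Matrix (Fin n) (Fin n) F} (h : (M.map σ)ᵀ * M = 1)
    (hd : M.det = 1) : ∃ g : SU n F q, g.1.1 = M :=
  ⟨⟨⟨M, hd⟩, mem_su_of_conj_transpose_mul hq h⟩, rfl⟩

theorem exists_dg (hq : QConj σ q) {M : Matrix (Fin n) (Fin n) F} (h : (M.map σ)ᵀ * M = 1)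
    {i j : Fin n} (hij : i ≠ j) {μ : F} (hμ : σ μ * μ = 1) :
    ∃ g : SU n F q, ac g (ee i) = μ • M *ᵥ ee i ∧ (∃ c : F, ac g (ee j) = c • M *ᵥ ee j) ∧
      ∀ k, k ≠ i → k ≠ j → ac g (ee k) = M *ᵥ ee k := by
  have hd := norm_det h
  have h0 : μ ≠ 0 := right_ne_zero_of_mul_eq_one hμ
  have h1 : M.det ≠ 0 := right_ne_zero_of_mul_eq_one hd
  set t : Fin n → F := Pi.mulSingle i μ * Pi.mulSingle j (μ * M.det)⁻¹ with ht
  have hn : ∀ k, σ (t k) * t k = 1 := fun k => by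
    by_cases a : k = i
    · subst a; simpa [ht, Pi.mulSingle_eq_of_ne hij] using hμ
    by_cases b : k = j
    · subst b
      simp only [ht, Pi.mul_apply, Pi.mulSingle_eq_of_ne a, Pi.mulSingle_eq_same, one_mul,
        map_inv₀, ← mul_inv, map_mul]
      rw [inv_eq_one]
      linear_combination (σ M.det * M.det) * hμ + hd
    simp [ht, Pi.mulSingle_eq_of_ne a, Pi.mulSingle_eq_of_ne b]
  obtain ⟨g, hg⟩ := exists_su hq (M := M * diagonal t) (by
    rw [Matrix.map_mul, transpose_mul, Matrix.mul_assoc, ← Matrix.mul_assoc _ M, h,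
      Matrix.one_mul, conj_mul_diagonal hn]) (by
    simp only [det_mul, det_diagonal, ht, Pi.mul_apply, Finset.prod_mul_distrib,
      Finset.prod_pi_mulSingle', Finset.mem_univ, if_true]
    field_simp)
  have e : ∀ k, ac g (ee k) = t k • M *ᵥ ee k := fun k => by
    rw [ac_apply, hg, ← mulVec_mulVec, diagonal_mulVec_single, ← mulVec_smul, mul_one,
      ← Pi.single_smul, smul_eq_mul, mul_one]
  refine ⟨g, ?_, ⟨_, e j⟩, fun k a b => ?_⟩
  · rw [e]; simp [ht, Pi.mulSingle_eq_of_ne hij]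
  · rw [e]; simp [ht, Pi.mulSingle_eq_of_ne a, Pi.mulSingle_eq_of_ne b]

theorem exists_diag (hq : QConj σ q) {i j : Fin n} (hij : i ≠ j) {μ : F} (hμ : σ μ * μ = 1) :
    ∃ g ∈ Blk F q {i, j}, ac g (ee i) = μ • ee i := by
  obtain ⟨g, h1, -, h3⟩ := exists_dg hq (M := 1) (by simp) hij hμ
  refine ⟨g, fun k hk => ?_, by rwa [one_mulVec] at h1⟩
  simp only [Set.mem_insert_iff, Set.mem_singleton_iff, not_or] at hk
  rw [h3 k hk.1 hk.2, one_mulVec]

/-- A block group is transitive on the unit vectors of its support. -/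
theorem Un.trans (hq : QConj σ q) {s : Set (Fin n)} {v : Fin n → F} (h : Un σ s v) {i j : Fin n}
    (hi : i ∈ s) (hj : j ∈ s) (hij : i ≠ j) : ∃ g ∈ Blk F q s, Ph.ac g (ee i) = v := by
  obtain ⟨μ, hμ, hc⟩ : ∃ μ : F, σ μ * μ = 1 ∧ 1 - μ * σ (v i) ≠ 0 := by
    by_cases e : 1 - σ (v i) = 0
    · obtain ⟨t, h1, h2⟩ := exists_norm_one_ne_one hq.ne_id hq.invol
      refine ⟨t, h2, fun e' => h1 ?_⟩
      linear_combination (-1 : F) * e' + t * e
    · exact ⟨1, by simp, by simpa using e⟩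
  set c := 1 - μ * σ (v i) with hc'
  set d := μ • ee i - v with hd
  have e1 : hB σ d (μ • ee i) = c := by
    simp only [hd, hB_ee' hq, hc', hB_sub_left, hB_smul_left, hB_smul_right, Pi.single_eq_same,
      map_one, Pi.sub_apply, Pi.smul_apply, smul_eq_mul, map_sub, map_mul]
    linear_combination hμ
  have e2 : hB σ d d = c + σ c := by
    have := h.1
    simp only [hd, map_sub, hB_sub_left, hB_sub_right, hB_smul_left, hB_smul_right,
      hB_ee, hB_ee' hq, smul_eq_mul, Pi.single_eq_same, hc', map_mul, map_one, hq.invol,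
      Pi.sub_apply, Pi.smul_apply] at this ⊢
    linear_combination hμ + this
  have hc0 : σ c ≠ 0 := by simpa using hc
  set M : Matrix (Fin n) (Fin n) F := 1 - c⁻¹ • vecMulVec d (σ ∘ d) with hM
  have hMx : ∀ x, M *ᵥ x = x - (c⁻¹ * hB σ d x) • d := fun x => by
    rw [hM, sub_mulVec, one_mulVec, smul_mulVec, vecMulVec_mulVec, op_smul_eq_smul, smul_smul]
    rfl
  obtain ⟨g, h1, -, h3⟩ := exists_dg hq (M := M) (conj_mul_of_pres fun x y => by
    simp only [hMx, hB_sub_left, hB_sub_right, hB_smul_left, hB_smul_right, map_mul, map_inv₀,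
      hB_conj hq, e2]
    field_simp
    ring) hij hμ
  refine ⟨g, fun k hk => ?_, ?_⟩
  · have a : k ≠ i := fun e => hk (e ▸ hi)
    rw [h3 k a fun e => hk (e ▸ hj), hMx, hB_ee' hq]
    simp [hd, h.2 k hk, Pi.single_eq_of_ne a]
  · rw [h1, ← mulVec_smul, hMx, e1, inv_mul_cancel₀ hc, one_smul, hd, sub_sub_cancel]

/-- Two unit vectors span a non-degenerate plane. -/
def Adj (σ : F →+* F) (u v : Fin n → F) : Prop := hB σ u v * hB σ v u ≠ 1

theorem Adj.symm {u v : Fin n → F} (h : Adj σ u v) : Adj σ v u := by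
  unfold Adj at *; rwa [mul_comm]

theorem adj_ac (hq : QConj σ q) (g : SU n F q) {u v : Fin n → F} :
    Adj σ (ac g u) (ac g v) ↔ Adj σ u v := by
  simp only [Adj, hB_ac hq]

theorem adj_of_perp {u v : Fin n → F} (h : hB σ u v = 0) : Adj σ u v := by simp [Adj, h]

theorem perp_symm (hq : QConj σ q) {u v : Fin n → F} (h : hB σ u v = 0) : hB σ v u = 0 := by
  rw [← hB_conj hq, h, map_zero]

/-- Gram–Schmidt for an adjacent pair. -/
theorem Un.exists_orth (hq : QConj σ q) {s : Set (Fin n)} {x y : Fin n → F} (hx : Un σ s x)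
    (hy : Un σ s y) (h : Adj σ x y) :
    ∃ f, Un σ s f ∧ hB σ x f = 0 ∧ ∃ α β : F, β ≠ 0 ∧ σ α * α + σ β * β = 1 ∧
      y = α • x + β • f := by
  set r := y - hB σ x y • x with hr
  have e : hB σ r r = 1 - hB σ x y * hB σ y x := by
    simp only [hr, hB_sub_left, hB_sub_right, hB_smul_left, hB_smul_right, hB_conj hq, hx.1, hy.1]
    ring
  obtain ⟨β, h0, h1, h2⟩ := exists_unit_smul hq (v := r) (by rw [e]; exact sub_ne_zero.2 (Ne.symm h))
  refine ⟨β⁻¹ • r, ⟨h2, fun k hk => by simp [hr, hx.2 k hk, hy.2 k hk]⟩, ?_, hB σ x y, β, h0, ?_, ?_⟩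
  · simp [hr, hx.1]
  · rw [h1, e, hB_conj hq]; ring
  · rw [smul_smul, mul_inv_cancel₀ h0, one_smul, hr, add_sub_cancel]

theorem exists_hl (hq : QConj σ q) {s : Set (Fin n)} {a b c : Fin n} (ha : a ∈ s) (hb : b ∈ s)
    (hc : c ∈ s) (ab : a ≠ b) (ac' : a ≠ c) (bc : b ≠ c) {w : Fin n → F} (hw : Un σ s w)
    (h : Adj σ (ee a) w) :
    ∃ g ∈ Blk F q (s \ {a}), ∃ l ∈ Blk F q {a, b}, ac (g * l) (ee a) = w := by
  obtain ⟨f, hf, e, α, β, -, h1, rfl⟩ := (un_ee ha).exists_orth hq hw h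
  obtain ⟨g, hg, e1⟩ := (hf.diff (by rwa [hB_ee] at e)).trans hq (i := b) (j := c)
    ⟨hb, ab.symm⟩ ⟨hc, ac'.symm⟩ bc
  obtain ⟨l, hl, e2⟩ := Un.trans hq (s := {a, b}) (v := α • ee a + β • ee b) ⟨by
      simpa [hB_ee, Pi.single_eq_of_ne ab, Pi.single_eq_of_ne ab.symm, mul_comm] using h1,
    fun k hk => by
      simp only [Set.mem_insert_iff, Set.mem_singleton_iff, not_or] at hk
      simp [Pi.single_eq_of_ne hk.1, Pi.single_eq_of_ne hk.2]⟩ (i := a) (j := b) (by simp) (by simp) ab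
  refine ⟨g, hg, l, hl, ?_⟩
  rw [ac_mul, e2, map_add, map_smul, map_smul, e1, hg a (by simp)]

theorem frame2 (hq : QConj σ q) {s : Set (Fin n)} {a b c : Fin n} (ha : a ∈ s) (hb : b ∈ s)
    (hc : c ∈ s) (ab : a ≠ b) (ac' : a ≠ c) (bc : b ≠ c) {x y : Fin n → F} (hx : Un σ s x)
    (hy : Un σ s y) (h : hB σ x y = 0) :
    ∃ g ∈ Blk F q s, ac g (ee a) = x ∧ ac g (ee b) = y := by
  obtain ⟨g, hg, rfl⟩ := hx.trans hq ha hb ab
  obtain ⟨g', hg', e⟩ := ((hy.ac hq (inv_mem hg)).diff (a := a) (by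
    rw [← hB_ee (σ := σ) a (ac g⁻¹ y), ← hB_ac hq g, ac_ac_inv, h])).trans hq (i := b) (j := c)
    ⟨hb, ab.symm⟩ ⟨hc, ac'.symm⟩ bc
  refine ⟨g * g', mul_mem hg (Blk_mono Set.sdiff_subset hg'), ?_, ?_⟩
  · rw [ac_mul, hg' a (by simp)]
  · rw [ac_mul, e, ac_ac_inv]

open Polynomial in
theorem exists_common (hq : QConj σ q) {ι : Type*} [Fintype ι]
    (hc : (Fintype.card ι + 1) * (q + 1) < q ^ 2) {s : Set (Fin n)} {f g : Fin n → F}
    (hf : Un σ s f) (hg : Un σ s g) (h : hB σ f g = 0) (v : ι → Fin n → F) :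
    ∃ c, Un σ s c ∧ (∃ α β : F, c = α • f + β • g) ∧ ∀ i, Adj σ c (v i) := by
  have := hq.finite
  have := Fintype.ofFinite F
  classical
  obtain ⟨τ, hτ⟩ := exists_norm_eq hq.ne_id hq.invol (a := -1) (by simp)
  obtain ⟨μ, μ1, hμ⟩ := exists_norm_one_ne_one hq.ne_id hq.invol
  have τ0 : τ ≠ 0 := by rintro rfl; simp at hτ
  let N : F[X] := 1 + X ^ q * X
  let P : F → F → F[X] := fun α β => (C (σ α) + C (σ β) * X ^ q) * (C α + C β * X) - N
  have eN : ∀ t, N.eval t = 1 + σ t * t := fun t => by simp [N, hq.eq]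
  have eP : ∀ α β t, (P α β).eval t = σ (α + β * t) * (α + β * t) - (1 + σ t * t) :=
    fun α β t => by simp [P, eN, hq.eq t]
  have dN : N.natDegree ≤ q + 1 := by unfold N; compute_degree
  have dP : ∀ α β, (P α β).natDegree ≤ q + 1 := fun α β => by unfold P N; compute_degree
  have N0 : N ≠ 0 := fun e => by simpa [e] using eN 0
  have P0 : ∀ α β, P α β ≠ 0 := fun α β e => by
    have e0 := eP α β 0
    have e1 := eP α β τ
    have e2 := eP α β (μ * τ)
    rw [e, eval_zero] at e0 e1 e2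
    rw [hτ, add_neg_cancel, sub_zero] at e1
    rw [map_mul, show σ μ * σ τ * (μ * τ) = -1 by linear_combination (σ τ * τ) * hμ + hτ,
      add_neg_cancel, sub_zero] at e2
    have a1 : α + β * τ = 0 := by
      rcases mul_eq_zero.1 e1.symm with e | e
      · exact (map_eq_zero σ).1 e
      · exact e
    have a2 : α + β * (μ * τ) = 0 := by
      rcases mul_eq_zero.1 e2.symm with e | e
      · exact (map_eq_zero σ).1 e
      · exact e
    have a3 : β * (τ * (μ - 1)) = 0 := by linear_combination a2 - a1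
    have a4 : β = 0 := by simpa [τ0, sub_eq_zero, μ1] using a3
    simp [a4] at a1
    simp [a1, a4] at e0
  obtain ⟨t, ht⟩ := exists_eval_ne_zero_of_natDegree_lt_card
    (N * ∏ i, P (hB σ (v i) f) (hB σ (v i) g))
    (mul_ne_zero N0 (Finset.prod_ne_zero_iff.2 fun i _ => P0 _ _)) (by
      refine lt_of_le_of_lt (Nat.cast_le.2 (natDegree_mul_le.trans (add_le_add dN
        ((natDegree_prod_le _ _).trans (Finset.sum_le_card_nsmul _ _ _ fun i _ => dP _ _))))) ?_
      rw [Cardinal.mk_fintype, Nat.cast_lt, ← Nat.card_eq_fintype_card, hq.card]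
      simp only [Finset.card_univ, smul_eq_mul]
      linarith)
  rw [eval_mul, eval_prod, mul_ne_zero_iff, Finset.prod_ne_zero_iff, eN] at ht
  have e : hB σ (f + t • g) (f + t • g) = 1 + σ t * t := by
    simp [hf.1, hg.1, perp_symm hq h, h, mul_comm]
  obtain ⟨β, h0, h1, h2⟩ := exists_unit_smul hq (v := f + t • g) (by rw [e]; exact ht.1)
  refine ⟨_, ⟨h2, fun k hk => by simp [hf.2 k hk, hg.2 k hk]⟩, ⟨β⁻¹, β⁻¹ * t, by
    rw [smul_add, smul_smul]⟩, fun i e' => ht.2 i (Finset.mem_univ _) ?_⟩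
  have β0 : σ β ≠ 0 := by simpa using h0
  rw [← hB_conj hq (v i)] at e'
  simp only [hB_smul_right, hB_add_right, map_add, map_mul, map_inv₀] at e'
  rw [eP, ← e, ← h1, map_add, map_mul]
  field_simp at e'
  linear_combination e'

/-- Generation of a block group by a maximal block and a block of size two. -/
theorem exists_hlhl (hq : QConj σ q) (h3 : 3 ≤ q) {s : Set (Fin n)} {a b c : Fin n} (ha : a ∈ s)
    (hb : b ∈ s) (hc : c ∈ s) (ab : a ≠ b) (ac' : a ≠ c) (bc : b ≠ c) (w : Fin n → F) :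
    ∃ g, g ∈ Blk F q s ∧ Adj σ (ee a) (ac g (ee a)) ∧ Adj σ (ee a) (ac g⁻¹ w) ∧
      ∃ h ∈ Blk F q (s \ {a}), ∃ l ∈ Blk F q {a, b}, g = h * l := by
  obtain ⟨u, hu, ⟨α, β, e⟩, h⟩ := exists_common hq (ι := Unit) (by simp; nlinarith) (un_ee hb)
    (un_ee hc) (by simp [hB_ee, Pi.single_eq_of_ne bc]) fun _ => w
  have a1 : Adj σ (ee a) u := adj_of_perp (by
    simp [hB_ee, e, Pi.single_eq_of_ne ab, Pi.single_eq_of_ne ac'])
  obtain ⟨g, hg, l, hl, e1⟩ := exists_hl hq ha hb hc ab ac' bc hu a1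
  refine ⟨g * l, mul_mem (Blk_mono Set.sdiff_subset hg) (Blk_mono ?_ hl), e1 ▸ a1, ?_, g, hg, l, hl,
    rfl⟩
  · rintro k (rfl | rfl) <;> assumption
  · rw [← adj_ac hq (g * l), ac_ac_inv, e1]
    exact h ()

theorem Blk_sup (hq : QConj σ q) (h3 : 3 ≤ q) {s : Set (Fin n)} {a b c : Fin n} (ha : a ∈ s)
    (hb : b ∈ s) (hc : c ∈ s) (ab : a ≠ b) (ac' : a ≠ c) (bc : b ≠ c) :
    Blk F q s ≤ Blk F q (s \ {a}) ⊔ Blk F q {a, b} := fun g hg => by
  obtain ⟨g1, m1, -, a1, h, hh, l, hl, rfl⟩ :=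
    exists_hlhl hq h3 ha hb hc ab ac' bc (ac g (ee a))
  obtain ⟨h', hh', l', hl', e⟩ := exists_hl hq ha hb hc ab ac' bc
    (((un_ee ha).ac hq hg).ac hq (inv_mem m1)) a1
  have m2 : h' * l' ∈ Blk F q s := mul_mem (Blk_mono Set.sdiff_subset hh') (Blk_mono (by
    rintro k (rfl | rfl) <;> assumption) hl')
  have m3 := mem_Blk_diff (a := a) (mul_mem (inv_mem m2) (mul_mem (inv_mem m1) hg)) (by
    rw [ac_mul, ac_mul, ← e, ac_inv_ac])
  have : g = h * l * (h' * l') * ((h' * l')⁻¹ * ((h * l)⁻¹ * g)) := by group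
  rw [this]
  exact mul_mem (mul_mem (Subgroup.mul_mem_sup hh hl) (Subgroup.mul_mem_sup hh' hl'))
    (Subgroup.mem_sup_left m3)

end Cfsg.Agent.H12.Ph
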