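import Mathlib
import Cfsg.Agent.H12.Ph1

/-!
# Simple connectivity of the graph of unit vectors, in group form
-/

set_option autoImplicit false

namespace Cfsg.Agent.H12.Ph

open Matrix H11

variable {F : Type*} [Field F] {σ : F →+* F} {q n : ℕ}

/-- Four distinct elements of `J`. -/
structure Four (J : Set (Fin n)) (a b c z : Fin n) : Prop where
  ha : a ∈ J
  hb : b ∈ J
  hc : c ∈ J
  hz : z ∈ J
  ab : a ≠ b
  ac : a ≠ c
  az : a ≠ z
  bc : b ≠ c
  bz : b ≠ z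
  cz : c ≠ z

section Geo

variable {J : Set (Fin n)} {a b c z : Fin n}

theorem Four.perp2 (h : Four J a b c z) (hq : QConj σ q) {x y : Fin n → F} (hx : Un σ J x)
    (hy : Un σ J y) (e : hB σ x y = 0) : ∃ f g, Un σ J f ∧ Un σ J g ∧ hB σ f g = 0 ∧
      hB σ x f = 0 ∧ hB σ y f = 0 ∧ hB σ x g = 0 ∧ hB σ y g = 0 := by
  obtain ⟨g, hg, rfl, rfl⟩ := frame2 hq h.ha h.hb h.hc h.ab h.ac h.bc hx hy e
  refine ⟨_, _, (un_ee h.hc).ac hq hg, (un_ee h.hz).ac hq hg, ?_⟩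
  simp [hB_ac hq, hB_ee, Pi.single_eq_of_ne, h.cz, h.ac, h.az, h.bc, h.bz]

theorem Four.perp3 (h : Four J a b c z) (hq : QConj σ q) {x y w : Fin n → F} (hx : Un σ J x)
    (hy : Un σ J y) (hw : ∀ k ∉ J, w k = 0) (e : hB σ x y = 0)
    (hn : hB σ w w - hB σ w x * hB σ x w - hB σ w y * hB σ y w ≠ 0) :
    ∃ p, Un σ J p ∧ hB σ x p = 0 ∧ hB σ y p = 0 ∧ hB σ w p = 0 := by
  obtain ⟨g, hg, rfl, rfl⟩ := frame2 hq h.ha h.hb h.hc h.ab h.ac h.bc hx hy e
  obtain ⟨w, rfl⟩ : ∃ w', w = Ph.ac g w' := ⟨_, (ac_ac_inv g w).symm⟩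
  replace hw : ∀ k ∉ J, w k = 0 := fun k hk => by rw [← Blk_apply hq hg hk w, hw k hk]
  simp only [hB_ac hq, hB_ee, hB_ee' hq] at hn
  set r := w - w a • ee a - w b • ee b with hr
  have e1 : hB σ r r = hB σ w w - σ (w a) * w a - σ (w b) * w b := by
    simp [hr, hB_ee, hB_ee' hq, Pi.single_eq_of_ne h.ab, Pi.single_eq_of_ne h.ab.symm]
  obtain ⟨β, h0, -, h2⟩ := exists_unit_smul hq (v := r) (by rwa [e1])
  have hu : Un σ J (β⁻¹ • r) := ⟨h2, fun k hk => by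
    simp [hr, hw k hk, Pi.single_eq_of_ne (fun e : k = a => hk (e ▸ h.ha)),
      Pi.single_eq_of_ne (fun e : k = b => hk (e ▸ h.hb))]⟩
  obtain ⟨g', hg', e2⟩ := ((hu.diff (a := a) (by simp [hr, Pi.single_eq_of_ne h.ab])).diff (a := b)
    (by simp [hr, Pi.single_eq_of_ne h.ab.symm])).trans hq (i := c) (j := z)
    ⟨⟨h.hc, h.ac.symm⟩, h.bc.symm⟩ ⟨⟨h.hz, h.az.symm⟩, h.bz.symm⟩ h.cz
  have pa : Ph.ac g' (ee z) a = 0 := by
    rw [Blk_apply hq hg' (by simp), ee, Pi.single_eq_of_ne h.az]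
  have pb : Ph.ac g' (ee z) b = 0 := by
    rw [Blk_apply hq hg' (by simp), ee, Pi.single_eq_of_ne h.bz]
  refine ⟨Ph.ac g (Ph.ac g' (ee z)), ((un_ee h.hz).ac hq (Blk_mono (Set.sdiff_subset.trans
    Set.sdiff_subset) hg')).ac hq hg, by rw [hB_ac hq, hB_ee, pa], by rw [hB_ac hq, hB_ee, pb], ?_⟩
  have e3 : w = w a • ee a + w b • ee b + β • Ph.ac g' (ee c) := by
    rw [e2, smul_smul, mul_inv_cancel₀ h0, one_smul, hr]; abel
  rw [hB_ac hq, e3]
  simp [hB_ee, pa, pb, hB_ac hq, Pi.single_eq_of_ne h.cz]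

theorem exists_fixed_ne (hq : QConj σ q) (h4 : 4 ≤ q) (a b c : F) :
    ∃ T, σ T = T ∧ T ≠ a ∧ T ≠ b ∧ T ≠ c := by
  classical
  by_contra h
  push Not at h
  have : Nat.card {x : F // σ x = x} ≤ Nat.card ({a, b, c} : Finset F) :=
    Nat.card_le_card_of_injective (fun x => ⟨x.1, by
      have := h x.1 x.2
      simp only [Finset.mem_insert, Finset.mem_singleton]
      tauto⟩) fun x y e => Subtype.ext (by simpa using e)
  rw [hq.card_fixed, Nat.card_eq_finsetCard] at this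
  have := Finset.card_le_three (a := a) (b := b) (c := c)
  omega

theorem exists_cone (hq : QConj σ q) {x f r : Fin n → F} (hx : Un σ J x) (hf : Un σ J f)
    (e : hB σ x f = 0) (hr : ∀ k ∉ J, r k = 0) (r0 : r ≠ 0) (rr : hB σ r r = 0)
    (xr : hB σ x r = 0) (fr : hB σ f r = 0) {T : F} (hT : σ T = T) (T0 : T ≠ 0) :
    ∃ w, Un σ J w ∧ hB σ x w = 0 ∧ hB σ f w = 0 ∧ hB σ w r * hB σ r w = T⁻¹ := by
  obtain ⟨k, hk⟩ := Function.ne_iff.1 r0
  have kJ : k ∈ J := by_contra fun h => hk (hr k h)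
  replace hk : σ (r k) ≠ 0 := by simpa using hk
  set s := (σ (r k))⁻¹ • (ee k - hB σ x (ee k) • x - hB σ f (ee k) • f) with hs
  have a1 := hx.1
  have a2 := hf.1
  have e' := perp_symm hq e
  have rx := perp_symm hq xr
  have rf := perp_symm hq fr
  have xs : hB σ x s = 0 := by simp [hs, a1, e]
  have fs : hB σ f s = 0 := by simp [hs, a2, e']
  have rs : hB σ r s = 1 := by simp [hs, rx, rf, hB_ee' hq, hk]
  have sr : hB σ s r = 1 := by rw [← hB_conj hq r s, rs, map_one]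
  obtain ⟨t, ht⟩ := exists_trace_eq hq.ne_id hq.invol (a := T - hB σ s s)
    (by rw [map_sub, hT, hB_conj hq])
  have e1 : hB σ (s + t • r) (s + t • r) = T := by
    simp [rs, sr, rr]
    linear_combination ht
  obtain ⟨β, h0, h1, h2⟩ := exists_unit_smul hq (v := s + t • r) (by rwa [e1])
  refine ⟨_, ⟨h2, fun l hl => ?_⟩, by simp [xs, xr], by simp [fs, fr], ?_⟩
  · simp [hs, hr l hl, hx.2 l hl, hf.2 l hl, Pi.single_eq_of_ne (fun e : l = k => hl (e ▸ kJ))]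
  · rw [← e1, ← h1]
    simp [rs, sr, rr, mul_comm]

end Geo

variable {E : Type*} [Group E]

/-- The data of the induction step. -/
structure Step (σ : F →+* F) (q : ℕ) (π : E →* SU n F q) (J : Set (Fin n)) (a b c z : Fin n)
    (A A' : Subgroup E) : Prop extends Four J a b c z where
  hq : QConj σ q
  q4 : 4 ≤ q
  mA : A.map π = Blk F q (J \ {a})
  mA' : A'.map π = Blk F q (J \ {z})
  iA : ∀ x ∈ A, π x = 1 → x = 1
  cA : ∀ x ∈ A', π x ∈ Blk F q (J \ {a}) → x ∈ A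
  com : ∀ l ∈ A', π l ∈ Blk F q {a, b} → ∀ y ∈ A, π y ∈ Blk F q ((J \ {a}) \ {b}) → Commute l y

/-- The base point moved by an element of `E`. -/
def pt (π : E →* SU n F q) (a : Fin n) (g : E) : Fin n → F := ac (π g) (ee a)

/-- The edges from the base point. -/
def Edge (σ : F →+* F) (π : E →* SU n F q) (a b : Fin n) (A A' : Subgroup E) (g : E) : Prop :=
  Adj σ (ee a) (pt π a g) ∧ ∃ x ∈ A, ∃ l ∈ A', π l ∈ Blk F q {a, b} ∧ ∃ y ∈ A, g = x * l * y

variable {π : E →* SU n F q} {J : Set (Fin n)} {a b c z : Fin n} {A A' : Subgroup E}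

theorem pt_mul (g g' : E) : pt π a (g * g') = ac (π g) (pt π a g') := by
  simp only [pt, map_mul, ac_mul]

theorem pt_inv_mul (g g' : E) : pt π a (g⁻¹ * g') = ac (π g)⁻¹ (pt π a g') := by
  rw [pt_mul, map_inv]

namespace Step

theorem memA (h : Step σ q π J a b c z A A') {x : E} (hx : x ∈ A) : π x ∈ Blk F q (J \ {a}) :=
  h.mA ▸ Subgroup.mem_map_of_mem _ hx

theorem memA' (h : Step σ q π J a b c z A A') {x : E} (hx : x ∈ A') : π x ∈ Blk F q (J \ {z}) :=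
  h.mA' ▸ Subgroup.mem_map_of_mem _ hx

theorem ptA (h : Step σ q π J a b c z A A') {x : E} (hx : x ∈ A) (g : E) :
    pt π a (g * x) = pt π a g := by
  rw [pt_mul, pt, h.memA hx a (by simp), pt]

theorem mul_right (h : Step σ q π J a b c z A A') {g x : E} (hg : Edge σ π a b A A' g)
    (hx : x ∈ A) : Edge σ π a b A A' (g * x) := by
  obtain ⟨h1, u, hu, l, hl, hl', y, hy, rfl⟩ := hg
  exact ⟨by rwa [h.ptA hx], u, hu, l, hl, hl', y * x, mul_mem hy hx, mul_assoc _ _ _⟩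

theorem inv (h : Step σ q π J a b c z A A') {g : E} (hg : Edge σ π a b A A' g) :
    Edge σ π a b A A' g⁻¹ := by
  obtain ⟨h1, u, hu, l, hl, hl', y, hy, e⟩ := hg
  refine ⟨?_, y⁻¹, inv_mem hy, l⁻¹, inv_mem hl, by rw [map_inv]; exact inv_mem hl', u⁻¹, inv_mem hu,
    by rw [e]; group⟩
  rw [← adj_ac h.hq (π g), pt, map_inv, ac_ac_inv]
  exact h1.symm

theorem mul_left (h : Step σ q π J a b c z A A') {g x : E} (hg : Edge σ π a b A A' g)
    (hx : x ∈ A) : Edge σ π a b A A' (x * g) := by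
  simpa using h.inv (h.mul_right (h.inv hg) (inv_mem hx))

theorem sub_ab (h : Step σ q π J a b c z A A') : ({a, b} : Set (Fin n)) ⊆ J \ {z} := by
  rintro k (rfl | rfl)
  exacts [⟨h.ha, h.az⟩, ⟨h.hb, h.bz⟩]

theorem mem (h : Step σ q π J a b c z A A') {g : E} (hg : Edge σ π a b A A' g) :
    π g ∈ Blk F q J := by
  obtain ⟨-, u, hu, l, hl, -, y, hy, rfl⟩ := hg
  rw [map_mul, map_mul]
  exact mul_mem (mul_mem (Blk_mono Set.sdiff_subset (h.memA hu))
    (Blk_mono Set.sdiff_subset (h.memA' hl))) (Blk_mono Set.sdiff_subset (h.memA hy))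

theorem ex (h : Step σ q π J a b c z A A') {w : Fin n → F} (hw : Un σ J w) (e : Adj σ (ee a) w) :
    ∃ g, Edge σ π a b A A' g ∧ pt π a g = w := by
  obtain ⟨x, hx, l, hl, e1⟩ := exists_hl h.hq h.ha h.hb h.hc h.ab h.ac h.bc hw e
  have hl' := Blk_mono h.sub_ab hl
  rw [← h.mA] at hx
  rw [← h.mA'] at hl'
  obtain ⟨x, hx, rfl⟩ := hx
  obtain ⟨l, hl', rfl⟩ := hl'
  have e2 : pt π a (x * l) = w := by rw [pt, map_mul, e1]
  exact ⟨x * l, ⟨e2 ▸ e, x, hx, l, hl', hl, 1, one_mem _, (mul_one _).symm⟩, e2⟩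

theorem ex' (h : Step σ q π J a b c z A A') {w : Fin n → F} (hw : Un σ (J \ {z}) w)
    (e : Adj σ (ee a) w) : ∃ g ∈ A', Edge σ π a b A A' g ∧ pt π a g = w := by
  obtain ⟨x, hx, l, hl, e1⟩ := exists_hl h.hq (s := J \ {z}) ⟨h.ha, h.az⟩ ⟨h.hb, h.bz⟩
    ⟨h.hc, h.cz⟩ h.ab h.ac h.bc hw e
  have hl' := Blk_mono h.sub_ab hl
  have hx' := Blk_mono Set.sdiff_subset hx
  rw [← h.mA'] at hl' hx'
  obtain ⟨x, hx', rfl⟩ := hx'
  obtain ⟨l, hl', rfl⟩ := hl'
  have e2 : pt π a (x * l) = w := by rw [pt, map_mul, e1]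
  exact ⟨x * l, mul_mem hx' hl', ⟨e2 ▸ e, x, h.cA x hx' (Blk_mono (Set.sdiff_subset_sdiff_left
    Set.sdiff_subset) hx), l, hl', hl, 1, one_mem _, (mul_one _).symm⟩, e2⟩

theorem cA' (h : Step σ q π J a b c z A A') {x : E} (hx : x ∈ A') (e : pt π a x = ee a) : x ∈ A :=
  h.cA x hx (mem_Blk_diff (Blk_mono Set.sdiff_subset (h.memA' hx)) e)

theorem uniq (h : Step σ q π J a b c z A A') {g g' : E} (hg : Edge σ π a b A A' g)
    (hg' : Edge σ π a b A A' g') (e : pt π a g = pt π a g') : g⁻¹ * g' ∈ A := by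
  have hq := h.hq
  obtain ⟨-, x, hx, l, hl, hl', y, hy, rfl⟩ := hg
  obtain ⟨h1, x', hx', m, hm, hm', y', hy', rfl⟩ := hg'
  rw [h.ptA hy'] at h1
  rw [h.ptA hy, h.ptA hy'] at e
  obtain ⟨k, hk⟩ : ∃ k, k = x⁻¹ * x' := ⟨_, rfl⟩
  have kA : k ∈ A := hk ▸ mul_mem (inv_mem hx) hx'
  have e1 : ac (π k) (pt π a m) = pt π a l := by
    rw [← pt_mul, hk, mul_assoc, pt_inv_mul, ← e, pt_mul, ac_inv_ac]
  have sp : ∀ l, π l ∈ Blk F q {a, b} → pt π a l = pt π a l a • ee a + pt π a l b • ee b :=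
    fun l hl => funext fun i => by
      by_cases ia : i = a
      · simp [ia, Pi.single_eq_of_ne h.ab]
      by_cases ib : i = b
      · simp [ib, Pi.single_eq_of_ne h.ab.symm]
      rw [pt, Blk_apply hq hl (by simp [ia, ib])]
      simp [Pi.single_eq_of_ne ia, Pi.single_eq_of_ne ib]
  have b0 : pt π a m b ≠ 0 := fun e0 => h1 (by
    have u := ((un_ee (σ := σ) (s := {a, b}) (a := a) (by simp)).ac hq hm').1
    change hB σ (pt π a m) (pt π a m) = 1 at u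
    rw [sp m hm', e0] at u
    rw [hB_ee, hB_ee' hq, pt_mul, Blk_apply hq (h.memA hx') (by simp)]
    simpa [hB_ee, mul_comm] using u)
  have e2 : pt π a l a = pt π a m a := by rw [← e1, Blk_apply hq (h.memA kA) (by simp)]
  have e3 : ac (π k) (ee b) = ((pt π a m b)⁻¹ * pt π a l b) • ee b := by
    rw [sp m hm', sp l hl', map_add, map_smul, map_smul, h.memA kA a (by simp), e2,
      add_right_inj] at e1
    rw [mul_smul, ← e1, smul_smul, inv_mul_cancel₀ b0, one_smul]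
  generalize (pt π a m b)⁻¹ * pt π a l b = μ at e3
  have hμ : σ μ * μ = 1 := by
    have := hB_ac hq (π k) (ee b) (ee b)
    simpa [e3, hB_ee, mul_comm] using this
  obtain ⟨d, hd, e4⟩ := exists_diag hq h.bc hμ
  have hd' : d ∈ Blk F q (J \ {z}) := Blk_mono (by
    rintro k (rfl | rfl)
    exacts [⟨h.hb, h.bz⟩, ⟨h.hc, h.cz⟩]) hd
  rw [← h.mA'] at hd'
  obtain ⟨d, dA', rfl⟩ := hd'
  have dA := h.cA' dA' (hd a (by simp [h.ab, h.ac]))
  have zA : d⁻¹ * k ∈ A := mul_mem (inv_mem dA) kA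
  have c := h.com m hm hm' _ zA (mem_Blk_diff (h.memA zA) (by
    rw [map_mul, map_inv, ac_mul, e3, ← e4, ac_inv_ac]))
  have e5 : l⁻¹ * k * m = l⁻¹ * d * m * (d⁻¹ * k) := by
    rw [mul_assoc _ m, c.eq]; group
  have e6 : l⁻¹ * d * m ∈ A := h.cA' (mul_mem (mul_mem (inv_mem hl) dA') hm) (by
    rw [← h.ptA zA, ← e5, mul_assoc, pt_inv_mul, pt_mul, e1, pt, ac_inv_ac])
  have e7 : (x * l * y)⁻¹ * (x' * m * y') = y⁻¹ * (l⁻¹ * k * m) * y' := by rw [hk]; group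
  rw [e7, e5]
  exact mul_mem (mul_mem (inv_mem hy) (mul_mem e6 zA)) hy'

theorem tri (h : Step σ q π J a b c z A A') {s t : E} (hs : Edge σ π a b A A' s)
    (ht : Edge σ π a b A A' t) (e : Adj σ (ee a) (pt π a (s * t))) {p : Fin n → F} (hp : Un σ J p)
    (p1 : hB σ (ee a) p = 0) (p2 : hB σ (pt π a s) p = 0) (p3 : hB σ (pt π a (s * t)) p = 0) :
    Edge σ π a b A A' (s * t) := by
  have hq := h.hq
  obtain ⟨x, hx, e1⟩ := (hp.diff (by rwa [hB_ee] at p1)).trans hq (i := z) (j := b)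
    ⟨h.hz, h.az.symm⟩ ⟨h.hb, h.ab.symm⟩ h.bz.symm
  rw [← h.mA] at hx
  obtain ⟨x, hx, rfl⟩ := hx
  have key : ∀ g, π g ∈ Blk F q J → hB σ (pt π a g) p = 0 → Un σ (J \ {z}) (pt π a (x⁻¹ * g)) :=
    fun g hg e => (((un_ee h.ha).ac hq (g := π (x⁻¹ * g)) (by
      rw [map_mul, map_inv]
      exact mul_mem (inv_mem (Blk_mono Set.sdiff_subset (h.memA hx))) hg)).diff (by
        change pt π a (x⁻¹ * g) z = 0
        rw [← hB_ee (σ := σ) z (pt π a (x⁻¹ * g)), ← hB_ac hq (π x), pt_inv_mul, ac_ac_inv, e1,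
          perp_symm hq e]))
  have hs' := h.mul_left hs (inv_mem hx)
  obtain ⟨t1, m1, a1, b1⟩ := h.ex' (key s (h.mem hs) p2) hs'.1
  have k1 := h.uniq a1 hs' b1
  have ht' := h.mul_left ht k1
  have u3 := key (s * t) (by rw [map_mul]; exact mul_mem (h.mem hs) (h.mem ht)) p3
  obtain ⟨t2, m2, a2, b2⟩ := h.ex' (w := pt π a (t1⁻¹ * (x⁻¹ * s) * t)) (by
    rw [mul_assoc, mul_assoc, pt_inv_mul]
    exact u3.ac hq (inv_mem (h.memA' m1))) ht'.1
  have k2 := h.uniq a2 ht' b2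
  obtain ⟨t3, m3, a3, b3⟩ := h.ex' u3 (by
    rw [pt_inv_mul, ← adj_ac hq (π x), ac_ac_inv, h.memA hx a (by simp)]; exact e)
  have k3 : t3⁻¹ * (t1 * t2) ∈ A := h.cA' (mul_mem (inv_mem m3) (mul_mem m1 m2)) (by
    rw [pt_inv_mul, pt_mul, b2, ← pt_mul, show t1 * (t1⁻¹ * (x⁻¹ * s) * t) = x⁻¹ * (s * t) by group,
      ← b3, pt, ac_inv_ac])
  have := h.mul_left (h.mul_right (h.mul_right a3 k3) k2) hx
  convert this using 1
  group

end Step

/-- Paths of length two over the given points close up. -/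
def Flat (σ : F →+* F) (π : E →* SU n F q) (J : Set (Fin n)) (a b : Fin n) (A A' : Subgroup E)
    (x y w : Fin n → F) : Prop :=
  ∀ g1 g2 g3 : E, π g1 ∈ Blk F q J → pt π a g1 = x → pt π a g2 = y → pt π a g3 = w →
    Edge σ π a b A A' (g1⁻¹ * g2) → Edge σ π a b A A' (g2⁻¹ * g3) → Edge σ π a b A A' (g1⁻¹ * g3)

namespace Step

theorem flat_of_perp (h : Step σ q π J a b c z A A') {x y w p : Fin n → F} (e : Adj σ x w)
    (hp : Un σ J p) (p1 : hB σ x p = 0) (p2 : hB σ y p = 0) (p3 : hB σ w p = 0) :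
    Flat σ π J a b A A' x y w := by
  rintro g1 g2 g3 m rfl rfl rfl h1 h2
  have hq := h.hq
  have e1 : g1⁻¹ * g3 = g1⁻¹ * g2 * (g2⁻¹ * g3) := by group
  rw [e1]
  refine h.tri h1 h2 ?_ (hp.ac hq (inv_mem m)) ?_ ?_ ?_
  · rw [← e1, pt_inv_mul, ← adj_ac hq (π g1), ac_ac_inv]; exact e
  · rw [← hB_ac hq (π g1), ac_ac_inv]; exact p1
  · rw [pt_inv_mul, hB_ac hq, p2]
  · rw [← e1, pt_inv_mul, hB_ac hq, p3]

theorem ex2 (h : Step σ q π J a b c z A A') {g : E} (m : π g ∈ Blk F q J) {u : Fin n → F}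
    (hu : Un σ J u) (e : Adj σ (pt π a g) u) :
    ∃ g0, π g0 ∈ Blk F q J ∧ pt π a g0 = u ∧ Edge σ π a b A A' (g⁻¹ * g0) := by
  obtain ⟨s, hs, e1⟩ := h.ex (hu.ac h.hq (inv_mem m)) (by
    rw [← adj_ac h.hq (π g), ac_ac_inv]; exact e)
  exact ⟨g * s, by rw [map_mul]; exact mul_mem m (h.mem hs), by rw [pt_mul, e1, ac_ac_inv],
    by rwa [inv_mul_cancel_left]⟩

theorem cone (h : Step σ q π J a b c z A A') {x y w u : Fin n → F} (hu : Un σ J u)
    (e : Adj σ x u) (f1 : Flat σ π J a b A A' u x y) (f2 : Flat σ π J a b A A' u y w)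
    (f3 : Flat σ π J a b A A' x u w) : Flat σ π J a b A A' x y w := by
  rintro g1 g2 g3 m rfl rfl rfl h1 h2
  obtain ⟨g0, m0, rfl, s⟩ := h.ex2 m hu e
  exact f3 _ _ _ m rfl rfl rfl s (f2 _ _ _ m0 rfl rfl rfl
    (f1 _ _ _ m0 rfl rfl rfl (by simpa using h.inv s) h1) h2)

theorem flat_orth (h : Step σ q π J a b c z A A') {x y w : Fin n → F} (hx : Un σ J x)
    (hy : Un σ J y) (hw : Un σ J w) (xy : Adj σ x y) (yw : Adj σ y w) (xw : hB σ x w = 0) :
    Flat σ π J a b A A' x w y ∧ Flat σ π J a b A A' x y w := by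
  have hq := h.hq
  obtain ⟨f, hf, xf, α, β, β0, e, rfl⟩ := hx.exists_orth hq hy xy
  have good : ∀ p, Un σ J p → hB σ x p = 0 → hB σ f p = 0 → hB σ w p = 0 →
      Flat σ π J a b A A' x w (α • x + β • f) ∧ Flat σ π J a b A A' x (α • x + β • f) w :=
    fun p hp p1 p2 p3 => by
      have p4 : hB σ (α • x + β • f) p = 0 := by simp [p1, p2]
      exact ⟨h.flat_of_perp xy hp p1 p3 p4, h.flat_of_perp (adj_of_perp xw) hp p1 p4 p3⟩
  by_cases hn : hB σ w w - hB σ w x * hB σ x w - hB σ w f * hB σ f w = 0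
  swap
  · obtain ⟨p, hp, p1, p2, p3⟩ := h.toFour.perp3 hq hx hf hw.2 xf hn
    exact good p hp p1 p2 p3
  rw [hw.1, xw, mul_zero, sub_zero, sub_eq_zero] at hn
  obtain ⟨r, hr⟩ : ∃ r, r = w - hB σ f w • f := ⟨_, rfl⟩
  have e1 : w = hB σ f w • f + r := by rw [hr, add_sub_cancel]
  have xx := hx.1
  have ff := hf.1
  have ww := hw.1
  have fx := perp_symm hq xf
  have wx := perp_symm hq xw
  have hn' : σ (hB σ f w) * hB σ f w = 1 := by rw [hB_conj hq, ← hn]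
  by_cases r0 : r = 0
  · obtain ⟨p, -, hp, -, -, p1, p2, -⟩ := h.toFour.perp2 hq hx hf xf
    refine good p hp p1 p2 ?_
    rw [e1, r0]
    simp [p2]
  obtain ⟨T, hT, T0, T1, T2⟩ := exists_fixed_ne hq h.q4 0 1 (σ α * α)⁻¹
  have xr : hB σ x r = 0 := by simp [hr, xw, xf]
  have fr : hB σ f r = 0 := by simp [hr, ff]
  obtain ⟨u, hu, xu, fu, e2⟩ := exists_cone hq hx hf xf (r := r)
    (fun k hk => by simp [hr, hw.2 k hk, hf.2 k hk]) r0 (by
      simp [hr, ff, ww, hB_conj hq, ← hn, mul_comm]) xr fr hT T0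
  have ux := perp_symm hq xu
  have uf := perp_symm hq fu
  have e3 : hB σ u w * hB σ w u = T⁻¹ := by
    rw [← e2, e1]
    simp [fu, uf]
  have T1' : T⁻¹ ≠ 1 := by simpa using T1
  have yu : hB σ (α • x + β • f) u = 0 := by simp [xu, fu]
  obtain ⟨p, hp, p1, p2, p3⟩ := h.toFour.perp3 hq hx hu hf.2 xu (by simp [ff, xf, fu])
  have p4 : hB σ (α • x + β • f) p = 0 := by simp [p1, p3]
  obtain ⟨p', hp', p1', p2', p3'⟩ := h.toFour.perp3 hq hx hu hw.2 xu (by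
    rw [ww, xw, mul_comm (hB σ w u), e3]; simpa [sub_eq_zero] using T1'.symm)
  obtain ⟨p'', hp'', p1'', p2'', p3''⟩ := h.toFour.perp3 hq hy hu hw.2 yu (by
    rw [ww, mul_comm (hB σ w u), e3]
    have : hB σ w (α • x + β • f) * hB σ (α • x + β • f) w = σ β * β := by
      simp [wx, xw]
      linear_combination (-σ β * β) * hn
    rw [this, show 1 - σ β * β = σ α * α by linear_combination -e, sub_ne_zero]
    intro e'
    exact T2 (by rw [e', inv_inv]))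
  have uw : Adj σ u w := by rw [Adj, e3]; exact T1'
  have uy := adj_of_perp (perp_symm hq yu)
  exact ⟨h.cone hu (adj_of_perp xu) (h.flat_of_perp uw hp' p2' p1' p3')
      (h.flat_of_perp uy hp'' p2'' p3'' p1'') (h.flat_of_perp xy hp p1 p2 p4),
    h.cone hu (adj_of_perp xu) (h.flat_of_perp uy hp p2 p1 p4)
      (h.flat_of_perp uw hp'' p2'' p1'' p3'') (h.flat_of_perp (adj_of_perp xw) hp' p1' p2' p3')⟩

theorem flat (h : Step σ q π J a b c z A A') {x y w : Fin n → F} (hx : Un σ J x)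
    (hy : Un σ J y) (hw : Un σ J w) (xy : Adj σ x y) (yw : Adj σ y w) (xw : Adj σ x w) :
    Flat σ π J a b A A' x y w := by
  have hq := h.hq
  by_cases c1 : hB σ x y = 0
  · exact (h.flat_orth hx hw hy xw yw.symm c1).1
  by_cases c2 : hB σ x w = 0
  · exact (h.flat_orth hx hy hw xy yw c2).2
  obtain ⟨f, hf, yf, α, β, β0, e, rfl⟩ := hy.exists_orth hq hw yw
  have fy := perp_symm hq yf
  have yy := hy.1
  have ff := hf.1
  by_cases hn : hB σ x x - hB σ x y * hB σ y x - hB σ x f * hB σ f x = 0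
  swap
  · obtain ⟨p, hp, p1, p2, p3⟩ := h.toFour.perp3 hq hy hf hx.2 yf hn
    exact h.flat_of_perp xw hp p3 p1 (by simp [p1, p2])
  rw [hx.1] at hn
  obtain ⟨γ, hγ⟩ : ∃ γ, γ = hB σ x y := ⟨_, rfl⟩
  obtain ⟨δ, hδ⟩ : ∃ δ, δ = hB σ x f := ⟨_, rfl⟩
  rw [← hB_conj hq x y, ← hB_conj hq x f, ← hγ, ← hδ] at hn
  have hu : Un σ J (γ • f - δ • y) := ⟨by
    simp [yy, ff, yf, fy]
    linear_combination -hn, fun k hk => by simp [hf.2 k hk, hy.2 k hk]⟩
  have xu : hB σ x (γ • f - δ • y) = 0 := by simp [← hγ, ← hδ, mul_comm]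
  have uy : Adj σ (γ • f - δ • y) y := fun e' => by
    simp [yy, yf, fy] at e'
    have : σ γ * γ = 0 := by linear_combination -hn - e'
    exact c1 (by simpa [hγ] using this)
  have uw : Adj σ (γ • f - δ • y) (α • y + β • f) := fun e' => by
    simp [yy, ff, yf, fy] at e'
    have : σ (α * γ + β * δ) * (α * γ + β * δ) = 0 := by
      simp only [map_add, map_mul]
      linear_combination (-(σ α * α + σ β * β)) * hn + e - e'
    refine c2 ?_
    rcases mul_eq_zero.1 this with e | e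
    · simpa [← hγ, ← hδ] using (map_eq_zero σ).1 e
    · simpa [← hγ, ← hδ] using e
  obtain ⟨p, -, hp, -, -, p1, p2, -⟩ := h.toFour.perp2 hq hy hf yf
  exact h.cone hu (adj_of_perp xu) (h.flat_orth hu hy hx uy xy.symm (perp_symm hq xu)).1
    (h.flat_of_perp uw hp (by simp [p1, p2]) p1 (by simp [p1, p2]))
    (h.flat_orth hx hw hu xw uw.symm xu).1

theorem three (h : Step σ q π J a b c z A A') {s t u : E} (hs : Edge σ π a b A A' s)
    (ht : Edge σ π a b A A' t) (hu : Edge σ π a b A A' u) :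
    ∃ s' t', Edge σ π a b A A' s' ∧ Edge σ π a b A A' t' ∧ s * t * u = s' * t' := by
  have hq := h.hq
  have m1 := h.mem hs
  have m2 : π (s * t) ∈ Blk F q J := by rw [map_mul]; exact mul_mem m1 (h.mem ht)
  have m3 : π (s * t * u) ∈ Blk F q J := by rw [map_mul]; exact mul_mem m2 (h.mem hu)
  have u0 := un_ee (σ := σ) h.ha
  have u1 : Un σ J (pt π a s) := u0.ac hq m1
  have u2 : Un σ J (pt π a (s * t)) := u0.ac hq m2
  have u3 : Un σ J (pt π a (s * t * u)) := u0.ac hq m3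
  obtain ⟨f, hf, xf, α, β, -, -, e⟩ := u0.exists_orth hq u1 hs.1
  obtain ⟨f1, f2, hf1, hf2, p0, p1, p2, p3, p4⟩ := h.toFour.perp2 hq u0 hf xf
  have := h.q4
  obtain ⟨w, hw, ⟨γ, δ, e'⟩, hc⟩ := exists_common hq (ι := Fin 2) (by simp; nlinarith) hf1 hf2 p0
    ![pt π a (s * t), pt π a (s * t * u)]
  have a0 : hB σ (ee a) w = 0 := by simp [e', p1, p3]
  have a1 : hB σ (pt π a s) w = 0 := by simp [e, e', p1, p2, p3, p4]
  obtain ⟨g, hg, e0⟩ := h.ex hw (adj_of_perp a0)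
  have m0 := h.mem hg
  have a12 : Adj σ (pt π a s) (pt π a (s * t)) := by
    rw [pt_mul, pt, adj_ac hq]; exact ht.1
  have a23 : Adj σ (pt π a (s * t)) (pt π a (s * t * u)) := by
    rw [pt_mul _ u, pt, adj_ac hq]; exact hu.1
  have b0 := adj_of_perp (perp_symm hq a0)
  have b1 := adj_of_perp (perp_symm hq a1)
  have s1 := h.flat hw u0 u1 b0 hs.1 b1 g 1 s m0 e0 (by simp [pt, ac_one]) rfl
    (by simpa using h.inv hg) (by simpa using hs)
  have s2 := h.flat hw u1 u2 b1 a12 (hc 0) g s (s * t) m0 e0 rfl rfl s1 (by simpa using ht)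
  have s3 := h.flat hw u2 u3 (hc 0) a23 (hc 1) g (s * t) (s * t * u) m0 e0 rfl rfl s2
    (by rwa [inv_mul_cancel_left])
  exact ⟨g, _, hg, s3, by group⟩

theorem inj (h : Step σ q π J a b c z A A') : ∀ g ∈ A ⊔ A', π g = 1 → g = 1 := by
  have hq := h.hq
  have h3 : 3 ≤ q := by have := h.q4; omega
  let K : Subgroup E :=
    { carrier := {g | ∃ s t, Edge σ π a b A A' s ∧ Edge σ π a b A A' t ∧ g = s * t}
      one_mem' := by
        obtain ⟨s, hs, -⟩ := h.ex (un_ee h.hb) (adj_of_perp (by simp [hB_ee, Pi.single_eq_of_ne h.ab]))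
        exact ⟨s, s⁻¹, hs, h.inv hs, by group⟩
      mul_mem' := by
        rintro _ _ ⟨s, t, hs, ht, rfl⟩ ⟨u, v, hu, hv, rfl⟩
        obtain ⟨s', t', hs', ht', e⟩ := h.three hs ht hu
        obtain ⟨s'', t'', hs'', ht'', e'⟩ := h.three hs' ht' hv
        exact ⟨s'', t'', hs'', ht'', by rw [← mul_assoc, e, e']⟩
      inv_mem' := by
        rintro _ ⟨s, t, hs, ht, rfl⟩
        exact ⟨_, _, h.inv ht, h.inv hs, _root_.mul_inv_rev _ _⟩ }
  have hK : A ⊔ A' ≤ K := by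
    refine sup_le (fun x hx => ?_) fun x hx => ?_
    · obtain ⟨s, t, hs, ht, e⟩ := K.one_mem
      exact ⟨s, t * x, hs, h.mul_right ht hx, by rw [← mul_assoc, ← e, one_mul]⟩
    · have u0 := un_ee (σ := σ) (s := J \ {z}) ⟨h.ha, h.az⟩
      obtain ⟨g, hg, a1, a2, -⟩ := exists_hlhl hq h3 (s := J \ {z}) ⟨h.ha, h.az⟩ ⟨h.hb, h.bz⟩
        ⟨h.hc, h.cz⟩ h.ab h.ac h.bc (pt π a x)
      obtain ⟨s, ms, hs, e⟩ := h.ex' (u0.ac hq hg) a1
      have hx' : s⁻¹ * x ∈ A' := mul_mem (inv_mem ms) hx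
      obtain ⟨t, mt, ht, e'⟩ := h.ex' (w := pt π a (s⁻¹ * x)) (u0.ac hq (h.memA' hx')) (by
        rw [pt_inv_mul, ← adj_ac hq (π s), ac_ac_inv]
        rw [← adj_ac hq g, ac_ac_inv, ← e] at a2
        exact a2)
      exact ⟨s, _, hs, h.mul_right ht (h.cA' (mul_mem (inv_mem mt) hx') (by
        rw [pt_inv_mul, ← e', pt, ac_inv_ac])), by group⟩
  intro g hg e
  obtain ⟨s, t, hs, ht, rfl⟩ := hK hg
  have e1 : π t⁻¹ = π s := by
    rw [map_mul] at e
    rw [map_inv, eq_comm, eq_inv_iff_mul_eq_one, e]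
  have := h.iA _ (h.uniq (h.inv ht) hs (by rw [pt, pt, e1])) (by
    rw [map_mul, map_inv, e1, inv_mul_cancel])
  rw [inv_inv] at this
  rw [mul_eq_one_comm, this]

end Step

end Cfsg.Agent.H12.Ph
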