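import Mathlib
import Cfsg.Agent.H12.Ph2
import Cfsg.Agent.H12.CT3
import Cfsg.Prelude.Def_PhanSystems

/-!
# `SU (n + 1)` as the universal completion of its standard Phan amalgam
-/

set_option autoImplicit false

namespace Cfsg.Agent.H12.Ph

open Matrix H11

variable {F : Type*} [Field F] {σ : F →+* F} {q n m : ℕ}

/-- An interval of coordinates. -/
def Iv (n a b : ℕ) : Set (Fin n) := {k | a ≤ k ∧ (k : ℕ) ≤ b}

section Ind

variable {E : Type*} [Group E]

/-- The subgroup generated by an interval of the `Γ i`. -/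
def Kv (Γ : ℕ → Subgroup E) (a b : ℕ) : Subgroup E := ⨆ (i : ℕ) (_ : a ≤ i ∧ i ≤ b), Γ i

theorem le_Kv (Γ : ℕ → Subgroup E) {a b i : ℕ} (h1 : a ≤ i) (h2 : i ≤ b) : Γ i ≤ Kv Γ a b :=
  le_iSup₂_of_le (f := fun i (_ : a ≤ i ∧ i ≤ b) => Γ i) i ⟨h1, h2⟩ le_rfl

theorem Kv_le {Γ : ℕ → Subgroup E} {a b : ℕ} {X : Subgroup E} (h : ∀ i, a ≤ i → i ≤ b → Γ i ≤ X) :
    Kv Γ a b ≤ X := iSup₂_le fun i hi => h i hi.1 hi.2

theorem Kv_mono (Γ : ℕ → Subgroup E) {a b c d : ℕ} (h1 : c ≤ a) (h2 : b ≤ d) :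
    Kv Γ a b ≤ Kv Γ c d := Kv_le fun _ h h' => le_Kv Γ (h1.trans h) (h'.trans h2)

theorem map_Kv (hq : QConj σ q) (h3 : 3 ≤ q) {π : E →* SU (n + 1) F q} {Γ : ℕ → Subgroup E}
    (h1 : ∀ i < n, (Γ i).map π = Blk F q (Iv _ i (i + 1))) (d a : ℕ) (h : a + d < n) :
    (Kv Γ a (a + d)).map π = Blk F q (Iv _ a (a + d + 1)) := by
  refine le_antisymm (Subgroup.map_le_iff_le_comap.2 (Kv_le fun i h2 h3 =>
    Subgroup.map_le_iff_le_comap.1 ((h1 i (by omega)).le.trans (Blk_mono fun k hk => ?_)))) ?_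
  · simp only [Iv, Set.mem_ofPred_eq] at hk ⊢
    omega
  induction d generalizing a with
  | zero => exact (h1 a h).ge.trans (Subgroup.map_mono (le_Kv Γ le_rfl le_rfl))
  | succ d ih =>
    refine (Blk_sup hq h3 (a := ⟨a, by omega⟩) (b := ⟨a + 1, by omega⟩) (c := ⟨a + 2, by omega⟩)
      (by simp [Iv]; omega) (by simp [Iv]) (by simp [Iv]) (by simp) (by simp) (by simp)).trans
      (sup_le ?_ ?_)
    · refine le_trans (Blk_mono fun k hk => ?_) ((ih (a + 1) (by omega)).trans
        (Subgroup.map_mono (Kv_mono Γ (by omega) (by omega))))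
      simp only [Iv, Set.mem_sdiff, Set.mem_ofPred_eq, Set.mem_singleton_iff, Fin.ext_iff] at hk ⊢
      omega
    · refine le_trans (Blk_mono fun k hk => ?_) ((h1 a (by omega)).ge.trans
        (Subgroup.map_mono (le_Kv Γ le_rfl (by omega))))
      simp only [Iv, Set.mem_insert_iff, Set.mem_ofPred_eq, Set.mem_singleton_iff, Fin.ext_iff] at hk ⊢
      omega

theorem mem_of_inj {A : Type*} [Group A] {π : E →* A} {K L : Subgroup E} (hL : L ≤ K)
    (h : ∀ g ∈ K, π g = 1 → g = 1) {x : E} (hx : x ∈ K) (e : π x ∈ L.map π) : x ∈ L := by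
  obtain ⟨y, hy, e⟩ := e
  have := h _ (mul_mem (inv_mem (hL hy)) hx) (by rw [map_mul, map_inv, e, inv_mul_cancel])
  rwa [← inv_mul_eq_one.1 this]

theorem inj_Kv (hq : QConj σ q) (h4 : 4 ≤ q) {π : E →* SU (n + 1) F q} {Γ : ℕ → Subgroup E}
    (h1 : ∀ i < n, (Γ i).map π = Blk F q (Iv _ i (i + 1)))
    (h2 : ∀ i, i + 1 < n → ∀ g ∈ Γ i ⊔ Γ (i + 1), π g = 1 → g = 1)
    (h3 : ∀ i j, i + 2 ≤ j → j < n → ∀ x ∈ Γ i, ∀ y ∈ Γ j, Commute x y) (d a : ℕ)
    (h : a + d + 1 < n) : ∀ g ∈ Kv Γ a (a + d + 1), π g = 1 → g = 1 := by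
  have q3 : 3 ≤ q := by omega
  induction d generalizing a with
  | zero =>
    refine fun g hg => h2 a h g (Kv_le (fun i a1 a2 => ?_) hg)
    obtain rfl | rfl : i = a ∨ i = a + 1 := by omega
    exacts [le_sup_left, le_sup_right]
  | succ d ih =>
    have i1 := ih a (by omega)
    have i2 := ih (a + 1) (by omega)
    have S : Step σ q π (Iv _ a (a + d + 3)) ⟨a, by omega⟩ ⟨a + 1, by omega⟩ ⟨a + 2, by omega⟩
        ⟨a + d + 3, by omega⟩ (Kv Γ (a + 1) (a + 1 + d + 1)) (Kv Γ a (a + d + 1)) :=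
      { ha := by simp [Iv]; omega
        hb := by simp [Iv]; omega
        hc := by simp [Iv]; omega
        hz := by simp [Iv]; omega
        ab := by simp
        ac := by simp
        az := by simp; omega
        bc := by simp
        bz := by simp; omega
        cz := by simp; omega
        hq := hq
        q4 := h4
        mA := (map_Kv hq q3 h1 (d + 1) (a + 1) (by omega)).trans (congrArg _ (Set.ext fun k => by
          simp only [Iv, Set.mem_sdiff, Set.mem_ofPred_eq, Set.mem_singleton_iff, Fin.ext_iff]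
          omega))
        mA' := (map_Kv hq q3 h1 (d + 1) a (by omega)).trans (congrArg _ (Set.ext fun k => by
          simp only [Iv, Set.mem_sdiff, Set.mem_ofPred_eq, Set.mem_singleton_iff, Fin.ext_iff]
          omega))
        iA := i2
        cA := fun x hx e => by
          refine Kv_mono Γ le_rfl (by omega) (mem_of_inj (L := Kv Γ (a + 1) (a + 1 + d))
            (Kv_mono Γ (by omega) (by omega)) i1 hx ?_)
          have e' := (map_Kv hq q3 h1 (d + 1) a (by omega)).le (Subgroup.mem_map_of_mem π hx)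
          rw [map_Kv hq q3 h1 d (a + 1) (by omega)]
          intro k hk
          by_cases c : (k : ℕ) = a
          · exact e k fun h => h.2 (Fin.ext c)
          · refine e' k fun h => hk ?_
            simp only [Iv, Set.mem_ofPred_eq] at h ⊢
            omega
        com := fun l hl el y hy ey => by
          have hl' : l ∈ Γ a := mem_of_inj (le_Kv Γ le_rfl (by omega)) i1 hl (by
            rw [h1 a (by omega)]
            refine Blk_mono (fun k hk => ?_) el
            simp only [Iv, Set.mem_insert_iff, Set.mem_ofPred_eq, Set.mem_singleton_iff,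
              Fin.ext_iff] at hk ⊢
            omega)
          have hy' : y ∈ Kv Γ (a + 2) (a + 2 + d) :=
            mem_of_inj (Kv_mono Γ (by omega) (by omega)) i2 hy (by
              rw [map_Kv hq q3 h1 d (a + 2) (by omega)]
              refine Blk_mono (fun k hk => ?_) ey
              simp only [Iv, Set.mem_sdiff, Set.mem_ofPred_eq, Set.mem_singleton_iff,
                Fin.ext_iff] at hk ⊢
              omega)
          exact (Subgroup.mem_centralizer_singleton_iff.1 (Kv_le (X := Subgroup.centralizer {l})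
            (fun i a1 a2 z hz => Subgroup.mem_centralizer_singleton_iff.2
              (h3 a i a1 (by omega) l hl' z hz).eq.symm) hy')).symm }
    refine fun g hg => S.inj g (Kv_le (fun i a1 a2 => ?_) hg)
    by_cases c : i = a
    · exact le_sup_of_le_right (le_Kv Γ (by omega) (by omega))
    · exact le_sup_of_le_left (le_Kv Γ (by omega) (by omega))

end Ind

section Emb

theorem Blk_fix {s : Set (Fin n)} {g : SU n F q} (hg : g ∈ Blk F q s) {v : Fin n → F}
    (hv : ∀ k ∈ s, v k = 0) : ac g v = v := by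
  have e : v = ∑ k, v k • ee k := by
    ext i; simp [Finset.sum_apply, Pi.single_apply]
  rw [e, map_sum]
  refine Finset.sum_congr rfl fun k _ => ?_
  by_cases hk : k ∈ s
  · simp [hv k hk]
  · rw [map_smul, hg k hk]

theorem Blk_commute (hq : QConj σ q) {s t : Set (Fin n)} (h : Disjoint s t) {g g' : SU n F q}
    (hg : g ∈ Blk F q s) (hg' : g' ∈ Blk F q t) : Commute g g' := by
  have key : ∀ {s t : Set (Fin n)}, Disjoint s t → ∀ {g g' : SU n F q}, g ∈ Blk F q s →
      g' ∈ Blk F q t → ∀ k ∉ t, ac (g * g') (ee k) = ac (g' * g) (ee k) :=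
    fun {s t} h g g' hg hg' k hk => by
      rw [ac_mul, ac_mul, hg' k hk, Blk_fix hg' fun l hl => by
        rw [Blk_apply hq hg (Set.disjoint_right.1 h hl)]
        exact Pi.single_eq_of_ne (fun e : l = k => hk (e ▸ hl)) _]
  refine su_ext fun k => ?_
  by_cases hk : k ∈ t
  · exact (key h.symm hg' hg k (Set.disjoint_right.1 h hk)).symm
  · exact key h hg hg' k hk

theorem suBlock_eq (hq : QConj σ q) (s : Set (Fin n)) : suBlock n F q s = Blk F q s := by
  rw [suBlock, ← Subgroup.closure_eq (Blk F q s)]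
  congr 1
  ext g
  refine ⟨fun h k hk => funext fun l => ?_, fun h k hk => ⟨?_, fun l hl => ⟨?_, ?_⟩⟩⟩
  · by_cases e : l = k
    · simpa [e, ac_apply] using (h k hk).1
    · simpa [e, ac_apply] using ((h k hk).2 l e).2
  · simpa [ac_apply] using congrFun (h k hk) k
  · simpa [ac_apply, hl.symm] using Blk_apply hq h hk (ee l)
  · simpa [ac_apply, hl] using congrFun (h k hk) l

/-- The matrix of a coordinate embedding. -/
def Pm (F : Type*) [Field F] (f : Fin m → Fin n) : Matrix (Fin n) (Fin m) F :=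
  of fun k i => if k = f i then 1 else 0

theorem Pm_mul {f : Fin m → Fin n} (hf : Function.Injective f) : (Pm F f)ᵀ * Pm F f = 1 := by
  ext i j
  simp [Pm, Matrix.mul_apply, Matrix.one_apply, hf.eq_iff, eq_comm]

theorem Pm_comp {l : ℕ} (f : Fin m → Fin n) (g : Fin l → Fin m) :
    Pm F (f ∘ g) = Pm F f * Pm F g := by
  ext i j
  simp [Pm, Matrix.mul_apply]

theorem Pm_map (f : Fin m → Fin n) (τ : F →+* F) : (Pm F f).map τ = Pm F f := by
  ext i j
  simp [Pm, apply_ite τ]

theorem Pm_ee (f : Fin m → Fin n) (i : Fin m) : Pm F f *ᵥ ee i = ee (f i) := by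
  ext k
  simp [Pm, Pi.single_apply]

theorem Pm_tr_ee {f : Fin m → Fin n} {k : Fin n} (hk : k ∉ Set.range f) :
    (Pm F f)ᵀ *ᵥ ee k = 0 := by
  ext i
  have : k ≠ f i := fun e => hk ⟨i, e.symm⟩
  simp [Pm, this]

/-- A matrix placed in a block. -/
def embM (f : Fin m → Fin n) (M : Matrix (Fin m) (Fin m) F) : Matrix (Fin n) (Fin n) F :=
  1 + Pm F f * (M - 1) * (Pm F f)ᵀ

theorem embM_one (f : Fin m → Fin n) : embM f (1 : Matrix _ _ F) = 1 := by simp [embM]

theorem embM_mul {f : Fin m → Fin n} (hf : Function.Injective f) (M N : Matrix (Fin m) (Fin m) F) :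
    embM f (M * N) = embM f M * embM f N := by
  have : Pm F f * (M - 1) * (Pm F f)ᵀ * (Pm F f * (N - 1) * (Pm F f)ᵀ) =
      Pm F f * ((M - 1) * (N - 1)) * (Pm F f)ᵀ := by
    simp only [Matrix.mul_assoc]
    rw [← Matrix.mul_assoc (Pm F f)ᵀ, Pm_mul hf, Matrix.one_mul]
  simp only [embM, Matrix.add_mul, Matrix.mul_add, Matrix.one_mul, Matrix.mul_one, this]
  rw [show M * N - 1 = (M - 1) + ((N - 1) + (M - 1) * (N - 1)) by noncomm_ring]
  simp only [Matrix.add_mul, Matrix.mul_add]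
  abel

theorem det_embM {f : Fin m → Fin n} (hf : Function.Injective f) (M : Matrix (Fin m) (Fin m) F) :
    (embM f M).det = M.det := by
  rw [embM, Matrix.mul_assoc, det_one_add_mul_comm, Matrix.mul_assoc, Pm_mul hf]
  simp

theorem embM_conj (f : Fin m → Fin n) (M : Matrix (Fin m) (Fin m) F) :
    ((embM f M).map σ)ᵀ = embM f (M.map σ)ᵀ := by
  simp [embM, Matrix.map_add, Matrix.map_mul, Matrix.map_sub, Pm_map, transpose_map,
    Matrix.mul_assoc]

theorem tr_embM {f : Fin m → Fin n} (hf : Function.Injective f) (M : Matrix (Fin m) (Fin m) F) :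
    (Pm F f)ᵀ * embM f M * Pm F f = M := by
  simp only [embM, Matrix.add_mul, Matrix.mul_add, Matrix.mul_one, Matrix.mul_assoc, Pm_mul hf]
  rw [← Matrix.mul_assoc, Pm_mul hf]
  simp

/-- The embedding of `SU m` as a block subgroup. -/
def emb (hq : QConj σ q) {f : Fin m → Fin n} (hf : Function.Injective f) : SU m F q →* SU n F q where
  toFun g := ⟨⟨embM f g.1.1, by rw [det_embM hf, g.1.2]⟩, mem_su_of_conj_transpose_mul hq (by
    rw [embM_conj, ← embM_mul hf, conj_mul_self hq, embM_one])⟩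
  map_one' := Subtype.ext (Subtype.ext (embM_one f))
  map_mul' _ _ := Subtype.ext (Subtype.ext (embM_mul hf _ _))

theorem emb_val (hq : QConj σ q) {f : Fin m → Fin n} (hf : Function.Injective f) (g : SU m F q) :
    (emb hq hf g).1.1 = embM f g.1.1 := rfl

theorem emb_inj (hq : QConj σ q) {f : Fin m → Fin n} (hf : Function.Injective f) :
    Function.Injective (emb hq hf) := fun g g' e => Subtype.ext (Subtype.ext (by
  rw [← tr_embM hf g.1.1, ← emb_val hq hf, e, emb_val, tr_embM hf]))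

theorem emb_emb (hq : QConj σ q) {l : ℕ} {f : Fin m → Fin n} (hf : Function.Injective f)
    {g : Fin l → Fin m} (hg : Function.Injective g) {k : Fin l → Fin n} (hk : Function.Injective k)
    (e : ∀ i, k i = f (g i)) (x : SU l F q) : emb hq hf (emb hq hg x) = emb hq hk x := by
  obtain rfl : k = f ∘ g := funext e
  refine Subtype.ext (Subtype.ext ?_)
  simp [emb_val, embM, Pm_comp, Matrix.mul_assoc]

theorem range_emb (hq : QConj σ q) {f : Fin m → Fin n} (hf : Function.Injective f) :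
    (emb hq hf).range = Blk F q (Set.range f) := by
  refine le_antisymm ?_ fun g hg => ?_
  · rintro _ ⟨g, rfl⟩ k hk
    simp only [ac_apply, emb_val, embM, add_mulVec, one_mulVec, ← mulVec_mulVec, Pm_tr_ee hk]
    simp
  have e : embM f ((Pm F f)ᵀ * g.1.1 * Pm F f) = g.1.1 := by
    have a : ∀ v : Fin n → F, (∀ k ∉ Set.range f, v k = 0) → Pm F f *ᵥ ((Pm F f)ᵀ *ᵥ v) = v :=
      fun v hv => funext fun k => by
        by_cases hk : k ∈ Set.range f
        · obtain ⟨i, rfl⟩ := hk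
          simp [Pm, mulVec, dotProduct, hf.eq_iff]
        · have : ∀ i, k ≠ f i := fun i e => hk ⟨i, e.symm⟩
          simp [Pm, mulVec, dotProduct, hv k hk, this]
    ext1 k l
    suffices embM f ((Pm F f)ᵀ * g.1.1 * Pm F f) *ᵥ ee l = ac g (ee l) by
      simpa [ac_apply] using congrFun this k
    by_cases hl : l ∈ Set.range f
    · obtain ⟨i, rfl⟩ := hl
      have b : (Pm F f)ᵀ *ᵥ ee (f i) = ee i := by rw [← Pm_ee, mulVec_mulVec, Pm_mul hf, one_mulVec]
      simp only [embM, add_mulVec, one_mulVec, ← mulVec_mulVec, b, sub_mulVec, mulVec_sub, Pm_ee]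
      rw [← ac_apply, a (ac g (ee (f i))) fun k hk => (Blk_apply hq hg hk _).trans
        (Pi.single_eq_of_ne (fun e : k = f i => hk ⟨i, e.symm⟩) _), add_sub_cancel]
    · simp only [embM, add_mulVec, one_mulVec, ← mulVec_mulVec, Pm_tr_ee hl, hg l hl]
      simp
  obtain ⟨x, hx⟩ := exists_su hq (M := (Pm F f)ᵀ * g.1.1 * Pm F f) (by
    rw [← tr_embM hf (_ * _), embM_mul hf, ← embM_conj, e, conj_mul_self hq, Matrix.mul_one,
      Pm_mul hf]) (by rw [← det_embM hf, e, g.1.2])
  exact ⟨x, Subtype.ext (Subtype.ext (by rw [emb_val, hx, e]))⟩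

/-- Shift of coordinates. -/
def sh (m i : ℕ) (h : i + m ≤ n) : Fin m → Fin n := fun j => ⟨i + j, by omega⟩

theorem sh_inj (m i : ℕ) (h : i + m ≤ n) : Function.Injective (sh m i h) := fun _ _ e =>
  Fin.ext (by simpa [sh] using e)

theorem range_sh (m i : ℕ) (h : i + (m + 1) ≤ n) : Set.range (sh (m + 1) i h) = Iv n i (i + m) := by
  ext k
  refine ⟨?_, fun hk => ⟨⟨k - i, by have := hk.2; omega⟩, Fin.ext ?_⟩⟩
  · rintro ⟨j, rfl⟩
    simp only [Iv, sh, Set.mem_ofPred_eq]
    omega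
  · have := hk.1
    simp only [sh]
    omega

/-- The upper block in `SU 3`. -/
def j1 (hq : QConj σ q) : SU 2 F q →* SU 3 F q := emb hq (sh_inj 2 0 (by omega))

/-- The lower block in `SU 3`. -/
def j2 (hq : QConj σ q) : SU 2 F q →* SU 3 F q := emb hq (sh_inj 2 1 (by omega))

theorem range_j1 (hq : QConj σ q) : (j1 hq).range = Blk F q {0, 1} :=
  (range_emb hq _).trans (congrArg _ (Set.ext fun k => by
    rw [range_sh]; fin_cases k <;> simp [Iv]))

theorem range_j2 (hq : QConj σ q) : (j2 hq).range = Blk F q {1, 2} :=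
  (range_emb hq _).trans (congrArg _ (Set.ext fun k => by
    rw [range_sh]; fin_cases k <;> simp [Iv]))

theorem range_sup (hq : QConj σ q) (h3 : 3 ≤ q) : (j1 hq).range ⊔ (j2 hq).range = ⊤ := by
  rw [range_j1, range_j2, eq_top_iff]
  refine le_trans (b := Blk F q Set.univ) (fun g _ k hk => (hk (Set.mem_univ k)).elim)
    ((Blk_sup hq h3 (s := Set.univ) (a := 0) (b := 1) (c := 2) trivial trivial trivial (by simp)
      (by simp) (by simp)).trans (sup_le (le_sup_of_le_right (Blk_mono fun k hk => ?_)) le_sup_left))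
  fin_cases k <;> simp at hk ⊢

end Emb

theorem exists_hom_SU (hq : QConj σ q) (h4 : 4 ≤ q) (hn : 2 ≤ n) {G : Type*} [Group G]
    (χ : ℕ → SU 2 F q →* G)
    (h1 : ∀ i, i + 1 < n → ∃ Ψ : SU 3 F q →* G, Ψ.comp (j1 hq) = χ i ∧ Ψ.comp (j2 hq) = χ (i + 1))
    (h2 : ∀ i j, i + 2 ≤ j → j < n → ∀ x y, Commute (χ i x) (χ j y)) :
    ∃ f : SU (n + 1) F q →* G, ∀ i < n, (χ i).range ≤ f.range := by
  have : ∀ i, ∃ Γ : Subgroup (G × SU (n + 1) F q), ∀ h : i < n,
      Γ = ((χ i).prod (emb hq (sh_inj (n := n + 1) 2 i (by omega)))).range := fun i => by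
    by_cases h : i < n
    · exact ⟨((χ i).prod (emb hq (sh_inj (n := n + 1) 2 i (by omega)))).range, fun _ => rfl⟩
    · exact ⟨⊥, fun h' => (h h').elim⟩
  choose Γ hΓ using this
  have a1 : ∀ i < n, (Γ i).map (MonoidHom.snd _ _) = Blk F q (Iv _ i (i + 1)) := fun i hi => by
    rw [hΓ i hi, MonoidHom.map_range, MonoidHom.snd_comp_prod, range_emb, range_sh]
  obtain ⟨d, rfl⟩ : ∃ d, n = d + 2 := ⟨n - 2, by omega⟩
  have a2 := inj_Kv hq h4 a1 (fun i hi => by
    obtain ⟨Ψ, e1, e2⟩ := h1 i hi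
    have : Γ i ⊔ Γ (i + 1) ≤ (Ψ.prod (emb hq (sh_inj (n := d + 2 + 1) 3 i (by omega)))).range := by
      rw [hΓ i (by omega), hΓ _ hi]
      refine sup_le ?_ ?_ <;> rintro _ ⟨x, rfl⟩
      · exact ⟨j1 hq x, Prod.ext (DFunLike.congr_fun e1 x) (emb_emb hq (sh_inj _ _ _) _ _ (fun _ => by
          simp [sh]) x)⟩
      · exact ⟨j2 hq x, Prod.ext (DFunLike.congr_fun e2 x) (emb_emb hq (sh_inj _ _ _) _ _ (fun _ => by
          simp [sh, add_assoc]) x)⟩
    intro g hg e
    obtain ⟨x, rfl⟩ := this hg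
    rw [(injective_iff_map_eq_one _).1 (emb_inj hq (sh_inj _ _ _)) x e, map_one]) (fun i j hij hj x hx y hy => by
    have c := Blk_commute hq (s := Iv _ i (i + 1)) (t := Iv _ j (j + 1))
      (Set.disjoint_left.2 fun k a b => by have := a.2; have := b.1; omega)
      ((a1 i (by omega)).le (Subgroup.mem_map_of_mem _ hx)) ((a1 j hj).le (Subgroup.mem_map_of_mem _ hy))
    rw [hΓ i (by omega)] at hx
    rw [hΓ j hj] at hy
    obtain ⟨x, rfl⟩ := hx
    obtain ⟨y, rfl⟩ := hy
    exact Prod.ext (h2 i j hij hj x y) c) d 0 (by omega)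
  obtain ⟨f, hf⟩ := RGD.exists_hom_of_graph _ ((map_Kv hq (by omega) a1 (d + 1) 0 (by omega)).trans
    (eq_top_iff.2 fun g _ k hk => (hk ⟨Nat.zero_le _, by omega⟩).elim)) a2
  refine ⟨f, fun i hi => ?_⟩
  rintro _ ⟨x, rfl⟩
  exact ⟨_, hf _ (le_Kv Γ (Nat.zero_le i) (by omega) ((hΓ i hi).ge ⟨x, rfl⟩))⟩

end Cfsg.Agent.H12.Ph
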