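import Mathlib
import Cfsg.Agent.H12.Ph3
import Cfsg.Agent.H10.AutPSL2
import Cfsg.Agent.H10.Descent

/-!
# Uniqueness of the unitary Phan amalgam
-/

set_option autoImplicit false

namespace Cfsg.Agent.H12.Ph

open Matrix H11
open scoped MatrixGroups commutatorElement

variable {F : Type*} [Field F] {σ : F →+* F} {q n m : ℕ}

theorem hom_eq_of_perfect {A B : Type*} [Group A] [Group B] (hA : commutator A = ⊤) {α β : A →* B}
    (h : ∀ g, (α g)⁻¹ * β g ∈ Subgroup.center B) : α = β := by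
  refine MonoidHom.eq_of_eqOn_dense (s := commutatorSet A) (by rw [← commutator_eq_closure, hA]) ?_
  rintro _ ⟨x, y, rfl⟩
  obtain ⟨z, hz, e⟩ : ∃ z ∈ Subgroup.center B, β x = α x * z := ⟨_, h x, by group⟩
  obtain ⟨w, hw, e'⟩ : ∃ z ∈ Subgroup.center B, β y = α y * z := ⟨_, h y, by group⟩
  rw [Subgroup.mem_center_iff] at hz hw
  rw [map_commutatorElement, map_commutatorElement, e, e']
  simp only [commutatorElement_def, _root_.mul_inv_rev]
  calc α x * α y * (α x)⁻¹ * (α y)⁻¹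
      = α x * (α y * z) * z⁻¹ * (((α x)⁻¹ * w) * w⁻¹ * (α y)⁻¹) := by group
    _ = α x * (z * α y) * z⁻¹ * ((w * (α x)⁻¹) * w⁻¹ * (α y)⁻¹) := by rw [hz (α y), hw (α x)⁻¹]
    _ = α x * z * α y * (z⁻¹ * w) * (α x)⁻¹ * w⁻¹ * (α y)⁻¹ := by group
    _ = _ := by rw [hw z⁻¹]; group

theorem aut_SL2 {K : Type*} [Field K] [Finite K] (h4 : 4 ≤ Nat.card K) (α : MulAut SL(2, K)) :
    ∃ (M : GL (Fin 2) K) (τ : RingAut K), ∀ g, (α g).1 = M.1 * g.1.map τ * (M⁻¹).1 := by
  obtain ⟨M, τ, h⟩ := H10.aut_PSL2 (H10.autBar _ α)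
  refine ⟨M, τ, fun g => ?_⟩
  have := hom_eq_of_perfect (H10.commutator_SL_fin_eq_top le_rfl fun _ => h4) (α := α.toMonoidHom)
    (β := (H10.slDiag M * H10.slField τ : MulAut SL(2, K)).toMonoidHom)
    fun g => QuotientGroup.eq.1 (by exact DFunLike.congr_fun h (QuotientGroup.mk g))
  exact congrArg Subtype.val (DFunLike.congr_fun this g)

theorem exists_ext_aut {K : Type*} [Field K] [Finite F] (j : K →+* F) (τ : RingAut K) :
    ∃ τ' : F →+* F, ∀ x, τ' (j x) = j (τ x) := by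
  have := Finite.of_injective j j.injective
  obtain ⟨p, hp⟩ := CharP.exists F
  have : Fact p.Prime := ⟨CharP.char_is_prime F p⟩
  have : CharP K p := j.charP j.injective p
  let _ := ZMod.algebra K p
  obtain ⟨i, hi⟩ := FiniteField.exists_forall_apply_eq_pow (ZMod p) p K
    (AlgEquiv.ofRingEquiv (f := τ) fun x => DFunLike.congr_fun
      (Subsingleton.elim (τ.toRingHom.comp (algebraMap (ZMod p) K)) (algebraMap (ZMod p) K)) x)
  refine ⟨iterateFrobenius F p i, fun x => ?_⟩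
  have := hi x
  rw [Nat.card_zmod] at this
  rw [iterateFrobenius_def, ← map_pow, ← this]
  rfl

theorem exists_su2 (hq : QConj σ q) : ∃ (K : Subfield F) (R : GL (Fin 2) F)
    (e : SL(2, K) ≃* SU 2 F q), Nat.card K = q ∧
      ∀ g, (e g).1.1 = R.1 * g.1.map K.subtype * (R⁻¹).1 := by
  have := hq.finite
  have := Fintype.ofFinite F
  have hF : Fintype.card F = q ^ 2 := by rw [← hq.card, Nat.card_eq_fintype_card]
  let K := σ.eqLocusField (RingHom.id F)
  have hK : Nat.card K = q := hq.card_fixed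
  have := Fintype.ofFinite K
  obtain ⟨e0⟩ := nonempty_su_two_equiv (F := K) hF (by rw [← hK, Nat.card_eq_fintype_card])
  let j := K.subtype
  have hj : ∀ x, σ (j x) = j x := fun x => x.2
  obtain ⟨τ, hτ⟩ := exists_trace_eq hq.ne_id hq.invol (a := 1) (map_one σ)
  obtain ⟨c, hc⟩ := exists_norm_eq hq.ne_id hq.invol (a := -1) (by simp)
  obtain ⟨δ, hδ0, hδ⟩ := exists_trace_zero hq.ne_id hq.invol
  have hc0 : c ≠ 0 := by rintro rfl; simp at hc
  let R : GL (Fin 2) F := GeneralLinearGroup.mkOfDetNeZero !![1, τ * δ; c, -c * σ τ * δ] (by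
    rw [det_fin_two_of, show 1 * (-c * σ τ * δ) - τ * δ * c = -(c * δ) by
      linear_combination (-c * δ) * hτ]
    simp [hc0, hδ0])
  have hR : (R.1.map σ)ᵀ * R.1 = !![0, δ; -δ, 0] := by
    ext i k
    fin_cases i <;> fin_cases k <;>
      simp [R, Matrix.mul_apply, hq.invol, eq_neg_of_add_eq_zero_right hδ] <;>
      first
      | linear_combination hc
      | linear_combination δ * hτ - σ τ * δ * hc
      | linear_combination -δ * hτ + τ * δ * hc
      | linear_combination -τ * σ τ * δ ^ 2 * hc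
  let ψ : SL(2, K) →* SL(2, F) := (H10.conjSL R).toMonoidHom.comp (SpecialLinearGroup.map j)
  have hψ : ∀ g, (ψ g).1 = R.1 * g.1.map j * (R⁻¹).1 := fun g =>
    congrArg Units.val (H10.toGL_conjSL R (SpecialLinearGroup.map j g))
  have hm : ∀ g, ψ g ∈ SU 2 F q := fun g => mem_su_of_conj_transpose_mul hq (by
    have a1 : ((g.1.map j).map σ)ᵀ * !![0, δ; -δ, 0] * g.1.map j = !![0, δ; -δ, 0] := by
      have d := congrArg j g.2
      simp only [det_fin_two, map_sub, map_mul, map_one] at d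
      ext i k
      fin_cases i <;> fin_cases k <;> simp [Matrix.mul_apply, hj, Matrix.vecMul, dotProduct] <;>
        first | ring1 | linear_combination δ * d | linear_combination -δ * d
    rw [hψ]
    simp only [Matrix.map_mul, transpose_mul, Matrix.mul_assoc]
    rw [← Matrix.mul_assoc (R.1.map σ)ᵀ, hR, ← Matrix.mul_assoc !![0, δ; -δ, 0],
      ← Matrix.mul_assoc (_ : Matrix _ _ F)ᵀ (_ * _), ← Matrix.mul_assoc _ _ (g.1.map j), a1, ← hR,
      Matrix.mul_assoc, Units.mul_inv, Matrix.mul_one, ← transpose_mul, ← Matrix.map_mul,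
      Units.mul_inv]
    simp)
  have hi : Function.Injective (ψ.codRestrict _ hm) := fun g g' e =>
    H10.slMap_injective j ((H10.conjSL R).injective (congrArg Subtype.val e))
  exact ⟨K, R, MulEquiv.ofBijective _ (hi.bijective_of_nat_card_le
    (Nat.card_congr e0.toEquiv).le), hK, hψ⟩

theorem aut_SU2 (hq : QConj σ q) (h4 : 4 ≤ q) (α : MulAut (SU 2 F q)) :
    ∃ (M : GL (Fin 2) F) (τ : F →+* F), ∀ g, (α g).1.1 * M.1 = M.1 * g.1.1.map τ := by
  have := hq.finite
  obtain ⟨K, R, e, hK, he⟩ := exists_su2 hq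
  obtain ⟨M, τ, h⟩ := aut_SL2 (hK ▸ h4) (e.trans (α.trans e.symm))
  obtain ⟨τ', hτ⟩ := exists_ext_aut K.subtype τ
  refine ⟨R * GeneralLinearGroup.map K.subtype M * (GeneralLinearGroup.map τ' R)⁻¹, τ', fun g => ?_⟩
  obtain ⟨g, rfl⟩ := e.surjective g
  have e1 : α (e g) = e ((e.trans (α.trans e.symm)) g) := by simp
  have e2 : (g.1.map τ).map K.subtype = (g.1.map K.subtype).map τ' := by
    ext i k; exact (hτ _).symm
  have e3 : (M⁻¹).1.map K.subtype * M.1.map K.subtype = 1 := by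
    rw [← Matrix.map_mul, Units.inv_mul]; simp
  have e4 : (R⁻¹).1.map τ' * R.1.map τ' = 1 := by
    rw [← Matrix.map_mul, Units.inv_mul]; simp
  rw [e1, he, he, h, ← map_inv, Units.val_mul, Units.val_mul]
  change _ * (R.1 * M.1.map K.subtype * (R⁻¹).1.map τ') =
    R.1 * M.1.map K.subtype * (R⁻¹).1.map τ' * _
  simp only [Matrix.map_mul, e2, Matrix.mul_assoc]
  rw [← Matrix.mul_assoc (R⁻¹).1 R.1, Units.inv_mul, Matrix.one_mul,
    ← Matrix.mul_assoc ((M⁻¹).1.map _), e3, Matrix.one_mul, ← Matrix.mul_assoc ((R⁻¹).1.map _), e4,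
    Matrix.one_mul]

theorem su2_entries (hq : QConj σ q) (g : SU 2 F q) :
    g.1.1 1 0 = -σ (g.1.1 0 1) ∧ g.1.1 1 1 = σ (g.1.1 0 0) ∧
      σ (g.1.1 0 0) * g.1.1 0 0 + σ (g.1.1 0 1) * g.1.1 0 1 = 1 := by
  have h := conj_mul_self hq g
  have d := g.1.2
  have e : (g.1.1.map σ)ᵀ = adjugate g.1.1 := by
    rw [← Matrix.mul_one (_ᵀ), ← show g.1.1 * adjugate g.1.1 = 1 by rw [mul_adjugate, d, one_smul],
      ← Matrix.mul_assoc, h, Matrix.one_mul]
  have a := congrFun (congrFun e 0) 0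
  have b := congrFun (congrFun e 1) 0
  simp [adjugate_fin_two] at a b
  rw [det_fin_two] at d
  exact ⟨by rw [b, neg_neg], a.symm, by rw [a, b]; linear_combination d⟩

theorem su2_ext (hq : QConj σ q) {g h : SU 2 F q} (e0 : g.1.1 0 0 = h.1.1 0 0)
    (e1 : g.1.1 0 1 = h.1.1 0 1) : g = h := by
  have a := su2_entries hq g
  have b := su2_entries hq h
  refine Subtype.ext (Subtype.ext (Matrix.ext fun i j => ?_))
  fin_cases i <;> fin_cases j <;> simp [e0, e1, a.1, a.2.1, b.1, b.2.1]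

theorem exists_su2_el (hq : QConj σ q) {a b : F} (h : σ a * a + σ b * b = 1) :
    ∃ g : SU 2 F q, g.1.1 0 0 = a ∧ g.1.1 0 1 = b := by
  obtain ⟨g, hg⟩ := exists_su hq (M := !![a, b; -σ b, σ a]) (by
    ext i j
    fin_cases i <;> fin_cases j <;> simp [Matrix.mul_apply, hq.invol] <;>
      first | ring1 | linear_combination h) (by rw [det_fin_two_of]; linear_combination h)
  exact ⟨g, by simp [hg], by simp [hg]⟩

theorem map_conj (hq : QConj σ q) (τ : F →+* F) (x : F) : σ (τ x) = τ (σ x) := by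
  rw [hq.eq, hq.eq, map_pow]

/-- Diagonal and field automorphisms. -/
def cj (hq : QConj σ q) {t : Fin n → F} (ht : ∀ k, σ (t k) * t k = 1) (τ : F →+* F) :
    SU n F q →* SU n F q where
  toFun g := ⟨⟨diagonal t * g.1.1.map τ * ((diagonal t).map σ)ᵀ, by
      rw [det_mul, det_mul, mul_right_comm, ← det_mul, mul_eq_one_comm.1 (conj_mul_diagonal ht),
        ← RingHom.mapMatrix_apply, ← RingHom.map_det, g.1.2]
      simp⟩, mem_su_of_conj_transpose_mul hq (by
    have a : ((g.1.1.map τ).map σ)ᵀ * g.1.1.map τ = 1 := by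
      rw [show (g.1.1.map τ).map σ = (g.1.1.map σ).map τ by ext; simp [map_conj hq],
        ← transpose_map, ← Matrix.map_mul, conj_mul_self hq]
      simp
    have b : (((diagonal t).map σ)ᵀ.map σ)ᵀ = diagonal t := by
      simp [diagonal_map (map_zero σ), hq.invol]
    simp only [Matrix.map_mul, transpose_mul, Matrix.mul_assoc, b]
    rw [← Matrix.mul_assoc _ (diagonal t), conj_mul_diagonal ht, Matrix.one_mul,
      ← Matrix.mul_assoc _ (g.1.1.map τ), a, Matrix.one_mul,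
      mul_eq_one_comm.1 (conj_mul_diagonal ht)])⟩
  map_one' := Subtype.ext (Subtype.ext (by
    simpa using mul_eq_one_comm.1 (conj_mul_diagonal ht)))
  map_mul' g h := Subtype.ext (Subtype.ext (by
    change diagonal t * (g.1.1 * h.1.1).map τ * _ = diagonal t * _ * _ * (diagonal t * _ * _)
    simp only [Matrix.map_mul, Matrix.mul_assoc]
    rw [← Matrix.mul_assoc _ (diagonal t), conj_mul_diagonal ht, Matrix.one_mul]))

theorem cj_apply (hq : QConj σ q) {t : Fin n → F} (ht : ∀ k, σ (t k) * t k = 1) (τ : F →+* F)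
    (g : SU n F q) (i j : Fin n) : (cj hq ht τ g).1.1 i j = t i * τ (g.1.1 i j) * σ (t j) := by
  simp [cj, diagonal_map (map_zero σ)]

theorem cj_bij (hq : QConj σ q) {t : Fin n → F} (ht : ∀ k, σ (t k) * t k = 1) (τ : F →+* F) :
    Function.Bijective (cj hq ht τ) := by
  have := hq.finite
  refine Finite.injective_iff_bijective.1 fun g h e => Subtype.ext (Subtype.ext (Matrix.ext
    fun i j => ?_))
  have := (cj_apply hq ht τ g i j).symm.trans (e ▸ cj_apply hq ht τ h i j)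
  exact τ.injective (mul_left_cancel₀ (right_ne_zero_of_mul_eq_one (ht i))
    (mul_right_cancel₀ (left_ne_zero_of_mul_eq_one (ht j)) this))

theorem cj_emb (hq : QConj σ q) {t : Fin n → F} (ht : ∀ k, σ (t k) * t k = 1) (τ : F →+* F)
    {f : Fin m → Fin n} (hf : Function.Injective f) (g : SU m F q) :
    cj hq ht τ (emb hq hf g) = emb hq hf (cj hq (fun k => ht (f k)) τ g) := by
  refine Subtype.ext (Subtype.ext ?_)
  have a : diagonal t * Pm F f = Pm F f * diagonal fun k => t (f k) := by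
    ext i j; simp [Pm]; split_ifs with h <;> simp [h]
  have b : (Pm F f)ᵀ * ((diagonal t).map σ)ᵀ = ((diagonal fun k => t (f k)).map σ)ᵀ * (Pm F f)ᵀ := by
    rw [← transpose_mul, ← transpose_mul, ← Pm_map f σ, ← Matrix.map_mul, a, Matrix.map_mul]
  change diagonal t * (embM f g.1.1).map τ * _ = embM f (diagonal _ * _ * _)
  have c := mul_eq_one_comm.1 (conj_mul_diagonal ht)
  have d := mul_eq_one_comm.1 (conj_mul_diagonal fun k => ht (f k))
  simp only [embM, Matrix.map_add _ (map_add τ), Matrix.map_mul, Matrix.map_sub _ (map_sub τ),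
    Matrix.map_one _ (map_zero τ) (map_one τ), Pm_map, transpose_map, Matrix.mul_add, Matrix.add_mul,
    Matrix.mul_one, c, Matrix.mul_assoc, b]
  rw [← Matrix.mul_assoc (diagonal t), a]
  simp only [Matrix.mul_assoc, Matrix.sub_mul, Matrix.mul_sub, Matrix.one_mul]
  rw [← Matrix.mul_assoc (diagonal _) _ (Pm F f)ᵀ, d, Matrix.one_mul]

theorem conj_eq_cj (hq : QConj σ q) {t : Fin n → F} (ht : ∀ k, σ (t k) * t k = 1) {d : SU n F q}
    (hd : d.1.1 = diagonal t) (g : SU n F q) : d * g = cj hq ht (RingHom.id F) g * d :=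
  Subtype.ext (Subtype.ext (by
    change d.1.1 * g.1.1 = diagonal t * g.1.1.map id * _ * d.1.1
    rw [hd, Matrix.mul_assoc, conj_mul_diagonal ht, Matrix.mul_one, Matrix.map_id]))

theorem exists_mu (hq : QConj σ q) : ∃ μ : F, σ μ * μ = 1 ∧ σ μ ≠ μ := by
  obtain ⟨θ, hθ, hθ'⟩ : ∃ a : F, σ a ≠ a ∧ σ a ≠ -a := by
    obtain ⟨s, hs⟩ := exists_ne_conj hq.ne_id
    by_cases h : σ s = -s
    · refine ⟨1 + s, by simpa using hs, fun h1 => hs ?_⟩
      rw [map_add, map_one, h] at h1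
      rw [h]
      linear_combination (-s) * h1
    · exact ⟨s, hs, h⟩
  have h0 : θ ≠ 0 := by rintro rfl; simp at hθ
  have h1 : σ θ ≠ 0 := by simpa using h0
  refine ⟨σ θ / θ, by rw [map_div₀, hq.invol]; field_simp, fun e => ?_⟩
  rw [map_div₀, hq.invol, div_eq_div_iff h1 h0] at e
  rcases mul_self_eq_mul_self_iff.1 e with e | e
  · exact hθ e.symm
  · exact hθ' (by linear_combination e)

theorem eq_cj (hq : QConj σ q) (h4 : 4 ≤ q) (α : MulAut (SU 2 F q))
    (h : ∀ g : SU 2 F q, g.1.1 0 1 = 0 → (α g).1.1 0 1 = 0) :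
    ∃ (l : F) (hl : ∀ k, σ (![l, 1] k) * ![l, 1] k = 1) (τ : F →+* F), ∀ g, α g = cj hq hl τ g := by
  suffices ∃ (l : F) (τ : F →+* F), ∀ g, (α g).1.1 0 0 = τ (g.1.1 0 0) ∧
      (α g).1.1 0 1 = l * τ (g.1.1 0 1) by
    obtain ⟨l, τ, h⟩ := this
    obtain ⟨w, w0, w1⟩ := exists_su2_el hq (a := 0) (b := 1) (by simp)
    have hl : σ l * l = 1 := by simpa [h w, w0, w1] using (su2_entries hq (α w)).2.2
    refine ⟨l, fun k => by fin_cases k <;> simp [hl], τ, fun g => su2_ext hq ?_ ?_⟩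
    · rw [cj_apply, (h g).1]
      simp only [cons_val_zero]
      linear_combination (-τ (g.1.1 0 0)) * hl
    · simp [cj_apply, (h g).2]
  obtain ⟨M, τ, hM⟩ := aut_SU2 hq h4 α
  obtain ⟨μ, hμ, hμ'⟩ := exists_mu hq
  obtain ⟨d, d0, d1⟩ := exists_su2_el hq (a := μ) (b := 0) (by simpa using hμ)
  have e : ∀ g i j, ((α g).1.1 * M.1) i j = (M.1 * g.1.1.map τ) i j := fun g i j => by rw [hM]
  simp only [Matrix.mul_apply, Fin.sum_univ_two, map_apply] at e
  have hd := h d d1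
  have s := su2_entries hq d
  have s' := su2_entries hq (α d)
  have a := e d 0 0
  have b := e d 0 1
  have a' := e d 1 0
  have b' := e d 1 1
  simp only [hd, d0, d1, s.1, s.2.1, s'.1, map_zero, neg_zero, mul_zero, zero_mul, add_zero,
    zero_add] at a b a' b'
  have ne : τ μ - τ (σ μ) ≠ 0 := fun e => hμ' (τ.injective (sub_eq_zero.1 e)).symm
  have c : M.1 0 0 * M.1 0 1 = 0 :=
    (mul_eq_zero.1 (by linear_combination M.1 0 0 * b - M.1 0 1 * a)).resolve_right ne
  have c' : M.1 1 0 * M.1 1 1 = 0 :=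
    (mul_eq_zero.1 (by linear_combination M.1 1 0 * b' - M.1 1 1 * a')).resolve_right ne
  have dt := M.det_ne_zero
  rw [det_fin_two] at dt
  by_cases m0 : M.1 0 0 = 0
  · have m1 : M.1 0 1 ≠ 0 := fun e => dt (by simp [m0, e])
    have m2 : M.1 1 0 ≠ 0 := fun e => dt (by simp [m0, e])
    have m3 := (mul_eq_zero.1 c').resolve_left m2
    refine ⟨-(M.1 0 1 / M.1 1 0), τ.comp σ, fun g => ⟨?_, ?_⟩⟩
    · have := e g 0 1
      rw [m0, m3, (su2_entries hq g).2.1] at this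
      exact mul_right_cancel₀ m1 (by simpa [mul_comm] using this)
    · have := e g 0 0
      rw [m0, (su2_entries hq g).1, map_neg] at this
      field_simp
      simp only [RingHom.comp_apply]
      linear_combination this
  · have m1 := (mul_eq_zero.1 c).resolve_left m0
    have m3 : M.1 1 1 ≠ 0 := fun e => dt (by simp [m1, e])
    have m2 := (mul_eq_zero.1 c').resolve_right m3
    refine ⟨M.1 0 0 / M.1 1 1, τ, fun g => ⟨?_, ?_⟩⟩
    · have := e g 0 0
      rw [m1, m2] at this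
      exact mul_right_cancel₀ m0 (by simpa [mul_comm] using this)
    · have := e g 0 1
      rw [m1] at this
      field_simp
      linear_combination this

variable {G : Type*} [Group G]

/-- A parametrised standard pair. -/
structure Good (hq : QConj σ q) (Ψ : SU 3 F q →* G) (A B : Subgroup G) : Prop where
  r1 : (Ψ.comp (j1 hq)).range = A
  r2 : (Ψ.comp (j2 hq)).range = B
  i1 : Function.Injective (Ψ.comp (j1 hq))
  i2 : Function.Injective (Ψ.comp (j2 hq))

theorem su2_diag_of_comm (hq : QConj σ q) {g h : SU 2 F q} {μ : F} (hμ' : σ μ ≠ μ)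
    (e0 : h.1.1 0 0 = g.1.1 0 0) (e1 : h.1.1 0 1 = μ * g.1.1 0 1) (c : g * h = h * g) :
    g.1.1 0 1 = 0 := by
  have := congrArg (fun x : SU 2 F q => x.1.1 0 0) c
  simp only [Subgroup.coe_mul, Matrix.SpecialLinearGroup.coe_mul, Matrix.mul_apply, Fin.sum_univ_two,
    (su2_entries hq _).1, e0, e1, map_mul] at this
  have : (σ μ - μ) * (σ (g.1.1 0 1) * g.1.1 0 1) = 0 := by linear_combination -this
  simpa [sub_eq_zero, hμ'] using this

theorem su2_comm (hq : QConj σ q) {g h : SU 2 F q} (e : g.1.1 0 1 = 0) (e' : h.1.1 0 1 = 0) :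
    g * h = h * g := by
  refine su2_ext hq ?_ ?_ <;> simp [Matrix.mul_apply, (su2_entries hq _).1, e, e', mul_comm]

theorem Good.adjust {hq : QConj σ q} (h4 : 4 ≤ q) {Ψ Ψ' : SU 3 F q →* G} {A B C : Subgroup G}
    (h : Good hq Ψ A B) (h' : Good hq Ψ' B C) (hc : ∀ x ∈ A, ∀ y ∈ C, x * y = y * x) :
    ∃ Ψ'', Good hq Ψ'' B C ∧ Ψ''.comp (j1 hq) = Ψ.comp (j2 hq) := by
  let α : MulAut (SU 2 F q) := (MonoidHom.ofInjective h.i2).trans
    ((MulEquiv.subgroupCongr (h.r2.trans h'.r1.symm)).trans (MonoidHom.ofInjective h'.i1).symm)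
  have hα : ∀ g, Ψ' (j1 hq (α g)) = Ψ (j2 hq g) := fun g =>
    MonoidHom.apply_ofInjective_symm h'.i1 _
  obtain ⟨μ, hμ, hμ'⟩ := exists_mu hq
  have μ1 : σ μ ≠ 1 := fun e => hμ' (by rw [e, one_mul] at hμ; rw [e, hμ])
  have t1 : ∀ k, σ (![μ, σ μ, 1] k) * ![μ, σ μ, 1] k = 1 := fun k => by
    fin_cases k <;> simp [hμ, hq.invol, mul_comm μ]
  have t2 : ∀ k, σ (![1, σ μ, μ] k) * ![1, σ μ, μ] k = 1 := fun k => by
    fin_cases k <;> simp [hμ, hq.invol, mul_comm μ]
  obtain ⟨d, hd⟩ := exists_su hq (conj_mul_diagonal t1) (by simp [Fin.prod_univ_three, mul_comm μ, hμ])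
  obtain ⟨d', hd'⟩ := exists_su hq (conj_mul_diagonal t2) (by simp [Fin.prod_univ_three, hμ])
  have dA : Ψ d ∈ A := by
    obtain ⟨x, rfl⟩ : d ∈ (j1 hq).range := by
      rw [range_j1]
      intro k hk
      fin_cases k <;> simp [ac_apply, hd] at hk ⊢
    exact h.r1 ▸ ⟨x, rfl⟩
  have dC : Ψ' d' ∈ C := by
    obtain ⟨x, rfl⟩ : d' ∈ (j2 hq).range := by
      rw [range_j2]
      intro k hk
      fin_cases k <;> simp [ac_apply, hd'] at hk ⊢
    exact h'.r2 ▸ ⟨x, rfl⟩
  have k1 : ∀ g : SU 2 F q, Commute (Ψ d) (Ψ (j2 hq g)) ↔ g.1.1 0 1 = 0 := fun g => by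
    rw [commute_iff_eq, ← map_mul, conj_eq_cj hq t1 hd, map_mul, mul_left_inj, j2, cj_emb]
    refine h.i2.eq_iff.trans ⟨fun e => ?_, fun e => su2_ext hq ?_ ?_⟩
    · have := cj_apply hq (fun k => t1 (sh 2 1 (by omega) k)) (RingHom.id F) g 0 1
      rw [e] at this
      have : (σ μ - 1) * g.1.1 0 1 = 0 := by simp [sh] at this; linear_combination -this
      simpa [sub_eq_zero, μ1] using this
    · rw [cj_apply]
      simp [sh, hq.invol]
      linear_combination g.1.1 0 0 * hμ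
    · simp [cj_apply, e]
  obtain ⟨l, hl, τ, e⟩ := eq_cj hq h4 α fun g hg => by
    obtain ⟨g', hg'⟩ := α.surjective (cj hq (fun k => t2 (sh 2 0 (by omega) k)) (RingHom.id F) (α g))
    refine su2_diag_of_comm hq hμ' (h := α g') ?_ ?_ ?_
    · simp [hg', cj_apply, sh]
    · simp [hg', cj_apply, sh, hq.invol, mul_comm]
    · rw [← map_mul, ← map_mul, su2_comm hq hg ((k1 g').1 ?_)]
      have c := (k1 g).2 hg
      rw [← hα] at c ⊢
      have e : Ψ' (j1 hq (α g')) = Ψ' d' * Ψ' (j1 hq (α g)) * (Ψ' d')⁻¹ := by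
        rw [← map_mul, conj_eq_cj hq t2 hd', map_mul, mul_inv_cancel_right, hg', j1, cj_emb]
      have c' : Commute (Ψ d) (Ψ' d') := hc _ dA _ dC
      rw [e]
      exact (c'.mul_right c).mul_right c'.inv_right
  have t3 : ∀ k, σ (![l, 1, 1] k) * ![l, 1, 1] k = 1 := fun k => by
    fin_cases k <;> simp
    simpa using hl 0
  have e1 : (Ψ'.comp (cj hq t3 τ)).comp (j1 hq) = Ψ.comp (j2 hq) := MonoidHom.ext fun g => by
    simp only [MonoidHom.comp_apply, ← hα, e]
    rw [j1, cj_emb]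
    rfl
  have e2 : (Ψ'.comp (cj hq t3 τ)).comp (j2 hq) =
      (Ψ'.comp (j2 hq)).comp (cj hq (fun k => t3 (sh 2 1 (by omega) k)) τ) :=
    MonoidHom.ext fun g => by simp only [MonoidHom.comp_apply, j2, cj_emb]
  refine ⟨_, ⟨e1 ▸ h.r2, ?_, e1 ▸ h.i2, e2 ▸ h'.i2.comp (cj_bij hq _ τ).1⟩, e1⟩
  rw [e2, MonoidHom.range_comp, MonoidHom.range_eq_top.2 (cj_bij hq _ τ).2, ← MonoidHom.range_eq_map,
    h'.r2]

theorem exists_of_good (hq : QConj σ q) (h4 : 4 ≤ q) (hn : 2 ≤ n) (U : Fin n → Subgroup G)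
    (h1 : ∀ i j : Fin n, (i : ℕ) + 2 ≤ j → ∀ x ∈ U i, ∀ y ∈ U j, x * y = y * x)
    (h2 : ∀ i j : Fin n, (i : ℕ) + 1 = j → ∃ Ψ, Good hq Ψ (U i) (U j)) :
    ∃ f : SU (n + 1) F q →* G, ∀ i, U i ≤ f.range := by
  classical
  let V : ℕ → Subgroup G := fun i => if h : i < n then U ⟨i, h⟩ else ⊥
  have hV : ∀ i (h : i < n), V i = U ⟨i, h⟩ := fun i h => dif_pos h
  have a1 : ∀ i j, i + 2 ≤ j → j < n → ∀ x ∈ V i, ∀ y ∈ V j, x * y = y * x := fun i j h hj => by
    rw [hV i (by omega), hV j hj]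
    exact h1 _ _ h
  have a2 : ∀ i, i + 1 < n → ∃ Ψ, Good hq Ψ (V i) (V (i + 1)) := fun i h => by
    rw [hV i (by omega), hV _ h]
    exact h2 _ _ rfl
  let Ψ : ℕ → SU 3 F q →* G := fun i => Nat.rec (a2 0 (by omega)).choose (fun i Ψ =>
    if h : ∃ Ψ', Good hq Ψ' (V (i + 1)) (V (i + 2)) ∧ Ψ'.comp (j1 hq) = Ψ.comp (j2 hq)
    then h.choose else 1) i
  have a3 : ∀ i, i + 2 < n → Good hq (Ψ i) (V i) (V (i + 1)) →
      Good hq (Ψ (i + 1)) (V (i + 1)) (V (i + 2)) ∧
        (Ψ (i + 1)).comp (j1 hq) = (Ψ i).comp (j2 hq) := fun i hi h => by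
    obtain ⟨Ψ', h'⟩ := a2 (i + 1) hi
    have := h.adjust h4 h' (a1 i _ le_rfl hi)
    have e : Ψ (i + 1) = this.choose := dif_pos this
    exact e ▸ this.choose_spec
  have a4 : ∀ i, i + 1 < n → Good hq (Ψ i) (V i) (V (i + 1)) := fun i => by
    induction i with
    | zero => exact fun _ => (a2 0 (by omega)).choose_spec
    | succ i ih => exact fun h => (a3 i h (ih (by omega))).1
  let χ : ℕ → SU 2 F q →* G := fun i => Nat.rec ((Ψ 0).comp (j1 hq)) (fun i _ => (Ψ i).comp (j2 hq)) i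
  have a5 : ∀ i < n, (χ i).range = V i := fun i hi => by
    cases i with
    | zero => exact (a4 0 (by omega)).r1
    | succ i => exact (a4 i hi).r2
  obtain ⟨f, hf⟩ := exists_hom_SU hq h4 hn χ (fun i hi => ⟨Ψ i, by
    cases i with
    | zero => rfl
    | succ i => exact (a3 i hi (a4 i (by omega))).2, rfl⟩) fun i j h hj x y =>
      a1 i j h hj _ ((a5 i (by omega)).le ⟨x, rfl⟩) _ ((a5 j hj).le ⟨y, rfl⟩)
  exact ⟨f, fun i => (hV i i.2).ge.trans ((a5 i i.2).ge.trans (hf i i.2))⟩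

theorem good_of_range (hq : QConj σ q) {Ψ : SU 3 F q →* G} {A B : Subgroup G} (e : SU 2 F q ≃* A)
    (e' : SU 2 F q ≃* B) (h : (j1 hq).range.map Ψ = A) (h' : (j2 hq).range.map Ψ = B) :
    Good hq Ψ A B := by
  have := hq.finite
  have key : ∀ {φ : SU 2 F q →* G} {A : Subgroup G}, (SU 2 F q ≃* A) → φ.range = A →
      Function.Injective φ := fun {φ A} e h => by
    subst h
    exact Subtype.val_injective.comp (φ.rangeRestrict_surjective.bijective_of_nat_card_le
      (Nat.card_congr e.toEquiv).le).1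
  rw [MonoidHom.map_range] at h h'
  exact ⟨h, h', key e h, key e' h'⟩

theorem good_of_std (hq : QConj σ q) (h3 : 3 ≤ q) {V A B : Subgroup G} (e : SU 2 F q ≃* A)
    (e' : SU 2 F q ≃* B) (h : IsStandardUnitaryPair V A B F q) :
    V = A ⊔ B ∧ ∃ Ψ, Good hq Ψ A B := by
  obtain ⟨Ψ, h0, h1, h2⟩ : ∃ Ψ : SU 3 F q →* G, Ψ.range = V ∧ (suBlock 3 F q {0, 1}).map Ψ = A ∧
      (suBlock 3 F q {1, 2}).map Ψ = B := by
    rcases h with ⟨ψ, h⟩ | ⟨ψ, h⟩
    · exact ⟨_, by rw [MonoidHom.range_comp, MonoidHom.range_eq_top.2 ψ.surjective,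
        ← MonoidHom.range_eq_map, Subgroup.range_subtype], h⟩
    · exact ⟨_, by rw [MonoidHom.range_comp, MonoidHom.range_eq_top.2
        (ψ.surjective.comp (QuotientGroup.mk'_surjective _)), ← MonoidHom.range_eq_map,
        Subgroup.range_subtype], h⟩
  rw [suBlock_eq hq, ← range_j1 hq] at h1
  rw [suBlock_eq hq, ← range_j2 hq] at h2
  exact ⟨by rw [← h1, ← h2, ← Subgroup.map_sup, range_sup hq h3, ← MonoidHom.range_eq_map, h0],
    Ψ, good_of_range hq e e' h1 h2⟩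

end Cfsg.Agent.H12.Ph
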