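import Mathlib
import Cfsg.Agent.H12.Ph4
import Cfsg.Agent.H19.SL2

/-!
# Subgroups `SU 2` of `SU 3`
-/

set_option autoImplicit false

namespace Cfsg.Agent.H12.Ph

open Matrix H11 H19.St
open scoped MatrixGroups commutatorElement

variable {F : Type*} [Field F] {σ : F →+* F} {q n : ℕ}

theorem par_of_cross {a b : Fin 3 → F} (ha : a ≠ 0) (h : crossProduct a b = 0) :
    ∃ c : F, b = c • a := by
  by_contra h'
  push Not at h'
  exact crossProduct_ne_zero_iff_linearIndependent.2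
    ((LinearIndependent.pair_iff' ha).2 fun c e => h' c e.symm) h

theorem iso_dep (hq : QConj σ q) {p r : Fin 3 → F} (hp : p ≠ 0) (pp : hB σ p p = 0)
    (pr : hB σ p r = 0) (rr : hB σ r r = 0) : ∃ c : F, r = c • p := by
  have rp := perp_symm hq pr
  change (σ ∘ p) ⬝ᵥ p = 0 at pp
  change (σ ∘ p) ⬝ᵥ r = 0 at pr
  change (σ ∘ r) ⬝ᵥ r = 0 at rr
  change (σ ∘ r) ⬝ᵥ p = 0 at rp
  by_cases h : crossProduct (σ ∘ p) (σ ∘ r) = 0
  · obtain ⟨c, hc⟩ := par_of_cross (fun e => hp (funext fun i => by simpa using congrFun e i)) h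
    exact ⟨σ c, funext fun i => by simpa [hq.invol] using congrArg σ (congrFun hc i)⟩
  obtain ⟨a, ha⟩ := par_of_cross (b := p) h (by
    rw [← cross_anticomm, cross_cross_eq_smul_sub_smul', dotProduct_comm, rp, pp]; simp)
  obtain ⟨b, hb⟩ := par_of_cross (b := r) h (by
    rw [← cross_anticomm, cross_cross_eq_smul_sub_smul', dotProduct_comm, rr, pr]; simp)
  generalize crossProduct (σ ∘ p) (σ ∘ r) = m at ha hb
  have a0 : a ≠ 0 := by rintro rfl; exact hp (by simpa using ha)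
  exact ⟨b / a, by rw [ha, hb, smul_smul, div_mul_cancel₀ _ a0]⟩

theorem eq_zero_of_perp {w : Fin n → F} (h : ∀ u, hB σ u w = 0) : w = 0 :=
  funext fun i => by simpa [hB_ee] using h (ee i)

theorem fix_unique (hq : QConj σ q) {x : SU 3 F q} {v w : Fin 3 → F} (hv : hB σ v v = 1)
    (e : ac x v = v) (e' : ac x w = w) {k : ℕ} (hk : (k : F) ≠ 0) (h : x ^ k = 1) (h1 : x ≠ 1) :
    ∃ c : F, w = c • v := by
  obtain ⟨g, -, rfl⟩ := Un.trans hq (s := Set.univ) ⟨hv, by simp⟩ (i := 2) (j := 0) trivial trivial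
    (by simp)
  obtain ⟨w, rfl⟩ : ∃ w', w = ac g w' := ⟨_, (ac_ac_inv g w).symm⟩
  obtain ⟨y, rfl⟩ : ∃ y, x = g * y * g⁻¹ := ⟨g⁻¹ * x * g, by group⟩
  have inj : ∀ u u', ac g u = ac g u' → u = u' := fun u u' h => by
    rw [← ac_inv_ac g u, h, ac_inv_ac]
  rw [ac_mul, ac_mul, ac_inv_ac] at e e'
  replace e := inj _ _ e
  replace e' := inj _ _ e'
  replace h : y ^ k = 1 := by rwa [conj_pow, conj_eq_one_iff] at h
  have hy : y ∈ Blk F q {0, 1} := fun k hk => by fin_cases k <;> simp at hk; exact e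
  have a : ∀ i, y.1.1 i 2 = ee 2 i := fun i => by simpa [ac_apply] using congrFun e i
  have b : ∀ i, y.1.1 2 i = ee i 2 := fun i => by
    simpa [ac_apply] using Blk_apply hq hy (k := 2) (by simp) (ee i)
  have d := y.1.2
  have c0 := congrFun e' 0
  have c1 := congrFun e' 1
  rw [det_fin_three] at d
  simp [ac_apply, mulVec, dotProduct, Fin.sum_univ_three, a, b] at d c0 c1
  by_cases t : y.1.1 0 0 + y.1.1 1 1 = 2
  · have n2 : (y.1.1 - 1) * (y.1.1 - 1) = 0 := by
      ext i j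
      fin_cases i <;> fin_cases j <;> simp [Matrix.mul_apply, Fin.sum_univ_three, a, b]
      · linear_combination y.1.1 0 0 * t - d
      · linear_combination y.1.1 0 1 * t
      · linear_combination y.1.1 1 0 * t
      · linear_combination y.1.1 1 1 * t - d
    have p : ∀ k : ℕ, y.1.1 ^ k = 1 + (k : F) • (y.1.1 - 1) := fun k => by
      induction k with
      | zero => simp
      | succ k ih =>
        rw [pow_succ, ih, show (1 + (k : F) • (y.1.1 - 1)) * y.1.1 = y.1.1 + (k : F) • (y.1.1 - 1) +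
          (k : F) • ((y.1.1 - 1) * (y.1.1 - 1)) by
            simp only [Matrix.add_mul, Matrix.one_mul, smul_mul_assoc, Matrix.mul_sub, Matrix.mul_one,
              smul_sub, Matrix.sub_mul]; abel, n2]
        push_cast
        simp only [add_smul, one_smul, smul_zero]; abel
    have := p k
    rw [show y.1.1 ^ k = 1 from congrArg (fun x : SU 3 F q => x.1.1) h, left_eq_add, smul_eq_zero,
      or_iff_right hk, sub_eq_zero] at this
    exact (h1 (by rw [show y = 1 from Subtype.ext (Subtype.ext this)]; simp)).elim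
  · have t' : 2 - (y.1.1 0 0 + y.1.1 1 1) ≠ 0 := sub_ne_zero.2 (Ne.symm t)
    have w0 : w 0 = 0 := mul_left_cancel₀ t' (by
      linear_combination (y.1.1 1 1 - 1) * c0 - y.1.1 0 1 * c1 - w 0 * d)
    have w1 : w 1 = 0 := mul_left_cancel₀ t' (by
      linear_combination (y.1.1 0 0 - 1) * c1 - y.1.1 1 0 * c0 - w 1 * d)
    refine ⟨w 2, ?_⟩
    rw [← map_smul]
    congr 1
    ext i; fin_cases i <;> simp [w0, w1]

theorem exists_aniso (hq : QConj σ q) {v w : Fin n → F} (h : hB σ v w ≠ 0) :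
    ∃ a b : F, hB σ (a • v + b • w) (a • v + b • w) = 1 := by
  suffices ∃ a b : F, hB σ (a • v + b • w) (a • v + b • w) ≠ 0 by
    obtain ⟨a, b, h⟩ := this
    obtain ⟨β, -, -, e⟩ := exists_unit_smul hq h
    exact ⟨β⁻¹ * a, β⁻¹ * b, by rwa [mul_smul, mul_smul, ← smul_add]⟩
  by_cases h1 : hB σ v v = 0
  swap
  · exact ⟨1, 0, by simpa using h1⟩
  by_cases h2 : hB σ w w = 0
  swap
  · exact ⟨0, 1, by simpa using h2⟩
  obtain ⟨t, ht⟩ := exists_trace_eq hq.ne_id hq.invol (a := 1) (map_one σ)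
  refine ⟨1, t / hB σ v w, ?_⟩
  have : hB σ w v ≠ 0 := fun e => h (perp_symm hq e)
  simp [h1, h2, hB_conj hq, h, this, add_comm (σ t), ht]

section Two

variable {x y : SU 3 F q}

theorem inv_adj (hq : QConj σ q) (hx : x * x = 1) (u w : Fin 3 → F) :
    hB σ (ac x u - u) w = hB σ u (ac x w - w) := by
  rw [hB_sub_left, hB_sub_right, ← hB_ac hq x (ac x u), ← ac_mul, hx, ac_one]

theorem inv_sq (h2 : (2 : F) = 0) (hx : x * x = 1) (u : Fin 3 → F) :
    ac x (ac x u - u) - (ac x u - u) = 0 := by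
  rw [map_sub, ← ac_mul, hx, ac_one]
  calc u - ac x u - (ac x u - u) = (2 : F) • (u - ac x u) := by rw [two_smul]; abel
    _ = 0 := by rw [h2, zero_smul]

theorem inv_par (hq : QConj σ q) (h2 : (2 : F) = 0) (hx : x * x = 1) (hy : y * y = 1)
    (h : x * y = y * x) {u : Fin 3 → F} (hu : ac x u - u ≠ 0) (w : Fin 3 → F) :
    ∃ c : F, ac y w - w = c • (ac x u - u) := by
  have iso : ∀ {x : SU 3 F q}, x * x = 1 → ∀ u w, hB σ (ac x u - u) (ac x w - w) = 0 :=
    fun hx u w => by rw [inv_adj hq hx, inv_sq h2 hx, hB_zero_right]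
  refine iso_dep hq hu (iso hx u u) ?_ (iso hy w w)
  obtain ⟨c, hc⟩ := iso_dep hq hu (iso hx u u) (iso hx u (ac y w - w)) (iso hx _ _)
  have e : ac x (ac y w - w) - (ac y w - w) = ac y (ac x w - w) - (ac x w - w) := by
    rw [map_sub, map_sub, ← ac_mul, ← ac_mul, h]; abel
  have := iso hy (ac x w - w) w
  rw [← e, hc, hB_smul_left, mul_eq_zero, map_eq_zero] at this
  rcases this with rfl | h
  · rw [inv_adj hq hx, hc, zero_smul, hB_zero_right]
  · exact h

theorem inv_fix (hq : QConj σ q) (hy : y * y = 1) {p v : Fin 3 → F}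
    (h : ∀ w, ∃ c : F, ac y w - w = c • p) (e : hB σ p v = 0) : ac y v = v :=
  sub_eq_zero.1 (eq_zero_of_perp (σ := σ) fun u => by
    obtain ⟨c, hc⟩ := h u
    rw [← inv_adj hq hy, hc, hB_smul_left, e, mul_zero])

end Two

theorem exists_move {x : SU n F q} (h : x ≠ 1) : ∃ u, ac x u - u ≠ 0 := by
  by_contra h'
  push Not at h'
  exact h (su_ext fun i => by rw [ac_one, ← sub_eq_zero, h'])

theorem exists_fixed (hq : QConj σ q) (h4 : 4 ≤ q) {φ : SU 2 F q →* SU 3 F q}
    (hφ : Function.Injective φ) : ∃ v, hB σ v v = 1 ∧ ∀ x, ac (φ x) v = v := by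
  have := hq.finite
  obtain ⟨K, -, e, hK, -⟩ := exists_su2 hq
  obtain ⟨ψ, hψ, h⟩ : ∃ ψ : SL(2, K) →* SU 3 F q, Function.Injective ψ ∧ ∀ x, ψ x = φ (e x) :=
    ⟨φ.comp e.toMonoidHom, hφ.comp e.injective, fun _ => rfl⟩
  suffices ∃ v, hB σ v v = 1 ∧ ∀ x, ac (ψ x) v = v by
    obtain ⟨v, hv, h'⟩ := this
    exact ⟨v, hv, fun x => by rw [← e.apply_symm_apply x, ← h, h']⟩
  clear h hφ φ e
  by_cases h2 : (2 : F) = 0
  · have h2' : ∀ t : K, t + t = 0 := fun t => Subtype.ext (by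
      change t.1 + t.1 = 0
      rw [← two_mul, h2, zero_mul])
    have hx : ∀ t, ψ (xx t) * ψ (xx t) = 1 := fun t => by
      rw [← map_mul, ← rel_SL.x_add, h2', rel_SL.x_zero, map_one]
    have hy : ∀ t, ψ (yy t) * ψ (yy t) = 1 := fun t => by
      rw [← map_mul, ← rel_SL.y_add, h2', rel_SL.y_zero, map_one]
    obtain ⟨u, hu⟩ := exists_move (x := ψ (xx 1)) fun e => by
      simpa using congrArg (fun g : SL(2, K) => g.1 0 1) ((injective_iff_map_eq_one ψ).1 hψ _ e)
    obtain ⟨u', hu'⟩ := exists_move (x := ψ (yy 1)) fun e => by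
      simpa using congrArg (fun g : SL(2, K) => g.1 1 0) ((injective_iff_map_eq_one ψ).1 hψ _ e)
    have a := fun t => inv_par hq h2 (hx 1) (hx t) (by
      rw [← map_mul, ← map_mul, ← rel_SL.x_add, ← rel_SL.x_add, add_comm]) hu
    have b := fun t => inv_par hq h2 (hy 1) (hy t) (by
      rw [← map_mul, ← map_mul, ← rel_SL.y_add, ← rel_SL.y_add, add_comm]) hu'
    have pp : hB σ _ _ = 0 := (inv_adj hq (hx 1) u _).trans (by rw [inv_sq h2 (hx 1) u, hB_zero_right])
    have rr : hB σ _ _ = 0 :=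
      (inv_adj hq (hy 1) u' _).trans (by rw [inv_sq h2 (hy 1) u', hB_zero_right])
    generalize ac (ψ (xx 1)) u - u = p at hu a pp
    generalize ac (ψ (yy 1)) u' - u' = r at hu' b rr
    have ne : hB σ p r ≠ 0 := fun e => by
      have c : ψ (xx 1) * ψ (yy 1) = ψ (yy 1) * ψ (xx 1) := su_ext fun i => by
        obtain ⟨c, hc⟩ := a 1 (ee i)
        obtain ⟨d, hd⟩ := b 1 (ee i)
        rw [sub_eq_iff_eq_add] at hc hd
        rw [ac_mul, ac_mul, hc, hd, map_add, map_add, map_smul, map_smul, hc, hd,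
          inv_fix hq (hx 1) (a 1) e, inv_fix hq (hy 1) (b 1) (perp_symm hq e)]
        abel
      rw [← map_mul, ← map_mul] at c
      simpa [H19.St.mul_apply] using congrArg (fun g : SL(2, K) => g.1 0 0) (hψ c)
    have v0 : crossProduct (σ ∘ p) (σ ∘ r) ≠ 0 := fun e => by
      obtain ⟨c, hc⟩ := par_of_cross (fun e => hu (funext fun i => by simpa using congrFun e i)) e
      have : r = σ c • p := funext fun i => by simpa [hq.invol] using congrArg σ (congrFun hc i)
      exact ne (by rw [this, hB_smul_right, pp, mul_zero])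
    have v1 : hB σ p _ = 0 := dot_self_cross (σ ∘ p) (σ ∘ r)
    have v2 : hB σ r _ = 0 := dot_cross_self (σ ∘ p) (σ ∘ r)
    generalize crossProduct (σ ∘ p) (σ ∘ r) = v at v0 v1 v2
    obtain ⟨β, -, -, e⟩ := exists_unit_smul hq (v := v) fun e => by
      obtain ⟨c, rfl⟩ := iso_dep hq v0 e (perp_symm hq v1) pp
      exact ne (by rw [hB_smul_left, perp_symm hq v2, mul_zero])
    refine ⟨_, e, fun x => ?_⟩
    rw [map_smul, sl_induction (p := fun x => ac (ψ x) v = v) (fun t => inv_fix hq (hx t) (a t) v1)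
      (fun t => inv_fix hq (hy t) (b t) v2) (fun a b ha hb => by rw [map_mul, ac_mul, hb, ha]) x]
  obtain ⟨z, hz⟩ : ∃ z, z = ψ (-1) := ⟨_, rfl⟩
  have zz : z * z = 1 := by rw [hz, ← map_mul]; simp
  have z1 : z ≠ 1 := fun e => h2 (by
    have := congrArg (fun g : SL(2, K) => (g.1 0 0).1) ((injective_iff_map_eq_one ψ).1 hψ _ (hz ▸ e))
    simp at this
    linear_combination -this)
  have fx : ∀ u, ac z (u + ac z u) = u + ac z u := fun u => by
    rw [map_add, ← ac_mul, zz, ac_one, add_comm]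
  obtain ⟨u, hu⟩ : ∃ u, u + ac z u ≠ 0 := by
    by_contra h
    push Not at h
    have : z.1.1 = -1 := Matrix.ext fun i j => by
      have := congrFun (h (ee j)) i
      simp only [ac_apply, mulVec_single_one, Pi.add_apply, col_apply, Pi.zero_apply] at this
      simp only [Matrix.neg_apply, Matrix.one_apply, eq_neg_of_add_eq_zero_right this, Pi.single_apply]
    have d := z.1.2
    rw [this, det_neg, det_one] at d
    simp at d
    exact h2 (by linear_combination -d)
  obtain ⟨i, hi⟩ := Function.ne_iff.1 hu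
  obtain ⟨a, b, hv⟩ := exists_aniso hq (v := ee i + ac z (ee i)) (w := u + ac z u) (by
    rw [hB_add_left, ← hB_ac hq z (ac z (ee i)), ← ac_mul, zz, ac_one, fx, hB_ee, ← two_mul]
    exact mul_ne_zero h2 hi)
  have hv' : ac z (a • (ee i + ac z (ee i)) + b • (u + ac z u)) =
      a • (ee i + ac z (ee i)) + b • (u + ac z u) := by
    rw [map_add, map_smul, map_smul, fx, fx]
  generalize a • (ee i + ac z (ee i)) + b • (u + ac z u) = v at hv hv'
  have sc : ∀ x, ∃ c : F, ac (ψ x) v = c • v := fun x =>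
    fix_unique hq hv hv' (by rw [← ac_mul, hz, ← map_mul, neg_one_mul, ← mul_neg_one, map_mul,
      ac_mul, ← hz, hv']) (k := 2) (by simpa using h2) (by rw [sq, zz]) z1
  refine ⟨v, hv, fun x => ?_⟩
  have hx : x ∈ commutator SL(2, K) := by
    rw [H10.commutator_SL_fin_eq_top le_rfl fun _ => hK ▸ h4]; trivial
  rw [commutator_eq_closure] at hx
  induction hx using Subgroup.closure_induction with
  | mem x hx =>
    obtain ⟨x, y, rfl⟩ := hx
    obtain ⟨c, hc⟩ := sc x
    obtain ⟨d, hd⟩ := sc y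
    have : ac (ψ (x * y)) v = ac (ψ (y * x)) v := by
      simp only [map_mul, ac_mul, hc, hd, map_smul, smul_comm c d]
    obtain ⟨l, hl⟩ := sc (y * x)⁻¹
    rw [show ⁅x, y⁆ = x * y * (y * x)⁻¹ by group, map_mul, ac_mul, hl, map_smul, this, ← map_smul,
      ← hl, ← ac_mul, ← map_mul, mul_inv_cancel, map_one, ac_one]
  | one => rw [map_one, ac_one]
  | mul x y _ _ hx hy => rw [map_mul, ac_mul, hy, hx]
  | inv x _ hx => rw [← hx, map_inv, ac_inv_ac, hx]

/-- The stabiliser of a vector. -/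
def Stb (v : Fin n → F) : Subgroup (SU n F q) where
  carrier := {g | ac g v = v}
  one_mem' := ac_one _
  mul_mem' {a b} (ha : ac a v = v) (hb : ac b v = v) := show ac (a * b) v = v by rw [ac_mul, hb, ha]
  inv_mem' {g} (hg : ac g v = v) := show ac g⁻¹ v = v by rw [← hg, ac_inv_ac, hg]

theorem good_of_gen (hq : QConj σ q) (h4 : 4 ≤ q) {G : Type*} [Group G] {A B : Subgroup G}
    (e : SU 2 F q ≃* A) (e' : SU 2 F q ≃* B) (θ : ↥(A ⊔ B) ≃* SU 3 F q) {d d' : G} (hd : d ∈ A)
    (hd' : d' ∈ B) (o : orderOf d = q + 1) (o' : orderOf d' = q + 1) (h : d * d' = d' * d) :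
    ∃ Ψ, Good hq Ψ A B := by
  have := hq.finite
  have iA : Function.Injective (θ.toMonoidHom.comp
      ((Subgroup.inclusion (le_sup_left : A ≤ A ⊔ B)).comp e.toMonoidHom)) :=
    θ.injective.comp ((Subgroup.inclusion_injective le_sup_left).comp e.injective)
  have iB : Function.Injective (θ.toMonoidHom.comp
      ((Subgroup.inclusion (le_sup_right : B ≤ A ⊔ B)).comp e'.toMonoidHom)) :=
    θ.injective.comp ((Subgroup.inclusion_injective le_sup_right).comp e'.injective)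
  obtain ⟨v, hv, fv⟩ := exists_fixed hq h4 iA
  obtain ⟨w, hw, fw⟩ := exists_fixed hq h4 iB
  replace fv : ∀ x (hx : x ∈ A), ac (θ ⟨x, Subgroup.mem_sup_left hx⟩) v = v := fun x hx => by
    simpa [Subgroup.inclusion] using fv (e.symm ⟨x, hx⟩)
  replace fw : ∀ x (hx : x ∈ B), ac (θ ⟨x, Subgroup.mem_sup_right hx⟩) w = w := fun x hx => by
    simpa [Subgroup.inclusion] using fw (e'.symm ⟨x, hx⟩)
  have q0 : ((q + 1 : ℕ) : F) ≠ 0 := by
    have : (q : F) ^ 2 = 0 := by
      have := Fintype.ofFinite F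
      rw [← Nat.cast_pow, ← hq.card, Nat.card_eq_fintype_card, Nat.cast_card_eq_zero]
    simp [pow_eq_zero_iff two_ne_zero |>.1 this]
  have key : ∀ x : ↥(A ⊔ B), orderOf x.1 = q + 1 → θ x ^ (q + 1) = 1 ∧ θ x ≠ 1 := fun x o => by
    rw [Subgroup.orderOf_coe, ← θ.orderOf_eq] at o
    exact ⟨o ▸ pow_orderOf_eq_one _, fun e => by simp [e] at o; omega⟩
  have k := key ⟨d, Subgroup.mem_sup_left hd⟩ o
  have k' := key ⟨d', Subgroup.mem_sup_right hd'⟩ o'
  have vw : hB σ w v = 0 := by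
    by_contra ne
    obtain ⟨c, hc⟩ := fix_unique hq hw (fw d' hd') (w := ac (θ ⟨d, Subgroup.mem_sup_left hd⟩) w) (by
      rw [← ac_mul, ← map_mul, show (⟨d', Subgroup.mem_sup_right hd'⟩ *
        ⟨d, Subgroup.mem_sup_left hd⟩ : ↥(A ⊔ B)) = ⟨d, Subgroup.mem_sup_left hd⟩ *
        ⟨d', Subgroup.mem_sup_right hd'⟩ from Subtype.ext h.symm, map_mul, ac_mul, fw d' hd'])
      q0 k'.1 k'.2
    have := hB_ac hq (θ ⟨d, Subgroup.mem_sup_left hd⟩) v w
    rw [fv d hd, hc, hB_smul_right, mul_eq_right₀ fun e => ne (perp_symm hq e)] at this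
    rw [this, one_smul] at hc
    obtain ⟨l, rfl⟩ := fix_unique hq hv (fv d hd) hc q0 k.1 k.2
    have l0 : l ≠ 0 := by rintro rfl; simp at hw
    have all : ∀ x (hx : x ∈ A ⊔ B), ac (θ ⟨x, hx⟩) v = v := fun x hx => by
      obtain ⟨y, hy, rfl⟩ := sup_le (c := ((Stb v).comap θ.toMonoidHom).map (A ⊔ B).subtype)
        (fun x hx => ⟨⟨x, Subgroup.mem_sup_left hx⟩, fv x hx, rfl⟩)
        (fun x hx => ⟨⟨x, Subgroup.mem_sup_right hx⟩,
          smul_right_injective _ l0 (by simpa using fw x hx), rfl⟩) hx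
      exact hy
    obtain ⟨g, -, e1⟩ := Un.trans hq (s := Set.univ) ⟨hv, by simp⟩ (i := 0) (j := 1) trivial trivial
      (by simp)
    obtain ⟨g', -, e2⟩ := Un.trans hq (s := Set.univ) (un_ee (a := (1 : Fin 3)) trivial) (i := 0)
      (j := 1) trivial trivial (by simp)
    have := all _ (θ.symm (g * g' * g⁻¹)).2
    rw [Subtype.coe_eta, θ.apply_symm_apply, ac_mul, ac_mul, ← e1, ac_inv_ac, e2] at this
    have := congrFun (congrArg (ac g⁻¹) this) 0
    simp [ac_inv_ac] at this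
  obtain ⟨g, -, rfl, rfl⟩ := frame2 hq (s := Set.univ) (a := 0) (b := 2) (c := 1) trivial trivial
    trivial (by simp) (by simp) (by simp) ⟨hw, by simp⟩ ⟨hv, by simp⟩ vw
  let Ψ : SU 3 F q →* G :=
    (A ⊔ B).subtype.comp (θ.symm.toMonoidHom.comp (MulAut.conj g).toMonoidHom)
  have key : ∀ {C : Subgroup G} (hC : C ≤ A ⊔ B) (e : SU 2 F q ≃* C) (j : SU 2 F q →* SU 3 F q)
      (k : Fin 3), (∀ x, ac x (ee k) = ee k → x ∈ j.range) →
      (∀ x (hx : x ∈ C), ac (θ ⟨x, hC hx⟩) (ac g (ee k)) = ac g (ee k)) → j.range.map Ψ = C :=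
    fun {C} hC e j k h1 h2 => by
      have : Finite (j.range.map Ψ) := by
        rw [MonoidHom.map_range]
        exact Finite.of_surjective _ (MonoidHom.rangeRestrict_surjective _)
      refine (Subgroup.eq_of_le_of_card_ge (H := C) (K := j.range.map Ψ)
        (fun x hx => ⟨g⁻¹ * θ ⟨x, hC hx⟩ * g, h1 _ (by
          rw [ac_mul, ac_mul, h2 x hx, ac_inv_ac]), by simp [Ψ, mul_assoc]⟩) ?_).symm
      rw [MonoidHom.map_range, ← Nat.card_congr e.toEquiv]
      exact Nat.card_le_card_of_surjective _ (MonoidHom.rangeRestrict_surjective _)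
  refine ⟨Ψ, good_of_range hq e e' (key le_sup_left e _ 2 (fun x hx => ?_) fv)
    (key le_sup_right e' _ 0 (fun x hx => ?_) fw)⟩
  · rw [range_j1]
    intro k hk
    fin_cases k <;> simp at hk
    exact hx
  · rw [range_j2]
    intro k hk
    fin_cases k <;> simp at hk
    exact hx

end Cfsg.Agent.H12.Ph
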