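import Mathlib
import Cfsg.Agent.H12.Ph5

/-!
# Simple connectivity of the graph of unit vectors in dimension at least five
-/

set_option autoImplicit false

namespace Cfsg.Agent.H12.Ph

open Matrix H11

variable {F : Type*} [Field F] {σ : F →+* F} {q n : ℕ}

theorem exists_perp_of_three (hq : QConj σ q) {J : Set (Fin n)} {f g k : Fin n → F} (hf : Un σ J f)
    (hg : Un σ J g) (hk : Un σ J k) (fg : hB σ f g = 0) (fk : hB σ f k = 0) (gk : hB σ g k = 0)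
    (w : Fin n → F) : ∃ p, Un σ J p ∧ hB σ w p = 0 ∧ ∃ α β γ : F, p = α • f + β • g + γ • k := by
  by_cases h1 : hB σ w g = 0
  · exact ⟨g, hg, h1, 0, 1, 0, by simp⟩
  by_cases h2 : hB σ w k = 0
  · exact ⟨k, hk, h2, 0, 0, 1, by simp⟩
  obtain ⟨a, b, e⟩ := exists_aniso hq (v := hB σ w g • f - hB σ w f • g)
    (w := hB σ w k • f - hB σ w f • k) (by simp [hf.1, fk, gk, perp_symm hq fg, h1, h2])
  refine ⟨_, ⟨e, fun i hi => by simp [hf.2 i hi, hg.2 i hi, hk.2 i hi]⟩, by simp [mul_comm],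
    a * hB σ w g + b * hB σ w k, -(a * hB σ w f), -(b * hB σ w f), ?_⟩
  module

theorem frame3 (hq : QConj σ q) {J : Set (Fin n)} {a b c z : Fin n} (h : Four J a b c z)
    {x y w : Fin n → F} (hx : Un σ J x) (hy : Un σ J y) (hw : Un σ J w) (xy : hB σ x y = 0)
    (xw : hB σ x w = 0) (yw : hB σ y w = 0) :
    ∃ g ∈ Blk F q J, ac g (ee a) = x ∧ ac g (ee b) = y ∧ ac g (ee c) = w := by
  obtain ⟨g, hg, rfl, rfl⟩ := frame2 hq h.ha h.hb h.hc h.ab h.ac h.bc hx hy xy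
  obtain ⟨g', hg', e⟩ := (((hw.ac hq (inv_mem hg)).diff (a := a) (by
    rw [← hB_ee (σ := σ) a (ac g⁻¹ w), ← hB_ac hq g, ac_ac_inv, xw])).diff (a := b) (by
    rw [← hB_ee (σ := σ) b (ac g⁻¹ w), ← hB_ac hq g, ac_ac_inv, yw])).trans hq (i := c) (j := z)
    ⟨⟨h.hc, h.ac.symm⟩, h.bc.symm⟩ ⟨⟨h.hz, h.az.symm⟩, h.bz.symm⟩ h.cz
  refine ⟨g * g', mul_mem hg (Blk_mono (Set.sdiff_subset.trans Set.sdiff_subset) hg'), ?_, ?_, ?_⟩
  · rw [ac_mul, hg' a (by simp)]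
  · rw [ac_mul, hg' b (by simp)]
  · rw [ac_mul, e, ac_ac_inv]

theorem Four.perp1 {J : Set (Fin n)} {a b c z : Fin n} (h : Four J a b c z) (hq : QConj σ q)
    (w : Fin n → F) : ∃ p, Un σ J p ∧ hB σ (ee a) p = 0 ∧ hB σ w p = 0 := by
  obtain ⟨p, hp, e, α, β, γ, rfl⟩ := exists_perp_of_three hq (un_ee h.hb) (un_ee h.hc) (un_ee h.hz)
    (by simp [hB_ee, h.bc]) (by simp [hB_ee, h.bz]) (by simp [hB_ee, h.cz]) w
  exact ⟨_, hp, by simp [hB_ee, h.ab, h.ac, h.az], e⟩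

theorem Four.Blk_sup {J : Set (Fin n)} {a b c z : Fin n} (h : Four J a b c z) (hq : QConj σ q) :
    Blk F q J ≤ Blk F q (J \ {a}) ⊔ Blk F q {a, b} := fun g hg => by
  have sub : ({a, b} : Set (Fin n)) ⊆ J := by
    rintro k (rfl | rfl)
    exacts [h.ha, h.hb]
  obtain ⟨p, hp, e1, e2⟩ := h.perp1 hq (Ph.ac g (ee a))
  obtain ⟨x, hx, l, hl, rfl⟩ := exists_hl hq h.ha h.hb h.hc h.ab h.ac h.bc hp (adj_of_perp e1)
  have m1 : x * l ∈ Blk F q J := mul_mem (Blk_mono Set.sdiff_subset hx) (Blk_mono sub hl)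
  obtain ⟨x', hx', l', hl', e⟩ := exists_hl hq h.ha h.hb h.hc h.ab h.ac h.bc
    (((un_ee h.ha).ac hq hg).ac hq (inv_mem m1)) (adj_of_perp (by
      rw [← hB_ac hq (x * l), ac_ac_inv, perp_symm hq e2]))
  have m2 : x' * l' ∈ Blk F q J := mul_mem (Blk_mono Set.sdiff_subset hx') (Blk_mono sub hl')
  have m3 := mem_Blk_diff (a := a) (mul_mem (inv_mem m2) (mul_mem (inv_mem m1) hg)) (by
    rw [ac_mul, ac_mul, ← e, ac_inv_ac])
  have : g = x * l * (x' * l') * ((x' * l')⁻¹ * ((x * l)⁻¹ * g)) := by group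
  rw [this]
  exact mul_mem (mul_mem (Subgroup.mul_mem_sup hx hl) (Subgroup.mul_mem_sup hx' hl'))
    (Subgroup.mem_sup_left m3)

theorem exists_sep {J : Set (Fin n)} {r r' : Fin n → F} (hq : QConj σ q) (hr : ∀ k ∉ J, r k = 0)
    (hr' : ∀ k ∉ J, r' k = 0) (h : ∀ c : F, r ≠ c • r') :
    ∃ s, (∀ k ∉ J, s k = 0) ∧ hB σ r' s = 0 ∧ hB σ r s ≠ 0 := by
  by_cases r0 : r' = 0
  · obtain ⟨k, hk⟩ := Function.ne_iff.1 (h 0)
    have hk : r k ≠ 0 := by simpa using hk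
    exact ⟨ee k, fun l hl => Pi.single_eq_of_ne (fun e : l = k => hk (hr k (e ▸ hl))) _,
      by simp [r0], by simpa [hB_ee' hq] using hk⟩
  obtain ⟨k, hk⟩ := Function.ne_iff.1 r0
  have hk : r' k ≠ 0 := by simpa using hk
  obtain ⟨l, hl⟩ := Function.ne_iff.1 (h (r k / r' k))
  have kJ : k ∈ J := by_contra fun e => hk (hr' k e)
  have lJ : l ∈ J := by_contra fun e => hl (by simp [hr l e, hr' l e])
  refine ⟨σ (r' k) • ee l - σ (r' l) • ee k, fun i hi => ?_, by simp [hB_ee' hq, mul_comm], ?_⟩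
  · simp [Pi.single_eq_of_ne (fun e : i = k => hi (e ▸ kJ)),
      Pi.single_eq_of_ne (fun e : i = l => hi (e ▸ lJ))]
  · simp only [hB_sub_right, hB_smul_right, hB_ee' hq, ← map_mul, ← map_sub, map_ne_zero]
    intro e
    apply hl
    simp only [Pi.smul_apply, smul_eq_mul]
    field_simp
    linear_combination e

variable {E : Type*} [Group E]

/-- The data of the induction step in dimension at least five. -/
structure Step5 (σ : F →+* F) (q : ℕ) (π : E →* SU n F q) (J : Set (Fin n)) (a b c d z : Fin n)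
    (A A' : Subgroup E) : Prop extends Four J a b c z where
  hd : d ∈ J
  ad : a ≠ d
  bd : b ≠ d
  cd : c ≠ d
  dz : d ≠ z
  hq : QConj σ q
  mA : A.map π = Blk F q (J \ {a})
  mA' : A'.map π = Blk F q (J \ {z})
  iA : ∀ x ∈ A, π x = 1 → x = 1
  cA : ∀ x ∈ A', π x ∈ Blk F q (J \ {a}) → x ∈ A
  com : ∀ l ∈ A', π l ∈ Blk F q {a, b} → ∀ y ∈ A, π y ∈ Blk F q ((J \ {a}) \ {b}) → Commute l y
  com3 : ∀ l ∈ A', π l ∈ Blk F q {a, b, c} → ∀ y ∈ A, π y ∈ Blk F q (((J \ {a}) \ {b}) \ {c}) →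
    Commute l y

variable {π : E →* SU n F q} {J : Set (Fin n)} {a b c d z : Fin n} {A A' : Subgroup E}

namespace Step5

theorem memA (h : Step5 σ q π J a b c d z A A') {x : E} (hx : x ∈ A) : π x ∈ Blk F q (J \ {a}) :=
  h.mA ▸ Subgroup.mem_map_of_mem _ hx

theorem memA' (h : Step5 σ q π J a b c d z A A') {x : E} (hx : x ∈ A') : π x ∈ Blk F q (J \ {z}) :=
  h.mA' ▸ Subgroup.mem_map_of_mem _ hx

theorem ptA (h : Step5 σ q π J a b c d z A A') {x : E} (hx : x ∈ A) (g : E) :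
    pt π a (g * x) = pt π a g := by
  rw [pt_mul, pt, h.memA hx a (by simp), pt]

theorem mul_right (h : Step5 σ q π J a b c d z A A') {g x : E} (hg : Edge σ π a b A A' g)
    (hx : x ∈ A) : Edge σ π a b A A' (g * x) := by
  obtain ⟨h1, u, hu, l, hl, hl', y, hy, rfl⟩ := hg
  exact ⟨by rwa [h.ptA hx], u, hu, l, hl, hl', y * x, mul_mem hy hx, mul_assoc _ _ _⟩

theorem inv (h : Step5 σ q π J a b c d z A A') {g : E} (hg : Edge σ π a b A A' g) :
    Edge σ π a b A A' g⁻¹ := by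
  obtain ⟨h1, u, hu, l, hl, hl', y, hy, e⟩ := hg
  refine ⟨?_, y⁻¹, inv_mem hy, l⁻¹, inv_mem hl, by rw [map_inv]; exact inv_mem hl', u⁻¹, inv_mem hu,
    by rw [e]; group⟩
  rw [← adj_ac h.hq (π g), pt, map_inv, ac_ac_inv]
  exact h1.symm

theorem mul_left (h : Step5 σ q π J a b c d z A A') {g x : E} (hg : Edge σ π a b A A' g)
    (hx : x ∈ A) : Edge σ π a b A A' (x * g) := by
  simpa using h.inv (h.mul_right (h.inv hg) (inv_mem hx))

theorem sub_ab (h : Step5 σ q π J a b c d z A A') : ({a, b} : Set (Fin n)) ⊆ J \ {z} := by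
  rintro k (rfl | rfl)
  exacts [⟨h.ha, h.az⟩, ⟨h.hb, h.bz⟩]

theorem mem (h : Step5 σ q π J a b c d z A A') {g : E} (hg : Edge σ π a b A A' g) :
    π g ∈ Blk F q J := by
  obtain ⟨-, u, hu, l, hl, -, y, hy, rfl⟩ := hg
  rw [map_mul, map_mul]
  exact mul_mem (mul_mem (Blk_mono Set.sdiff_subset (h.memA hu))
    (Blk_mono Set.sdiff_subset (h.memA' hl))) (Blk_mono Set.sdiff_subset (h.memA hy))

theorem ex (h : Step5 σ q π J a b c d z A A') {w : Fin n → F} (hw : Un σ J w) (e : Adj σ (ee a) w) :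
    ∃ g, Edge σ π a b A A' g ∧ pt π a g = w := by
  obtain ⟨x, hx, l, hl, e1⟩ := exists_hl h.hq h.ha h.hb h.hc h.ab h.ac h.bc hw e
  have hl' := Blk_mono h.sub_ab hl
  rw [← h.mA] at hx
  rw [← h.mA'] at hl'
  obtain ⟨x, hx, rfl⟩ := hx
  obtain ⟨l, hl', rfl⟩ := hl'
  have e2 : pt π a (x * l) = w := by rw [pt, map_mul, e1]
  exact ⟨x * l, ⟨e2 ▸ e, x, hx, l, hl', hl, 1, one_mem _, (mul_one _).symm⟩, e2⟩

theorem ex' (h : Step5 σ q π J a b c d z A A') {w : Fin n → F} (hw : Un σ (J \ {z}) w)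
    (e : Adj σ (ee a) w) : ∃ g ∈ A', Edge σ π a b A A' g ∧ pt π a g = w := by
  obtain ⟨x, hx, l, hl, e1⟩ := exists_hl h.hq (s := J \ {z}) ⟨h.ha, h.az⟩ ⟨h.hb, h.bz⟩
    ⟨h.hc, h.cz⟩ h.ab h.ac h.bc hw e
  have hl' := Blk_mono h.sub_ab hl
  have hx' := Blk_mono Set.sdiff_subset hx
  rw [← h.mA'] at hl' hx'
  obtain ⟨x, hx', rfl⟩ := hx'
  obtain ⟨l, hl', rfl⟩ := hl'
  have e2 : pt π a (x * l) = w := by rw [pt, map_mul, e1]
  exact ⟨x * l, mul_mem hx' hl', ⟨e2 ▸ e, x, h.cA x hx' (Blk_mono (Set.sdiff_subset_sdiff_left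
    Set.sdiff_subset) hx), l, hl', hl, 1, one_mem _, (mul_one _).symm⟩, e2⟩

theorem cA' (h : Step5 σ q π J a b c d z A A') {x : E} (hx : x ∈ A') (e : pt π a x = ee a) : x ∈ A :=
  h.cA x hx (mem_Blk_diff (Blk_mono Set.sdiff_subset (h.memA' hx)) e)

theorem uniq (h : Step5 σ q π J a b c d z A A') {g g' : E} (hg : Edge σ π a b A A' g)
    (hg' : Edge σ π a b A A' g') (e : pt π a g = pt π a g') : g⁻¹ * g' ∈ A := by
  have hq := h.hq
  obtain ⟨-, x, hx, l, hl, hl', y, hy, rfl⟩ := hg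
  obtain ⟨h1, x', hx', m, hm, hm', y', hy', rfl⟩ := hg'
  rw [h.ptA hy'] at h1
  rw [h.ptA hy, h.ptA hy'] at e
  obtain ⟨k, hk⟩ : ∃ k, k = x⁻¹ * x' := ⟨_, rfl⟩
  have kA : k ∈ A := hk ▸ mul_mem (inv_mem hx) hx'
  have e1 : ac (π k) (pt π a m) = pt π a l := by
    rw [← pt_mul, hk, mul_assoc, pt_inv_mul, ← e, pt_mul, ac_inv_ac]
  have sp : ∀ l, π l ∈ Blk F q {a, b} → pt π a l = pt π a l a • ee a + pt π a l b • ee b :=
    fun l hl => funext fun i => by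
      by_cases ia : i = a
      · simp [ia, Pi.single_eq_of_ne h.ab]
      by_cases ib : i = b
      · simp [ib, Pi.single_eq_of_ne h.ab.symm]
      rw [pt, Blk_apply hq hl (by simp [ia, ib])]
      simp [Pi.single_eq_of_ne ia, Pi.single_eq_of_ne ib]
  have b0 : pt π a m b ≠ 0 := fun e0 => h1 (by
    have u := ((un_ee (σ := σ) (s := {a, b}) (a := a) (by simp)).ac hq hm').1
    change hB σ (pt π a m) (pt π a m) = 1 at u
    rw [sp m hm', e0] at u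
    rw [hB_ee, hB_ee' hq, pt_mul, Blk_apply hq (h.memA hx') (by simp)]
    simpa [hB_ee, mul_comm] using u)
  have e2 : pt π a l a = pt π a m a := by rw [← e1, Blk_apply hq (h.memA kA) (by simp)]
  have e3 : ac (π k) (ee b) = ((pt π a m b)⁻¹ * pt π a l b) • ee b := by
    rw [sp m hm', sp l hl', map_add, map_smul, map_smul, h.memA kA a (by simp), e2,
      add_right_inj] at e1
    rw [mul_smul, ← e1, smul_smul, inv_mul_cancel₀ b0, one_smul]
  generalize (pt π a m b)⁻¹ * pt π a l b = μ at e3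
  have hμ : σ μ * μ = 1 := by
    have := hB_ac hq (π k) (ee b) (ee b)
    simpa [e3, hB_ee, mul_comm] using this
  obtain ⟨d, hd, e4⟩ := exists_diag hq h.bc hμ
  have hd' : d ∈ Blk F q (J \ {z}) := Blk_mono (by
    rintro k (rfl | rfl)
    exacts [⟨h.hb, h.bz⟩, ⟨h.hc, h.cz⟩]) hd
  rw [← h.mA'] at hd'
  obtain ⟨d, dA', rfl⟩ := hd'
  have dA := h.cA' dA' (hd a (by simp [h.ab, h.ac]))
  have zA : d⁻¹ * k ∈ A := mul_mem (inv_mem dA) kA
  have c := h.com m hm hm' _ zA (mem_Blk_diff (h.memA zA) (by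
    rw [map_mul, map_inv, ac_mul, e3, ← e4, ac_inv_ac]))
  have e5 : l⁻¹ * k * m = l⁻¹ * d * m * (d⁻¹ * k) := by
    rw [mul_assoc _ m, c.eq]; group
  have e6 : l⁻¹ * d * m ∈ A := h.cA' (mul_mem (mul_mem (inv_mem hl) dA') hm) (by
    rw [← h.ptA zA, ← e5, mul_assoc, pt_inv_mul, pt_mul, e1, pt, ac_inv_ac])
  have e7 : (x * l * y)⁻¹ * (x' * m * y') = y⁻¹ * (l⁻¹ * k * m) * y' := by rw [hk]; group
  rw [e7, e5]
  exact mul_mem (mul_mem (inv_mem hy) (mul_mem e6 zA)) hy'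

theorem tri (h : Step5 σ q π J a b c d z A A') {s t : E} (hs : Edge σ π a b A A' s)
    (ht : Edge σ π a b A A' t) (e : Adj σ (ee a) (pt π a (s * t))) {p : Fin n → F} (hp : Un σ J p)
    (p1 : hB σ (ee a) p = 0) (p2 : hB σ (pt π a s) p = 0) (p3 : hB σ (pt π a (s * t)) p = 0) :
    Edge σ π a b A A' (s * t) := by
  have hq := h.hq
  obtain ⟨x, hx, e1⟩ := (hp.diff (by rwa [hB_ee] at p1)).trans hq (i := z) (j := b)
    ⟨h.hz, h.az.symm⟩ ⟨h.hb, h.ab.symm⟩ h.bz.symm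
  rw [← h.mA] at hx
  obtain ⟨x, hx, rfl⟩ := hx
  have key : ∀ g, π g ∈ Blk F q J → hB σ (pt π a g) p = 0 → Un σ (J \ {z}) (pt π a (x⁻¹ * g)) :=
    fun g hg e => (((un_ee h.ha).ac hq (g := π (x⁻¹ * g)) (by
      rw [map_mul, map_inv]
      exact mul_mem (inv_mem (Blk_mono Set.sdiff_subset (h.memA hx))) hg)).diff (by
        change pt π a (x⁻¹ * g) z = 0
        rw [← hB_ee (σ := σ) z (pt π a (x⁻¹ * g)), ← hB_ac hq (π x), pt_inv_mul, ac_ac_inv, e1,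
          perp_symm hq e]))
  have hs' := h.mul_left hs (inv_mem hx)
  obtain ⟨t1, m1, a1, b1⟩ := h.ex' (key s (h.mem hs) p2) hs'.1
  have k1 := h.uniq a1 hs' b1
  have ht' := h.mul_left ht k1
  have u3 := key (s * t) (by rw [map_mul]; exact mul_mem (h.mem hs) (h.mem ht)) p3
  obtain ⟨t2, m2, a2, b2⟩ := h.ex' (w := pt π a (t1⁻¹ * (x⁻¹ * s) * t)) (by
    rw [mul_assoc, mul_assoc, pt_inv_mul]
    exact u3.ac hq (inv_mem (h.memA' m1))) ht'.1
  have k2 := h.uniq a2 ht' b2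
  obtain ⟨t3, m3, a3, b3⟩ := h.ex' u3 (by
    rw [pt_inv_mul, ← adj_ac hq (π x), ac_ac_inv, h.memA hx a (by simp)]; exact e)
  have k3 : t3⁻¹ * (t1 * t2) ∈ A := h.cA' (mul_mem (inv_mem m3) (mul_mem m1 m2)) (by
    rw [pt_inv_mul, pt_mul, b2, ← pt_mul, show t1 * (t1⁻¹ * (x⁻¹ * s) * t) = x⁻¹ * (s * t) by group,
      ← b3, pt, ac_inv_ac])
  have := h.mul_left (h.mul_right (h.mul_right a3 k3) k2) hx
  convert this using 1
  group


theorem flat_of_perp (h : Step5 σ q π J a b c d z A A') {x y w p : Fin n → F} (e : Adj σ x w)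
    (hp : Un σ J p) (p1 : hB σ x p = 0) (p2 : hB σ y p = 0) (p3 : hB σ w p = 0) :
    Flat σ π J a b A A' x y w := by
  rintro g1 g2 g3 m rfl rfl rfl h1 h2
  have hq := h.hq
  have e1 : g1⁻¹ * g3 = g1⁻¹ * g2 * (g2⁻¹ * g3) := by group
  rw [e1]
  refine h.tri h1 h2 ?_ (hp.ac hq (inv_mem m)) ?_ ?_ ?_
  · rw [← e1, pt_inv_mul, ← adj_ac hq (π g1), ac_ac_inv]; exact e
  · rw [← hB_ac hq (π g1), ac_ac_inv]; exact p1
  · rw [pt_inv_mul, hB_ac hq, p2]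
  · rw [← e1, pt_inv_mul, hB_ac hq, p3]

theorem ex2 (h : Step5 σ q π J a b c d z A A') {g : E} (m : π g ∈ Blk F q J) {u : Fin n → F}
    (hu : Un σ J u) (e : Adj σ (pt π a g) u) :
    ∃ g0, π g0 ∈ Blk F q J ∧ pt π a g0 = u ∧ Edge σ π a b A A' (g⁻¹ * g0) := by
  obtain ⟨s, hs, e1⟩ := h.ex (hu.ac h.hq (inv_mem m)) (by
    rw [← adj_ac h.hq (π g), ac_ac_inv]; exact e)
  exact ⟨g * s, by rw [map_mul]; exact mul_mem m (h.mem hs), by rw [pt_mul, e1, ac_ac_inv],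
    by rwa [inv_mul_cancel_left]⟩

theorem cone (h : Step5 σ q π J a b c d z A A') {x y w u : Fin n → F} (hu : Un σ J u)
    (e : Adj σ x u) (f1 : Flat σ π J a b A A' u x y) (f2 : Flat σ π J a b A A' u y w)
    (f3 : Flat σ π J a b A A' x u w) : Flat σ π J a b A A' x y w := by
  rintro g1 g2 g3 m rfl rfl rfl h1 h2
  obtain ⟨g0, m0, rfl, s⟩ := h.ex2 m hu e
  exact f3 _ _ _ m rfl rfl rfl s (f2 _ _ _ m0 rfl rfl rfl
    (f1 _ _ _ m0 rfl rfl rfl (by simpa using h.inv s) h1) h2)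

theorem perp (h : Step5 σ q π J a b c d z A A') {x y : Fin n → F} (hx : Un σ J x) (hy : Un σ J y)
    (e : Adj σ x y) (w : Fin n → F) :
    ∃ p, Un σ J p ∧ hB σ x p = 0 ∧ hB σ y p = 0 ∧ hB σ w p = 0 := by
  have hq := h.hq
  obtain ⟨f, hf, xf, α, β, -, -, rfl⟩ := hx.exists_orth hq hy e
  obtain ⟨g, hg, rfl, rfl⟩ := frame2 hq h.ha h.hb h.hc h.ab h.ac h.bc hx hf xf
  obtain ⟨p, hp, e, γ, δ, ε, rfl⟩ := exists_perp_of_three hq ((un_ee h.hc).ac hq hg)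
    ((un_ee h.hd).ac hq hg) ((un_ee h.hz).ac hq hg) (by simp [hB_ac hq, hB_ee, h.cd])
    (by simp [hB_ac hq, hB_ee, h.cz]) (by simp [hB_ac hq, hB_ee, h.dz]) w
  exact ⟨_, hp, by simp [hB_ac hq, hB_ee, h.ac, h.ad, h.az],
    by simp [hB_ac hq, hB_ee, h.ac, h.ad, h.az, h.bc, h.bd, h.bz], e⟩

theorem flat (h : Step5 σ q π J a b c d z A A') {x y w : Fin n → F} (hx : Un σ J x)
    (hw : Un σ J w) (xw : Adj σ x w) : Flat σ π J a b A A' x y w := by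
  obtain ⟨p, hp, p1, p2, p3⟩ := h.perp hx hw xw y
  exact h.flat_of_perp xw hp p1 p3 p2

theorem edge2 (h : Step5 σ q π J a b c d z A A') {s t : E} (hs : Edge σ π a b A A' s)
    (ht : Edge σ π a b A A' t) (e : Adj σ (ee a) (pt π a (s * t))) : Edge σ π a b A A' (s * t) := by
  have m : π (s * t) ∈ Blk F q J := by rw [map_mul]; exact mul_mem (h.mem hs) (h.mem ht)
  simpa using h.flat (un_ee h.ha) ((un_ee h.ha).ac h.hq m) e 1 s (s * t) (by simp [one_mem])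
    (by simp [pt, ac_one]) rfl rfl (by simpa using hs) (by simpa using ht)

theorem adj_mul (h : Step5 σ q π J a b c d z A A') (g g' : E) :
    Adj σ (ee a) (pt π a (g⁻¹ * g')) ↔ Adj σ (pt π a g) (pt π a g') := by
  rw [pt_inv_mul, ← adj_ac h.hq (π g), ac_ac_inv]
  rfl

theorem quad0 (h : Step5 σ q π J a b c d z A A') {s t u : E} (hs : Edge σ π a b A A' s)
    (ht : Edge σ π a b A A' t) (hu : Edge σ π a b A A' u) (p1 : pt π a s = ee d)
    (p2 : Un σ {a, b, c} (pt π a (s * t)))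
    (p3 : Un σ (((J \ {a}) \ {b}) \ {c}) (pt π a (s * t * u))) : Edge σ π a b A A' (s * t * u) := by
  have hq := h.hq
  obtain ⟨t0, m0, a0, b0⟩ := h.ex' (un_ee (a := d) ⟨h.hd, h.dz⟩) (adj_of_perp (by simp [hB_ee, h.ad]))
  obtain ⟨g, hg, e1⟩ := p2.trans hq (i := a) (j := b) (by simp) (by simp) h.ab
  obtain ⟨k, hk, e2⟩ := p3.trans hq (i := d) (j := z) ⟨⟨⟨h.hd, h.ad.symm⟩, h.bd.symm⟩, h.cd.symm⟩
    ⟨⟨⟨h.hz, h.az.symm⟩, h.bz.symm⟩, h.cz.symm⟩ h.dz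
  have hg' : g ∈ Blk F q (J \ {z}) := Blk_mono (by
    rintro i (rfl | rfl | rfl)
    exacts [⟨h.ha, h.az⟩, ⟨h.hb, h.bz⟩, ⟨h.hc, h.cz⟩]) hg
  have hk' := Blk_mono (Set.sdiff_subset.trans Set.sdiff_subset) hk
  rw [← h.mA'] at hg'
  rw [← h.mA] at hk'
  obtain ⟨g, gA, rfl⟩ := hg'
  obtain ⟨k, kA, rfl⟩ := hk'
  have c := h.com3 g gA hg k kA hk
  have gd : ac (π g) (ee d) = ee d := hg d (by simp [h.ad.symm, h.bd.symm, h.cd.symm])
  have k1 : t0⁻¹ * g * t0 ∈ A := h.cA' (mul_mem (mul_mem (inv_mem m0) gA) m0) (by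
    rw [mul_assoc, pt_inv_mul, pt_mul, b0, gd, ← b0, pt, ac_inv_ac])
  have k2 := h.uniq a0 hs (b0.trans p1.symm)
  have k3 := h.uniq (h.mul_left (h.inv a0) k1) (h.mul_left ht k2) (by
    rw [show t0⁻¹ * g * t0 * t0⁻¹ = t0⁻¹ * g by group, mul_assoc, pt_inv_mul, pt_inv_mul, ← e1, pt])
  have k4 := h.uniq (h.mul_left a0 kA) (h.mul_left hu k3) (by
    rw [show (t0⁻¹ * g * t0 * t0⁻¹)⁻¹ * (t0⁻¹ * s * t) * u = g⁻¹ * (s * t * u) by group, pt_inv_mul,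
      ← e2, pt_mul, b0, ← ac_mul, ← map_inv, ← map_mul, c.inv_left.eq, map_mul, ac_mul, map_inv,
      ← gd, ac_inv_ac, gd])
  have := h.mul_right (h.mul_left (h.mul_right a0 k1) kA) k4
  convert this using 1
  calc s * t * u = g * k * k⁻¹ * g⁻¹ * (s * t * u) := by group
    _ = k * g * k⁻¹ * g⁻¹ * (s * t * u) := by rw [c.eq]
    _ = _ := by group

theorem quad (h : Step5 σ q π J a b c d z A A') {s t u : E} (hs : Edge σ π a b A A' s)
    (ht : Edge σ π a b A A' t) (hu : Edge σ π a b A A' u) (p1 : hB σ (ee a) (pt π a s) = 0)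
    (p2 : hB σ (pt π a s) (pt π a (s * t)) = 0)
    (p3 : hB σ (pt π a (s * t)) (pt π a (s * t * u)) = 0)
    (p4 : hB σ (ee a) (pt π a (s * t * u)) = 0) : Edge σ π a b A A' (s * t * u) := by
  have hq := h.hq
  have m1 := h.mem hs
  have m2 : π (s * t) ∈ Blk F q J := by rw [map_mul]; exact mul_mem m1 (h.mem ht)
  have m3 : π (s * t * u) ∈ Blk F q J := by rw [map_mul]; exact mul_mem m2 (h.mem hu)
  have u0 := un_ee (σ := σ) h.ha
  have u1 : Un σ J (pt π a s) := u0.ac hq m1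
  have u2 : Un σ J (pt π a (s * t)) := u0.ac hq m2
  have u3 : Un σ J (pt π a (s * t * u)) := u0.ac hq m3
  by_cases c1 : Adj σ (ee a) (pt π a (s * t))
  · exact h.edge2 (h.edge2 hs ht c1) hu (adj_of_perp p4)
  by_cases c2 : Adj σ (pt π a s) (pt π a (s * t * u))
  · rw [mul_assoc] at *
    exact h.edge2 hs (h.edge2 ht hu (by rwa [← h.adj_mul, inv_mul_cancel_left] at c2))
      (adj_of_perp p4)
  rw [Adj, not_not] at c1 c2
  have cone : ∀ p, Un σ J p → hB σ (ee a) p = 0 → hB σ (pt π a s) p = 0 →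
      hB σ (pt π a (s * t)) p = 0 → hB σ (pt π a (s * t * u)) p = 0 →
      Edge σ π a b A A' (s * t * u) := fun p hp q0 q1 q2 q3 => by
    obtain ⟨g, hg, rfl⟩ := h.ex hp (adj_of_perp q0)
    have s1 := h.edge2 (h.inv hg) hs ((h.adj_mul _ _).2 (adj_of_perp (perp_symm hq q1)))
    have s2 := h.edge2 s1 ht (by
      rw [mul_assoc]; exact (h.adj_mul _ _).2 (adj_of_perp (perp_symm hq q2)))
    have s3 := h.edge2 s2 hu (by
      rw [mul_assoc, mul_assoc, ← mul_assoc s]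
      exact (h.adj_mul _ _).2 (adj_of_perp (perp_symm hq q3)))
    have e : g * (g⁻¹ * s * t * u) = s * t * u := by group
    exact e ▸ h.edge2 hg s3 (e.symm ▸ adj_of_perp p4)
  obtain ⟨x, hx⟩ : ∃ x, x = pt π a s := ⟨_, rfl⟩
  obtain ⟨μ, hμ⟩ : ∃ μ, μ = hB σ (ee a) (pt π a (s * t)) := ⟨_, rfl⟩
  obtain ⟨ν, hν⟩ : ∃ ν, ν = hB σ x (pt π a (s * t * u)) := ⟨_, rfl⟩
  obtain ⟨r, hr⟩ : ∃ r, r = pt π a (s * t) - μ • ee a := ⟨_, rfl⟩
  obtain ⟨r', hr'⟩ : ∃ r', r' = pt π a (s * t * u) - ν • x := ⟨_, rfl⟩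
  rw [← hx] at p1 p2 c2 u1 cone
  have xa := perp_symm hq p1
  have ar : hB σ (ee a) r = 0 := by simp [hr, ← hμ, u0.1]
  have xr : hB σ x r = 0 := by simp [hr, p2, xa]
  have ar' : hB σ (ee a) r' = 0 := by simp [hr', p4, p1]
  have xr' : hB σ x r' = 0 := by simp [hr', ← hν, u1.1]
  have rr : hB σ r r = 0 := by
    rw [← hB_conj hq (ee a), ← hμ] at c1
    simp [hr, ← hμ, u0.1, u2.1, ← hB_conj hq (ee a) (pt π a (s * t)), mul_comm (σ μ), c1]
  have rr' : hB σ r r' = 0 := by simp [hr, hr', p3, p4, p1, perp_symm hq p2]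
  have sr : ∀ k ∉ J, r k = 0 := fun k hk => by simp [hr, u2.2 k hk, u0.2 k hk]
  have sr' : ∀ k ∉ J, r' k = 0 := fun k hk => by simp [hr', u3.2 k hk, u1.2 k hk]
  have e2 : pt π a (s * t) = μ • ee a + r := by rw [hr, add_sub_cancel]
  have e3 : pt π a (s * t * u) = ν • x + r' := by rw [hr', add_sub_cancel]
  by_cases dep : ∃ c : F, r = c • r'
  · obtain ⟨c, rfl⟩ := dep
    obtain ⟨p, hp, q0, q1, q2⟩ := h.perp u0 u1 (adj_of_perp p1) r'
    exact cone p hp q0 q1 (by simp [e2, q0, q2]) (by simp [e3, q1, q2])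
  push Not at dep
  obtain ⟨v, sv, v1, v2⟩ := exists_sep hq sr sr' dep
  obtain ⟨w, hw⟩ : ∃ w, w = v - hB σ (ee a) v • ee a - hB σ x v • x := ⟨_, rfl⟩
  have aw : hB σ (ee a) w = 0 := by simp [hw, u0.1, p1]
  have xw : hB σ x w = 0 := by simp [hw, u1.1, xa]
  have rw' : hB σ r' w = 0 := by simp [hw, v1, perp_symm hq ar', perp_symm hq xr']
  have rw0 : hB σ r w ≠ 0 := by simpa [hw, perp_symm hq ar, perp_symm hq xr] using v2
  have sw : ∀ k ∉ J, w k = 0 := fun k hk => by simp [hw, sv k hk, u0.2 k hk, u1.2 k hk]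
  obtain ⟨α, β, ff⟩ := exists_aniso hq rw0
  have fr : hB σ (α • r + β • w) r ≠ 0 := by
    have : β ≠ 0 := by rintro rfl; simp [rr] at ff
    simpa [rr, this] using fun e => rw0 (perp_symm hq e)
  have af : hB σ (ee a) (α • r + β • w) = 0 := by simp [ar, aw]
  have xf : hB σ x (α • r + β • w) = 0 := by simp [xr, xw]
  have rf : hB σ r' (α • r + β • w) = 0 := by simp [perp_symm hq rr', rw']
  have sf : ∀ k ∉ J, (α • r + β • w) k = 0 := fun k hk => by simp [sr k hk, sw k hk]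
  generalize α • r + β • w = f at ff fr af xf rf sf
  obtain ⟨γ, γ0, -, gg⟩ := exists_unit_smul hq (v := r - hB σ f r • f) (by
    simpa [rr, ff, hB_conj hq, fr] using fun e => fr (perp_symm hq e))
  obtain ⟨f', hf'⟩ : ∃ f', f' = γ⁻¹ • (r - hB σ f r • f) := ⟨_, rfl⟩
  have e4 : r = hB σ f r • f + γ • f' := by rw [hf', smul_smul, mul_inv_cancel₀ γ0]; simp
  obtain ⟨g, hg, g1, g2, g3⟩ := frame3 hq (J := J \ {a}) (a := b) (b := c) (c := d) (z := z)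
    ⟨⟨h.hb, h.ab.symm⟩, ⟨h.hc, h.ac.symm⟩, ⟨h.hd, h.ad.symm⟩, ⟨h.hz, h.az.symm⟩, h.bc, h.bd, h.bz,
      h.cd, h.cz, h.dz⟩ (x := f) (y := f') (w := x) (Un.diff ⟨ff, sf⟩ (by rwa [hB_ee] at af))
    (Un.diff ⟨hf' ▸ gg, fun k hk => by simp [hf', sr k hk, sf k hk]⟩ (by
      rw [← hB_ee (σ := σ) a f']; simp [hf', ar, af])) (u1.diff (by rwa [hB_ee] at p1))
    (by simp [hf', ff]) (perp_symm hq xf) (perp_symm hq (by simp [hf', xr, xf]))
  have ga : ac g (ee a) = ee a := hg a (by simp)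
  rw [← h.mA] at hg
  obtain ⟨g, gA, rfl⟩ := hg
  have u3' := u3.ac hq (inv_mem (Blk_mono Set.sdiff_subset (h.memA gA)))
  have co : ∀ i v, ac (π g)⁻¹ v i = hB σ (ac (π g) (ee i)) v := fun i v => by
    rw [← hB_ee (σ := σ) i (ac _ v), ← hB_ac hq (π g), ac_ac_inv]
  have := h.quad0 (h.mul_left hs (inv_mem gA)) ht hu (by rw [pt_inv_mul, ← hx, ← g3, ac_inv_ac]) (by
    rw [mul_assoc, pt_inv_mul]
    refine ⟨by rw [hB_ac hq, u2.1], fun k hk => ?_⟩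
    simp only [Set.mem_insert_iff, Set.mem_singleton_iff, not_or] at hk
    rw [e2, e4, ← ga, ← g1, ← g2]
    simp [ac_inv_ac, hk.1, hk.2.1, hk.2.2]) (by
    rw [mul_assoc, mul_assoc, ← mul_assoc s, pt_inv_mul]
    refine ((u3'.diff ?_).diff ?_).diff ?_
    · rw [co, ga, p4]
    · rw [co, g1, e3]; simp [perp_symm hq xf, perp_symm hq rf]
    · rw [co, g2, e3]; simp [hf', perp_symm hq xf, perp_symm hq rf, perp_symm hq xr, rr'])
  convert h.mul_left this gA using 1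
  group

theorem three (h : Step5 σ q π J a b c d z A A') {s t u : E} (hs : Edge σ π a b A A' s)
    (ht : Edge σ π a b A A' t) (hu : Edge σ π a b A A' u) :
    ∃ s' t', Edge σ π a b A A' s' ∧ Edge σ π a b A A' t' ∧ s * t * u = s' * t' := by
  have hq := h.hq
  have m1 := h.mem hs
  have m2 : π (s * t) ∈ Blk F q J := by rw [map_mul]; exact mul_mem m1 (h.mem ht)
  have m3 : π (s * t * u) ∈ Blk F q J := by rw [map_mul]; exact mul_mem m2 (h.mem hu)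
  have u0 := un_ee (σ := σ) h.ha
  have u1 : Un σ J (pt π a s) := u0.ac hq m1
  have u2 : Un σ J (pt π a (s * t)) := u0.ac hq m2
  have u3 : Un σ J (pt π a (s * t * u)) := u0.ac hq m3
  obtain ⟨p, hp, p0, p1, p2⟩ := h.perp u0 u1 hs.1 (pt π a (s * t))
  obtain ⟨g, hg, rfl⟩ := h.ex hp (adj_of_perp p0)
  have s1 := h.edge2 (h.inv hg) hs ((h.adj_mul _ _).2 (adj_of_perp (perp_symm hq p1)))
  have s2 := h.edge2 s1 ht (by
    rw [mul_assoc]; exact (h.adj_mul _ _).2 (adj_of_perp (perp_symm hq p2)))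
  obtain ⟨w, hw, w2, w3, w0⟩ := h.perp u2 u3 (by
    rw [← h.adj_mul, inv_mul_cancel_left]; exact hu.1) (ee a)
  obtain ⟨k, -, rfl, hk⟩ := h.ex2 m2 hw (adj_of_perp w2)
  have e1 : g * (g⁻¹ * s * t) = s * t := by group
  have e2 : s * t * ((s * t)⁻¹ * k) = k := by group
  have s3 := h.quad hg s2 hk p0 (by rw [e1]; exact perp_symm hq p2) (by rw [e1, e2]; exact w2)
    (by rw [e1, e2]; exact w0)
  rw [e1, e2] at s3
  have e3 : ((s * t)⁻¹ * k)⁻¹ * u = k⁻¹ * (s * t * u) := by group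
  have s4 := h.edge2 (h.inv hk) hu (by
    rw [e3]; exact (h.adj_mul _ _).2 (adj_of_perp (perp_symm hq w3)))
  exact ⟨k, _, s3, s4, by group⟩

theorem inj (h : Step5 σ q π J a b c d z A A') : ∀ g ∈ A ⊔ A', π g = 1 → g = 1 := by
  have hq := h.hq
  let K : Subgroup E :=
    { carrier := {g | ∃ s t, Edge σ π a b A A' s ∧ Edge σ π a b A A' t ∧ g = s * t}
      one_mem' := by
        obtain ⟨s, hs, -⟩ := h.ex (un_ee h.hb) (adj_of_perp (by simp [hB_ee, Pi.single_eq_of_ne h.ab]))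
        exact ⟨s, s⁻¹, hs, h.inv hs, by group⟩
      mul_mem' := by
        rintro _ _ ⟨s, t, hs, ht, rfl⟩ ⟨u, v, hu, hv, rfl⟩
        obtain ⟨s', t', hs', ht', e⟩ := h.three hs ht hu
        obtain ⟨s'', t'', hs'', ht'', e'⟩ := h.three hs' ht' hv
        exact ⟨s'', t'', hs'', ht'', by rw [← mul_assoc, e, e']⟩
      inv_mem' := by
        rintro _ ⟨s, t, hs, ht, rfl⟩
        exact ⟨_, _, h.inv ht, h.inv hs, _root_.mul_inv_rev _ _⟩ }
  have hK : A ⊔ A' ≤ K := by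
    refine sup_le (fun x hx => ?_) fun x hx => ?_
    · obtain ⟨s, t, hs, ht, e⟩ := K.one_mem
      exact ⟨s, t * x, hs, h.mul_right ht hx, by rw [← mul_assoc, ← e, one_mul]⟩
    · have u0 := un_ee (σ := σ) (s := J \ {z}) ⟨h.ha, h.az⟩
      obtain ⟨p, hp, a1, a2⟩ := Four.perp1 (J := J \ {z}) (a := a) (b := b) (c := c) (z := d)
        ⟨⟨h.ha, h.az⟩, ⟨h.hb, h.bz⟩, ⟨h.hc, h.cz⟩, ⟨h.hd, h.dz⟩, h.ab, h.ac, h.ad, h.bc, h.bd, h.cd⟩
        hq (pt π a x)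
      obtain ⟨s, ms, hs, rfl⟩ := h.ex' hp (adj_of_perp a1)
      have hx' : s⁻¹ * x ∈ A' := mul_mem (inv_mem ms) hx
      obtain ⟨t, mt, ht, e'⟩ := h.ex' (w := pt π a (s⁻¹ * x)) (u0.ac hq (h.memA' hx'))
        ((h.adj_mul _ _).2 (adj_of_perp (perp_symm hq a2)))
      exact ⟨s, _, hs, h.mul_right ht (h.cA' (mul_mem (inv_mem mt) hx') (by
        rw [pt_inv_mul, ← e', pt, ac_inv_ac])), by group⟩
  intro g hg e
  obtain ⟨s, t, hs, ht, rfl⟩ := hK hg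
  have e1 : π t⁻¹ = π s := by
    rw [map_mul] at e
    rw [map_inv, eq_comm, eq_inv_iff_mul_eq_one, e]
  have := h.iA _ (h.uniq (h.inv ht) hs (by rw [pt, pt, e1])) (by
    rw [map_mul, map_inv, e1, inv_mul_cancel])
  rw [inv_inv] at this
  rw [mul_eq_one_comm, this]

end Step5

end Cfsg.Agent.H12.Ph
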