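import Mathlib
import Cfsg.Agent.H12.Ph6

/-!
# `SU (n + 1)` as the universal completion of the Phan amalgam of level three
-/

set_option autoImplicit false

namespace Cfsg.Agent.H12.Ph

open Matrix H11 H19.St
open scoped MatrixGroups

variable {F : Type*} [Field F] {σ : F →+* F} {q n m : ℕ}

section Ind

variable {E : Type*} [Group E]

theorem map_Kv3 (hq : QConj σ q) {π : E →* SU (n + 1) F q} {Γ : ℕ → Subgroup E}
    (h1 : ∀ i, i + 1 < n → (Γ i).map π = Blk F q (Iv _ i (i + 2))) (d a : ℕ) (h : a + d + 1 < n) :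
    (Kv Γ a (a + d)).map π = Blk F q (Iv _ a (a + d + 2)) := by
  refine le_antisymm (Subgroup.map_le_iff_le_comap.2 (Kv_le fun i h2 h3 =>
    Subgroup.map_le_iff_le_comap.1 ((h1 i (by omega)).le.trans (Blk_mono fun k hk => ?_)))) ?_
  · simp only [Iv, Set.mem_ofPred_eq] at hk ⊢
    omega
  induction d generalizing a with
  | zero => exact (h1 a h).ge.trans (Subgroup.map_mono (le_Kv Γ le_rfl le_rfl))
  | succ d ih =>
    refine (Four.Blk_sup (a := ⟨a, by omega⟩) (b := ⟨a + 1, by omega⟩) (c := ⟨a + 2, by omega⟩)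
      (z := ⟨a + 3, by omega⟩) ⟨by simp [Iv]; omega, by simp [Iv]; omega, by simp [Iv],
        by simp [Iv], by simp, by simp, by simp, by simp, by simp, by simp⟩ hq).trans
      (sup_le ?_ ?_)
    · refine le_trans (Blk_mono fun k hk => ?_) ((ih (a + 1) (by omega)).trans
        (Subgroup.map_mono (Kv_mono Γ (by omega) (by omega))))
      simp only [Iv, Set.mem_sdiff, Set.mem_ofPred_eq, Set.mem_singleton_iff, Fin.ext_iff] at hk ⊢
      omega
    · refine le_trans (Blk_mono fun k hk => ?_) ((h1 a (by omega)).ge.trans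
        (Subgroup.map_mono (le_Kv Γ le_rfl (by omega))))
      simp only [Iv, Set.mem_insert_iff, Set.mem_ofPred_eq, Set.mem_singleton_iff, Fin.ext_iff] at hk ⊢
      omega

theorem inj_Kv3 (hq : QConj σ q) {π : E →* SU (n + 1) F q} {Γ : ℕ → Subgroup E}
    (h1 : ∀ i, i + 1 < n → (Γ i).map π = Blk F q (Iv _ i (i + 2)))
    (h2 : ∀ i, i + 2 < n → ∀ g ∈ Γ i ⊔ Γ (i + 1), π g = 1 → g = 1)
    (h3 : ∀ i j, i + 2 ≤ j → j + 1 < n → ∀ x ∈ Γ i, π x ∈ Blk F q (Iv _ i (i + 1)) →
      ∀ y ∈ Γ j, Commute x y)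
    (h4 : ∀ i, i + 3 < n → ∀ x ∈ Γ i, ∀ y ∈ Γ (i + 2), π y ∈ Blk F q (Iv _ (i + 3) (i + 4)) →
      Commute x y)
    (h5 : ∀ i j, i + 3 ≤ j → j + 1 < n → ∀ x ∈ Γ i, ∀ y ∈ Γ j, Commute x y) (d a : ℕ)
    (h : a + d + 2 < n) : ∀ g ∈ Kv Γ a (a + d + 1), π g = 1 → g = 1 := by
  induction d generalizing a with
  | zero =>
    refine fun g hg => h2 a h g (Kv_le (fun i a1 a2 => ?_) hg)
    obtain rfl | rfl : i = a ∨ i = a + 1 := by omega
    exacts [le_sup_left, le_sup_right]
  | succ d ih =>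
    have i1 := ih a (by omega)
    have i2 := ih (a + 1) (by omega)
    have k1 : ∀ l ∈ Kv Γ a (a + d + 1), π l ∈ Blk F q (Iv _ a (a + 2)) → l ∈ Γ a := fun l hl e =>
      mem_of_inj (le_Kv Γ le_rfl (by omega)) i1 hl (by rwa [h1 a (by omega)])
    have k2 : ∀ (l : E) b d, (∀ i, b ≤ i → i ≤ b + d → ∀ z ∈ Γ i, Commute l z) →
        ∀ y ∈ Kv Γ b (b + d), Commute l y := fun l b d h y hy =>
      (Subgroup.mem_centralizer_singleton_iff.1 (Kv_le (X := Subgroup.centralizer {l})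
        (fun i a1 a2 z hz => Subgroup.mem_centralizer_singleton_iff.2 (h i a1 a2 z hz).eq.symm) hy)).symm
    have S : Step5 σ q π (Iv _ a (a + d + 4)) ⟨a, by omega⟩ ⟨a + 1, by omega⟩ ⟨a + 2, by omega⟩
        ⟨a + 3, by omega⟩ ⟨a + d + 4, by omega⟩ (Kv Γ (a + 1) (a + 1 + d + 1))
        (Kv Γ a (a + d + 1)) :=
      { ha := by simp [Iv]; omega
        hb := by simp [Iv]; omega
        hc := by simp [Iv]; omega
        hz := by simp [Iv]; omega
        hd := by simp [Iv]; omega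
        ab := by simp
        ac := by simp
        az := by simp; omega
        bc := by simp
        bz := by simp; omega
        cz := by simp; omega
        ad := by simp
        bd := by simp
        cd := by simp
        dz := by simp; omega
        hq := hq
        mA := (map_Kv3 hq h1 (d + 1) (a + 1) (by omega)).trans (congrArg _ (Set.ext fun k => by
          simp only [Iv, Set.mem_sdiff, Set.mem_ofPred_eq, Set.mem_singleton_iff, Fin.ext_iff]
          omega))
        mA' := (map_Kv3 hq h1 (d + 1) a (by omega)).trans (congrArg _ (Set.ext fun k => by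
          simp only [Iv, Set.mem_sdiff, Set.mem_ofPred_eq, Set.mem_singleton_iff, Fin.ext_iff]
          omega))
        iA := i2
        cA := fun x hx e => by
          refine Kv_mono Γ le_rfl (by omega) (mem_of_inj (L := Kv Γ (a + 1) (a + 1 + d))
            (Kv_mono Γ (by omega) (by omega)) i1 hx ?_)
          have e' := (map_Kv3 hq h1 (d + 1) a (by omega)).le (Subgroup.mem_map_of_mem π hx)
          rw [map_Kv3 hq h1 d (a + 1) (by omega)]
          intro k hk
          by_cases c : (k : ℕ) = a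
          · exact e k fun h => h.2 (Fin.ext c)
          · refine e' k fun h => hk ?_
            simp only [Iv, Set.mem_ofPred_eq] at h ⊢
            omega
        com := fun l hl el y hy ey => by
          have el' : π l ∈ Blk F q (Iv _ a (a + 1)) := Blk_mono (fun k hk => by
            simp only [Iv, Set.mem_insert_iff, Set.mem_ofPred_eq, Set.mem_singleton_iff,
              Fin.ext_iff] at hk ⊢
            omega) el
          refine k2 l (a + 2) d (fun i a1 a2 => h3 a i a1 (by omega) l (k1 l hl (Blk_mono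
            (fun k hk => And.intro hk.1 (hk.2.trans (by omega))) el')) el') y
            (mem_of_inj (Kv_mono Γ (by omega) (by omega)) i2 hy ?_)
          rw [map_Kv3 hq h1 d (a + 2) (by omega)]
          refine Blk_mono (fun k hk => ?_) ey
          simp only [Iv, Set.mem_sdiff, Set.mem_ofPred_eq, Set.mem_singleton_iff,
            Fin.ext_iff] at hk ⊢
          omega
        com3 := fun l hl el y hy ey => by
          have hl' := k1 l hl (Blk_mono (fun k hk => by
            simp only [Iv, Set.mem_insert_iff, Set.mem_ofPred_eq, Set.mem_singleton_iff,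
              Fin.ext_iff] at hk ⊢
            omega) el)
          have ey' : π y ∈ Blk F q (Iv _ (a + 3) (a + d + 4)) := Blk_mono (fun k hk => by
            simp only [Iv, Set.mem_sdiff, Set.mem_ofPred_eq, Set.mem_singleton_iff,
              Fin.ext_iff] at hk ⊢
            omega) ey
          cases d with
          | zero =>
            exact h4 a h l hl' y (mem_of_inj (le_Kv Γ (by omega) (by omega)) i2 hy (by
              rw [h1 _ h]
              exact Blk_mono (fun k hk => And.intro (le_trans (by omega) hk.1) hk.2) ey')) ey'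
          | succ d =>
            refine k2 l (a + 3) d (fun i a1 a2 => h5 a i a1 (by omega) l hl') y
              (mem_of_inj (Kv_mono Γ (by omega) (by omega)) i2 hy ?_)
            rw [map_Kv3 hq h1 d (a + 3) (by omega)]
            exact Blk_mono (fun k hk => And.intro hk.1 (hk.2.trans (by omega))) ey' }
    refine fun g hg => S.inj g (Kv_le (fun i a1 a2 => ?_) hg)
    by_cases c : i = a
    · exact le_sup_of_le_right (le_Kv Γ (by omega) (by omega))
    · exact le_sup_of_le_left (le_Kv Γ (by omega) (by omega))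

end Ind

/-- The upper block in `SU 4`. -/
def k1 (hq : QConj σ q) : SU 3 F q →* SU 4 F q := emb hq (sh_inj 3 0 (by omega))

/-- The lower block in `SU 4`. -/
def k2 (hq : QConj σ q) : SU 3 F q →* SU 4 F q := emb hq (sh_inj 3 1 (by omega))

theorem exists_hom_SU3 (hq : QConj σ q) (hn : 3 ≤ n) {G : Type*} [Group G]
    (Ψ : ℕ → SU 3 F q →* G)
    (h1 : ∀ i, i + 2 < n → ∃ Φ : SU 4 F q →* G, Φ.comp (k1 hq) = Ψ i ∧ Φ.comp (k2 hq) = Ψ (i + 1))
    (h3 : ∀ i j, i + 2 ≤ j → j + 1 < n → ∀ x y, Commute (Ψ i (j1 hq x)) (Ψ j y))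
    (h4 : ∀ i, i + 3 < n → ∀ x y, Commute (Ψ i x) (Ψ (i + 2) (j2 hq y)))
    (h5 : ∀ i j, i + 3 ≤ j → j + 1 < n → ∀ x y, Commute (Ψ i x) (Ψ j y)) :
    ∃ f : SU (n + 1) F q →* G, ∀ i, i + 1 < n → (Ψ i).range ≤ f.range := by
  have : ∀ i, ∃ Γ : Subgroup (G × SU (n + 1) F q), ∀ h : i + 1 < n,
      Γ = ((Ψ i).prod (emb hq (sh_inj (n := n + 1) 3 i (by omega)))).range := fun i => by
    by_cases h : i + 1 < n
    · exact ⟨((Ψ i).prod (emb hq (sh_inj (n := n + 1) 3 i (by omega)))).range, fun _ => rfl⟩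
    · exact ⟨⊥, fun h' => (h h').elim⟩
  choose Γ hΓ using this
  have a1 : ∀ i, i + 1 < n → (Γ i).map (MonoidHom.snd _ _) = Blk F q (Iv _ i (i + 2)) :=
    fun i hi => by rw [hΓ i hi, MonoidHom.map_range, MonoidHom.snd_comp_prod, range_emb, range_sh]
  have a0 : ∀ i, i + 1 < n → ∀ x ∈ Γ i, x.2 ∈ Blk F q (Iv _ i (i + 2)) := fun i hi x hx =>
    (a1 i hi).le (Subgroup.mem_map_of_mem _ hx)
  have dj : ∀ a b c d, b < c → Disjoint (Iv (n + 1) a b) (Iv (n + 1) c d) := fun a b c d h =>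
    Set.disjoint_left.2 fun k a b => by have := a.2; have := b.1; omega
  obtain ⟨d, rfl⟩ : ∃ d, n = d + 3 := ⟨n - 3, by omega⟩
  have a2 := inj_Kv3 hq a1 (fun i hi => by
    obtain ⟨Φ, e1, e2⟩ := h1 i hi
    have : Γ i ⊔ Γ (i + 1) ≤ (Φ.prod (emb hq (sh_inj (n := d + 3 + 1) 4 i (by omega)))).range := by
      rw [hΓ i (by omega), hΓ _ hi]
      refine sup_le ?_ ?_ <;> rintro _ ⟨x, rfl⟩
      · exact ⟨k1 hq x, Prod.ext (DFunLike.congr_fun e1 x) (emb_emb hq (sh_inj _ _ _) _ _ (fun _ => by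
          simp [sh]) x)⟩
      · exact ⟨k2 hq x, Prod.ext (DFunLike.congr_fun e2 x) (emb_emb hq (sh_inj _ _ _) _ _ (fun _ => by
          simp [sh, add_assoc]) x)⟩
    intro g hg e
    obtain ⟨x, rfl⟩ := this hg
    rw [(injective_iff_map_eq_one _).1 (emb_inj hq (sh_inj _ _ _)) x e, map_one])
    (fun i j hij hj x hx e y hy => by
      have c := Blk_commute hq (dj _ _ _ _ (by omega)) e (a0 j hj y hy)
      rw [hΓ i (by omega)] at hx
      rw [hΓ j hj] at hy
      obtain ⟨x, rfl⟩ := hx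
      obtain ⟨y, rfl⟩ := hy
      rw [← range_sh 1 i (by omega), ← range_emb hq (sh_inj _ _ _)] at e
      obtain ⟨z, e⟩ := e
      obtain rfl : j1 hq z = x := emb_inj hq (sh_inj 3 i (by omega))
        ((emb_emb hq _ _ _ (fun _ => by simp [sh]) z).trans e)
      exact Prod.ext (h3 i j hij hj z y) c)
    (fun i hi x hx y hy e => by
      have c := Blk_commute hq (dj _ _ _ _ (by omega)) (a0 i (by omega) x hx) e
      rw [hΓ i (by omega)] at hx
      rw [hΓ _ hi] at hy
      obtain ⟨x, rfl⟩ := hx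
      obtain ⟨y, rfl⟩ := hy
      rw [← range_sh 1 (i + 3) (by omega), ← range_emb hq (sh_inj _ _ _)] at e
      obtain ⟨z, e⟩ := e
      obtain rfl : j2 hq z = y := emb_inj hq (sh_inj 3 (i + 2) (by omega))
        ((emb_emb hq _ _ _ (fun _ => by simp [sh]; omega) z).trans e)
      exact Prod.ext (h4 i hi x z) c)
    (fun i j hij hj x hx y hy => by
      have c := Blk_commute hq (dj _ _ _ _ (by omega)) (a0 i (by omega) x hx) (a0 j hj y hy)
      rw [hΓ i (by omega)] at hx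
      rw [hΓ j hj] at hy
      obtain ⟨x, rfl⟩ := hx
      obtain ⟨y, rfl⟩ := hy
      exact Prod.ext (h5 i j hij hj x y) c) d 0 (by omega)
  obtain ⟨f, hf⟩ := RGD.exists_hom_of_graph _ ((map_Kv3 hq a1 (d + 1) 0 (by omega)).trans
    (eq_top_iff.2 fun g _ k hk => (hk ⟨Nat.zero_le _, by omega⟩).elim)) a2
  refine ⟨f, fun i hi => ?_⟩
  rintro _ ⟨x, rfl⟩
  exact ⟨_, hf _ (le_Kv Γ (Nat.zero_le i) (by omega) ((hΓ i hi).ge ⟨x, rfl⟩))⟩

theorem xx_pow' {K : Type*} [Field K] (t : K) (n : ℕ) : (xx t : SL(2, K)) ^ n = xx (n * t) := by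
  induction n with
  | zero => simp [rel_SL.x_zero]
  | succ n ih => rw [pow_succ, ih, ← rel_SL.x_add]; congr 1; push_cast; ring

theorem yy_pow' {K : Type*} [Field K] (t : K) (n : ℕ) : (yy t : SL(2, K)) ^ n = yy (n * t) := by
  induction n with
  | zero => simp [rel_SL.y_zero]
  | succ n ih => rw [pow_succ, ih, ← rel_SL.y_add]; congr 1; push_cast; ring

theorem sl2_hom_ext {K H : Type*} [Field K] [Group H] {k : ℕ} (hk : (k : K) = 0)
    {α β : SL(2, K) →* H} (h : ∀ g, ∃ c ∈ Subgroup.center H, (c ^ k = 1 → c = 1) ∧ β g = α g * c) :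
    α = β := by
  have key : ∀ g, g ^ k = 1 → α g = β g := fun g hg => by
    obtain ⟨c, hc, h1, e⟩ := h g
    have := congrArg (· ^ k) e
    simp only [← map_pow, hg, map_one] at this
    rw [Commute.mul_pow (Subgroup.mem_center_iff.1 hc _), ← map_pow, hg, map_one, one_mul] at this
    rw [e, h1 this.symm, mul_one]
  exact MonoidHom.ext (sl_induction (fun t => key _ (by rw [xx_pow', hk, zero_mul, rel_SL.x_zero]))
    (fun t => key _ (by rw [yy_pow', hk, zero_mul, rel_SL.y_zero]))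
    fun a b h h' => by rw [map_mul, map_mul, h, h'])

theorem aut_SL2' {K : Type*} [Field K] [Finite K] (α : MulAut SL(2, K)) :
    ∃ (M : GL (Fin 2) K) (τ : RingAut K), ∀ g, (α g).1 = M.1 * g.1.map τ * (M⁻¹).1 := by
  obtain ⟨M, τ, h⟩ := H10.aut_PSL2 (H10.autBar _ α)
  refine ⟨M, τ, fun g => ?_⟩
  obtain ⟨p, hp⟩ := CharP.exists K
  have hp' := CharP.char_is_prime K p
  have := sl2_hom_ext (CharP.cast_eq_zero K p) (α := α.toMonoidHom)
    (β := (H10.slDiag M * H10.slField τ : MulAut SL(2, K)).toMonoidHom) fun g => by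
      have hc := QuotientGroup.eq.1 (show (QuotientGroup.mk (α g) : PSL(2, K)) =
        QuotientGroup.mk ((H10.slDiag M * H10.slField τ : MulAut SL(2, K)) g) from
          DFunLike.congr_fun h (QuotientGroup.mk g))
      refine ⟨_, hc, fun e => ?_, by simp⟩
      rcases mem_center_iff.1 hc with c | c
      · exact c
      rw [c] at e ⊢
      rcases hp'.eq_two_or_odd' with rfl | ho
      · exact Subtype.ext (by ext i j; simp [CharTwo.neg_eq])
      · rwa [ho.neg_one_pow] at e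
  exact congrArg Subtype.val (DFunLike.congr_fun this g)

theorem aut_SU2' (hq : QConj σ q) (α : MulAut (SU 2 F q)) :
    ∃ (M : GL (Fin 2) F) (τ : F →+* F), ∀ g, (α g).1.1 * M.1 = M.1 * g.1.1.map τ := by
  have := hq.finite
  obtain ⟨K, R, e, -, he⟩ := exists_su2 hq
  obtain ⟨M, τ, h⟩ := aut_SL2' (e.trans (α.trans e.symm))
  obtain ⟨τ', hτ⟩ := exists_ext_aut K.subtype τ
  refine ⟨R * GeneralLinearGroup.map K.subtype M * (GeneralLinearGroup.map τ' R)⁻¹, τ', fun g => ?_⟩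
  obtain ⟨g, rfl⟩ := e.surjective g
  have e1 : α (e g) = e ((e.trans (α.trans e.symm)) g) := by simp
  have e2 : (g.1.map τ).map K.subtype = (g.1.map K.subtype).map τ' := by
    ext i k; exact (hτ _).symm
  have e3 : (M⁻¹).1.map K.subtype * M.1.map K.subtype = 1 := by
    rw [← Matrix.map_mul, Units.inv_mul]; simp
  have e4 : (R⁻¹).1.map τ' * R.1.map τ' = 1 := by
    rw [← Matrix.map_mul, Units.inv_mul]; simp
  rw [e1, he, he, h, ← map_inv, Units.val_mul, Units.val_mul]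
  change _ * (R.1 * M.1.map K.subtype * (R⁻¹).1.map τ') =
    R.1 * M.1.map K.subtype * (R⁻¹).1.map τ' * _
  simp only [Matrix.map_mul, e2, Matrix.mul_assoc]
  rw [← Matrix.mul_assoc (R⁻¹).1 R.1, Units.inv_mul, Matrix.one_mul,
    ← Matrix.mul_assoc ((M⁻¹).1.map _), e3, Matrix.one_mul, ← Matrix.mul_assoc ((R⁻¹).1.map _), e4,
    Matrix.one_mul]

theorem eq_cj' (hq : QConj σ q) (α : MulAut (SU 2 F q))
    (h : ∀ g : SU 2 F q, g.1.1 0 1 = 0 → (α g).1.1 0 1 = 0) :
    ∃ (l : F) (hl : ∀ k, σ (![l, 1] k) * ![l, 1] k = 1) (τ : F →+* F), ∀ g, α g = cj hq hl τ g := by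
  suffices ∃ (l : F) (τ : F →+* F), ∀ g, (α g).1.1 0 0 = τ (g.1.1 0 0) ∧
      (α g).1.1 0 1 = l * τ (g.1.1 0 1) by
    obtain ⟨l, τ, h⟩ := this
    obtain ⟨w, w0, w1⟩ := exists_su2_el hq (a := 0) (b := 1) (by simp)
    have hl : σ l * l = 1 := by simpa [h w, w0, w1] using (su2_entries hq (α w)).2.2
    refine ⟨l, fun k => by fin_cases k <;> simp [hl], τ, fun g => su2_ext hq ?_ ?_⟩
    · rw [cj_apply, (h g).1]
      simp only [cons_val_zero]
      linear_combination (-τ (g.1.1 0 0)) * hl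
    · simp [cj_apply, (h g).2]
  obtain ⟨M, τ, hM⟩ := aut_SU2' hq α
  obtain ⟨μ, hμ, hμ'⟩ := exists_mu hq
  obtain ⟨d, d0, d1⟩ := exists_su2_el hq (a := μ) (b := 0) (by simpa using hμ)
  have e : ∀ g i j, ((α g).1.1 * M.1) i j = (M.1 * g.1.1.map τ) i j := fun g i j => by rw [hM]
  simp only [Matrix.mul_apply, Fin.sum_univ_two, map_apply] at e
  have hd := h d d1
  have s := su2_entries hq d
  have s' := su2_entries hq (α d)
  have a := e d 0 0
  have b := e d 0 1
  have a' := e d 1 0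
  have b' := e d 1 1
  simp only [hd, d0, d1, s.1, s.2.1, s'.1, map_zero, neg_zero, mul_zero, zero_mul, add_zero,
    zero_add] at a b a' b'
  have ne : τ μ - τ (σ μ) ≠ 0 := fun e => hμ' (τ.injective (sub_eq_zero.1 e)).symm
  have c : M.1 0 0 * M.1 0 1 = 0 :=
    (mul_eq_zero.1 (by linear_combination M.1 0 0 * b - M.1 0 1 * a)).resolve_right ne
  have c' : M.1 1 0 * M.1 1 1 = 0 :=
    (mul_eq_zero.1 (by linear_combination M.1 1 0 * b' - M.1 1 1 * a')).resolve_right ne
  have dt := M.det_ne_zero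
  rw [det_fin_two] at dt
  by_cases m0 : M.1 0 0 = 0
  · have m1 : M.1 0 1 ≠ 0 := fun e => dt (by simp [m0, e])
    have m2 : M.1 1 0 ≠ 0 := fun e => dt (by simp [m0, e])
    have m3 := (mul_eq_zero.1 c').resolve_left m2
    refine ⟨-(M.1 0 1 / M.1 1 0), τ.comp σ, fun g => ⟨?_, ?_⟩⟩
    · have := e g 0 1
      rw [m0, m3, (su2_entries hq g).2.1] at this
      exact mul_right_cancel₀ m1 (by simpa [mul_comm] using this)
    · have := e g 0 0
      rw [m0, (su2_entries hq g).1, map_neg] at this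
      field_simp
      simp only [RingHom.comp_apply]
      linear_combination this
  · have m1 := (mul_eq_zero.1 c).resolve_left m0
    have m3 : M.1 1 1 ≠ 0 := fun e => dt (by simp [m1, e])
    have m2 := (mul_eq_zero.1 c').resolve_right m3
    refine ⟨M.1 0 0 / M.1 1 1, τ, fun g => ⟨?_, ?_⟩⟩
    · have := e g 0 0
      rw [m1, m2] at this
      exact mul_right_cancel₀ m0 (by simpa [mul_comm] using this)
    · have := e g 0 1
      rw [m1] at this
      field_simp
      linear_combination this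

variable {G : Type*} [Group G]

theorem Good.adjust' {hq : QConj σ q} {Ψ Ψ' : SU 3 F q →* G} {A B C : Subgroup G}
    (h : Good hq Ψ A B) (h' : Good hq Ψ' B C) (hc : ∀ x ∈ A, ∀ y ∈ C, x * y = y * x) :
    ∃ Ψ'', Good hq Ψ'' B C ∧ Ψ''.comp (j1 hq) = Ψ.comp (j2 hq) ∧ Ψ''.range = Ψ'.range := by
  let α : MulAut (SU 2 F q) := (MonoidHom.ofInjective h.i2).trans
    ((MulEquiv.subgroupCongr (h.r2.trans h'.r1.symm)).trans (MonoidHom.ofInjective h'.i1).symm)
  have hα : ∀ g, Ψ' (j1 hq (α g)) = Ψ (j2 hq g) := fun g =>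
    MonoidHom.apply_ofInjective_symm h'.i1 _
  obtain ⟨μ, hμ, hμ'⟩ := exists_mu hq
  have μ1 : σ μ ≠ 1 := fun e => hμ' (by rw [e, one_mul] at hμ; rw [e, hμ])
  have t1 : ∀ k, σ (![μ, σ μ, 1] k) * ![μ, σ μ, 1] k = 1 := fun k => by
    fin_cases k <;> simp [hμ, hq.invol, mul_comm μ]
  have t2 : ∀ k, σ (![1, σ μ, μ] k) * ![1, σ μ, μ] k = 1 := fun k => by
    fin_cases k <;> simp [hμ, hq.invol, mul_comm μ]
  obtain ⟨d, hd⟩ := exists_su hq (conj_mul_diagonal t1) (by simp [Fin.prod_univ_three, mul_comm μ, hμ])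
  obtain ⟨d', hd'⟩ := exists_su hq (conj_mul_diagonal t2) (by simp [Fin.prod_univ_three, hμ])
  have dA : Ψ d ∈ A := by
    obtain ⟨x, rfl⟩ : d ∈ (j1 hq).range := by
      rw [range_j1]
      intro k hk
      fin_cases k <;> simp [ac_apply, hd] at hk ⊢
    exact h.r1 ▸ ⟨x, rfl⟩
  have dC : Ψ' d' ∈ C := by
    obtain ⟨x, rfl⟩ : d' ∈ (j2 hq).range := by
      rw [range_j2]
      intro k hk
      fin_cases k <;> simp [ac_apply, hd'] at hk ⊢
    exact h'.r2 ▸ ⟨x, rfl⟩
  have k1 : ∀ g : SU 2 F q, Commute (Ψ d) (Ψ (j2 hq g)) ↔ g.1.1 0 1 = 0 := fun g => by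
    rw [commute_iff_eq, ← map_mul, conj_eq_cj hq t1 hd, map_mul, mul_left_inj, j2, cj_emb]
    refine h.i2.eq_iff.trans ⟨fun e => ?_, fun e => su2_ext hq ?_ ?_⟩
    · have := cj_apply hq (fun k => t1 (sh 2 1 (by omega) k)) (RingHom.id F) g 0 1
      rw [e] at this
      have : (σ μ - 1) * g.1.1 0 1 = 0 := by simp [sh] at this; linear_combination -this
      simpa [sub_eq_zero, μ1] using this
    · rw [cj_apply]
      simp [sh, hq.invol]
      linear_combination g.1.1 0 0 * hμ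
    · simp [cj_apply, e]
  obtain ⟨l, hl, τ, e⟩ := eq_cj' hq α fun g hg => by
    obtain ⟨g', hg'⟩ := α.surjective (cj hq (fun k => t2 (sh 2 0 (by omega) k)) (RingHom.id F) (α g))
    refine su2_diag_of_comm hq hμ' (h := α g') ?_ ?_ ?_
    · simp [hg', cj_apply, sh]
    · simp [hg', cj_apply, sh, hq.invol, mul_comm]
    · rw [← map_mul, ← map_mul, su2_comm hq hg ((k1 g').1 ?_)]
      have c := (k1 g).2 hg
      rw [← hα] at c ⊢
      have e : Ψ' (j1 hq (α g')) = Ψ' d' * Ψ' (j1 hq (α g)) * (Ψ' d')⁻¹ := by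
        rw [← map_mul, conj_eq_cj hq t2 hd', map_mul, mul_inv_cancel_right, hg', j1, cj_emb]
      have c' : Commute (Ψ d) (Ψ' d') := hc _ dA _ dC
      rw [e]
      exact (c'.mul_right c).mul_right c'.inv_right
  have t3 : ∀ k, σ (![l, 1, 1] k) * ![l, 1, 1] k = 1 := fun k => by
    fin_cases k <;> simp
    simpa using hl 0
  have e1 : (Ψ'.comp (cj hq t3 τ)).comp (j1 hq) = Ψ.comp (j2 hq) := MonoidHom.ext fun g => by
    simp only [MonoidHom.comp_apply, ← hα, e]
    rw [j1, cj_emb]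
    rfl
  have e2 : (Ψ'.comp (cj hq t3 τ)).comp (j2 hq) =
      (Ψ'.comp (j2 hq)).comp (cj hq (fun k => t3 (sh 2 1 (by omega) k)) τ) :=
    MonoidHom.ext fun g => by simp only [MonoidHom.comp_apply, j2, cj_emb]
  refine ⟨_, ⟨e1 ▸ h.r2, ?_, e1 ▸ h.i2, e2 ▸ h'.i2.comp (cj_bij hq _ τ).1⟩, e1, ?_⟩
  · rw [e2, MonoidHom.range_comp, MonoidHom.range_eq_top.2 (cj_bij hq _ τ).2,
      ← MonoidHom.range_eq_map, h'.r2]
  · rw [MonoidHom.range_comp, MonoidHom.range_eq_top.2 (cj_bij hq _ τ).2, ← MonoidHom.range_eq_map]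

theorem exists_chain (hq : QConj σ q) (U V : ℕ → Subgroup G)
    (a1 : ∀ i, i + 2 < n → ∀ x ∈ U i, ∀ y ∈ U (i + 2), x * y = y * x)
    (a2 : ∀ i, i + 1 < n → ∃ Ψ, Good hq Ψ (U i) (U (i + 1)) ∧ Ψ.range = V i) :
    ∃ Ψ : ℕ → SU 3 F q →* G, (∀ i, i + 1 < n → Good hq (Ψ i) (U i) (U (i + 1)) ∧ (Ψ i).range = V i) ∧
      ∀ i, i + 2 < n → (Ψ (i + 1)).comp (j1 hq) = (Ψ i).comp (j2 hq) := by
  classical
  let Ψ : ℕ → SU 3 F q →* G := fun i => Nat.rec (if h : 1 < n then (a2 0 h).choose else 1) (fun i Ψ =>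
    if h : ∃ Ψ', (Good hq Ψ' (U (i + 1)) (U (i + 2)) ∧ Ψ'.range = V (i + 1)) ∧
      Ψ'.comp (j1 hq) = Ψ.comp (j2 hq) then h.choose else 1) i
  have a3 : ∀ i, i + 2 < n → Good hq (Ψ i) (U i) (U (i + 1)) →
      (Good hq (Ψ (i + 1)) (U (i + 1)) (U (i + 2)) ∧ (Ψ (i + 1)).range = V (i + 1)) ∧
        (Ψ (i + 1)).comp (j1 hq) = (Ψ i).comp (j2 hq) := fun i hi h => by
    obtain ⟨Ψ', h', r⟩ := a2 (i + 1) hi
    have : ∃ Ψ', (Good hq Ψ' (U (i + 1)) (U (i + 2)) ∧ Ψ'.range = V (i + 1)) ∧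
        Ψ'.comp (j1 hq) = (Ψ i).comp (j2 hq) := by
      obtain ⟨Ψ'', b1, b2, b3⟩ := h.adjust' h' (a1 i hi)
      exact ⟨Ψ'', ⟨b1, b3.trans r⟩, b2⟩
    have e : Ψ (i + 1) = this.choose := dif_pos this
    exact e ▸ this.choose_spec
  have a4 : ∀ i, i + 1 < n → Good hq (Ψ i) (U i) (U (i + 1)) ∧ (Ψ i).range = V i := fun i => by
    induction i with
    | zero =>
      intro h
      have e : Ψ 0 = (a2 0 h).choose := dif_pos h
      exact e ▸ (a2 0 h).choose_spec
    | succ i ih => exact fun h => (a3 i h (ih (by omega)).1).1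
  exact ⟨Ψ, a4, fun i hi => (a3 i hi (a4 i (by omega)).1).2⟩

theorem good_of_std' (hq : QConj σ q) {V A B : Subgroup G} (e : SU 2 F q ≃* A)
    (e' : SU 2 F q ≃* B) (h : IsStandardUnitaryPair V A B F q) :
    ∃ Ψ, Good hq Ψ A B ∧ Ψ.range = V := by
  obtain ⟨Ψ, h0, h1, h2⟩ : ∃ Ψ : SU 3 F q →* G, Ψ.range = V ∧ (suBlock 3 F q {0, 1}).map Ψ = A ∧
      (suBlock 3 F q {1, 2}).map Ψ = B := by
    rcases h with ⟨ψ, h⟩ | ⟨ψ, h⟩
    · exact ⟨_, by rw [MonoidHom.range_comp, MonoidHom.range_eq_top.2 ψ.surjective,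
        ← MonoidHom.range_eq_map, Subgroup.range_subtype], h⟩
    · exact ⟨_, by rw [MonoidHom.range_comp, MonoidHom.range_eq_top.2
        (ψ.surjective.comp (QuotientGroup.mk'_surjective _)), ← MonoidHom.range_eq_map,
        Subgroup.range_subtype], h⟩
  rw [suBlock_eq hq, ← range_j1 hq] at h1
  rw [suBlock_eq hq, ← range_j2 hq] at h2
  exact ⟨Ψ, good_of_range hq e e' h1 h2, h0⟩

end Cfsg.Agent.H12.Ph
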