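import Mathlib
import Cfsg.Agent.H12.Ph7

/-!
# Phan systems in `SU 4` over the fields with four and nine elements
-/

set_option autoImplicit false

namespace Cfsg.Agent.H12.Ph

open Matrix H11 H19.St
open scoped MatrixGroups

variable {F : Type*} [Field F] {σ : F →+* F} {q n m : ℕ} {G H : Type*} [Group G] [Group H]

section Lift

theorem ker_su4 (hq : QConj σ q) {g : SU 4 F q →* G} {x : SU 4 F q} (hx : g x ≠ 1) (c : SU 4 F q)
    (hc : g c = 1) : c ∈ Subgroup.center _ ∧ c ^ (q + 1) = 1 := by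
  have := hq.finite
  let e := suEquiv hq 4
  rcases (hq.isHerm (Fin 4)).normal_sisom_cases (hermB_sep _) (.inl (by simp))
    (g.comp e.symm.toMonoidHom).ker inferInstance with h | h
  · have h1 : e c ∈ Subgroup.center _ := h (by simpa using hc)
    refine ⟨Subgroup.mem_center_iff.2 fun y => e.injective (by
      rw [map_mul, map_mul, Subgroup.mem_center_iff.1 h1]), e.injective ?_⟩
    have h2 : (⟨e c, h1⟩ : Subgroup.center _) ^ (q + 1) = 1 := orderOf_dvd_iff_pow_eq_one.1
      ((orderOf_dvd_natCard _).trans (by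
        rw [(hq.isHerm (Fin 4)).card_center_sisom hq (hermB_sep _) (by simp)]
        exact Nat.gcd_dvd_right _ _))
    rw [map_pow, map_one]
    exact congrArg Subtype.val h2
  · exact (hx (by simpa using h.ge (Subgroup.mem_top (e x)))).elim

variable {g : H →* G}

theorem lift_eq (hk : ∀ c, g c = 1 → c ∈ Subgroup.center H ∧ c ^ (q + 1) = 1) {x y : H}
    (e : g x = g y) (hx : x ^ q = 1) (hy : y ^ q = 1) : x = y := by
  obtain ⟨h1, h2⟩ := hk (x⁻¹ * y) (by rw [map_mul, map_inv, e, inv_mul_cancel])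
  rw [← mul_inv_cancel_left x y, Commute.mul_pow (Subgroup.mem_center_iff.1 h1 _), hx, one_mul] at hy
  rwa [pow_succ, hy, one_mul, inv_mul_eq_one] at h2

theorem cast_q {K : Type*} [Field K] [Finite K] (hK : Nat.card K = q) : (q : K) = 0 := by
  have := Fintype.ofFinite K
  rw [← hK, Nat.card_eq_fintype_card, Nat.cast_card_eq_zero]

theorem su2_induction (hq : QConj σ q) {p : SU 2 F q → Prop} (h : ∀ x, x ^ q = 1 → p x)
    (hm : ∀ x y, p x → p y → p (x * y)) (x : SU 2 F q) : p x := by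
  have := hq.finite
  obtain ⟨K, -, e, hK, -⟩ := exists_su2 hq
  obtain ⟨x, rfl⟩ := e.surjective x
  exact sl_induction (p := fun x => p (e x))
    (fun t => h _ (by rw [← map_pow, xx_pow', cast_q hK, zero_mul, rel_SL.x_zero, map_one]))
    (fun t => h _ (by rw [← map_pow, yy_pow', cast_q hK, zero_mul, rel_SL.y_zero, map_one]))
    (fun a b ha hb => by rw [map_mul]; exact hm _ _ ha hb) x

theorem lift_ext (hq : QConj σ q) (hk : ∀ c, g c = 1 → c ∈ Subgroup.center H ∧ c ^ (q + 1) = 1)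
    {φ φ' : SU 2 F q →* H} (h : ∀ x, g (φ x) = g (φ' x)) (x : SU 2 F q) : φ x = φ' x :=
  su2_induction hq (p := fun x => φ x = φ' x) (fun x hx => lift_eq hk (h x)
    (by rw [← map_pow, hx, map_one]) (by rw [← map_pow, hx, map_one]))
    (fun a b ha hb => by rw [map_mul, map_mul, ha, hb]) x

theorem exists_lift (hq : QConj σ q) (hk : ∀ c, g c = 1 → c ∈ Subgroup.center H ∧ c ^ (q + 1) = 1)
    {χ : SU 2 F q →* G} (h : χ.range ≤ g.range) : ∃ φ : SU 2 F q →* H, ∀ x, g (φ x) = χ x := by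
  have := hq.finite
  obtain ⟨K, -, e, hK, -⟩ := exists_su2 hq
  have key : ∀ x : SL(2, K), x ^ q = 1 → ∃ y, g y = χ (e x) ∧ y ^ q = 1 := fun x hx => by
    obtain ⟨y, hy⟩ := h ⟨e x, rfl⟩
    have : g (y ^ q) = 1 := by rw [map_pow, hy, ← map_pow, ← map_pow, hx, map_one, map_one]
    exact ⟨y ^ (q + 1), by rw [pow_succ, map_mul, this, one_mul, hy], by
      rw [← pow_mul, mul_comm, pow_mul, (hk _ this).2]⟩
  choose x x1 x2 using fun t : K => key (xx t) (by rw [xx_pow', cast_q hK, zero_mul, rel_SL.x_zero])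
  choose y y1 y2 using fun t : K => key (yy t) (by rw [yy_pow', cast_q hK, zero_mul, rel_SL.y_zero])
  have cj : ∀ {a b c : H}, b ^ q = 1 → c ^ q = 1 → g (a * b) = g (c * a) → a * b = c * a :=
    fun {a b c} hb hc e => mul_inv_eq_iff_eq_mul.1 (lift_eq hk (by
      rw [map_mul, e, map_inv, map_mul, mul_inv_cancel_right]) (by rw [conj_pow, hb]; simp) hc)
  obtain ⟨φ, h1, h2⟩ := exists_hom_of_finite (x := x) (y := y)
    ⟨fun s t => lift_eq hk (by simp only [map_mul, x1, rel_SL.x_add]) (x2 _) (by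
        rw [Commute.mul_pow (cj (x2 t) (x2 t) (by
          simp only [map_mul, x1]
          simp only [← rel_SL.x_add, ← map_mul, add_comm])), x2, x2, one_mul]),
      fun s t => lift_eq hk (by simp only [map_mul, y1, rel_SL.y_add]) (y2 _) (by
        rw [Commute.mul_pow (cj (y2 t) (y2 t) (by
          simp only [map_mul, y1]
          simp only [← rel_SL.y_add, ← map_mul, add_comm])), y2, y2, one_mul]),
      fun t ht u => cj (x2 _) (y2 _) (by
        simp only [map_mul, x1, y1]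
        simp only [← map_mul, rel_SL.conj t ht u])⟩
  refine ⟨φ.comp e.symm.toMonoidHom, fun z => ?_⟩
  obtain ⟨z, rfl⟩ := e.surjective z
  simp only [MonoidHom.comp_apply, MulEquiv.coe_toMonoidHom, MulEquiv.symm_apply_apply]
  exact sl_induction (p := fun z => g (φ z) = χ (e z)) (fun t => by rw [h1, x1])
    (fun t => by rw [h2, y1]) (fun a b ha hb => by simp only [map_mul, ha, hb]) z

end Lift

theorem j1_val (hq : QConj σ q) (x : SU 2 F q) : (j1 hq x).1.1 =
    !![x.1.1 0 0, x.1.1 0 1, 0; x.1.1 1 0, x.1.1 1 1, 0; 0, 0, 1] := by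
  ext i j
  fin_cases i <;> fin_cases j <;> simp [j1, emb_val, embM, Pm, sh, Matrix.mul_apply, Fin.ext_iff]

theorem j2_val (hq : QConj σ q) (x : SU 2 F q) : (j2 hq x).1.1 =
    !![1, 0, 0; 0, x.1.1 0 0, x.1.1 0 1; 0, x.1.1 1 0, x.1.1 1 1] := by
  ext i j
  fin_cases i <;> fin_cases j <;>
    simp [j2, emb_val, embM, Pm, sh, Matrix.mul_apply, Fin.ext_iff, -Fin.val_eq_zero_iff]

/-- The relations between the diagonal torus of one block and the neighbouring block. -/
def Pr (σ : F →+* F) (φ φ' : SU 2 F q →* H) : Prop :=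
  ∀ x y y' : SU 2 F q, x.1.1 0 1 = 0 → y'.1.1 0 0 = y.1.1 0 0 →
    y'.1.1 0 1 = σ (x.1.1 0 0) * y.1.1 0 1 → φ x * φ' y = φ' y' * φ x

theorem pr_j (hq : QConj σ q) : Pr σ (j1 hq) (j2 hq) ∧ Pr σ (j2 hq) (j1 hq) := by
  refine ⟨fun x y y' h e0 e1 => ?_, fun x y y' h e0 e1 => ?_⟩ <;>
  · have a := (su2_entries hq x).2.2
    rw [h, mul_zero, add_zero] at a
    refine Subtype.ext (Subtype.ext (Matrix.ext fun i j => ?_))
    fin_cases i <;> fin_cases j <;>
      simp [j1_val, j2_val, Matrix.mul_apply, Fin.sum_univ_three, (su2_entries hq _).1,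
        (su2_entries hq _).2.1, h, e0, e1, hq.invol, mul_comm]
    all_goals first | linear_combination σ (y.1.1 0 1) * (-a) | linear_combination y.1.1 0 1 * (-a)

theorem Pr.comp {φ φ' : SU 2 F q →* H} (h : Pr σ φ φ') (f : H →* G) : Pr σ (f.comp φ) (f.comp φ') :=
  fun x y y' a b c => by simpa using congrArg f (h x y y' a b c)

theorem exists_tw (hq : QConj σ q) {a : F} (ha : σ a * a = 1) : ∃ α : SU 2 F q →* SU 2 F q,
    ∀ y, (α y).1.1 0 0 = y.1.1 0 0 ∧ (α y).1.1 0 1 = a * y.1.1 0 1 :=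
  ⟨cj hq (t := ![a, 1]) (fun k => by fin_cases k <;> simp [ha]) (RingHom.id F), fun y =>
    ⟨by simp [cj_apply]; linear_combination y.1.1 0 0 * ha, by simp [cj_apply]⟩⟩

theorem Pr.lift (hq : QConj σ q) {g : H →* G}
    (hk : ∀ c, g c = 1 → c ∈ Subgroup.center H ∧ c ^ (q + 1) = 1) {φ φ' : SU 2 F q →* H}
    (h : Pr σ (g.comp φ) (g.comp φ')) : Pr σ φ φ' := fun x y y' a b c => by
  obtain ⟨α, hα⟩ := exists_tw hq (a := σ (x.1.1 0 0)) (by
    simpa [a, hq.invol, mul_comm] using (su2_entries hq x).2.2)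
  obtain rfl : y' = α y := su2_ext hq (b.trans (hα y).1.symm) (c.trans (hα y).2.symm)
  exact mul_inv_eq_iff_eq_mul.1 (lift_ext hq hk (φ := (MulAut.conj (φ x)).toMonoidHom.comp φ')
    (φ' := φ'.comp α) (fun y => by
      simpa [mul_inv_eq_iff_eq_mul] using h x y (α y) a (hα y).1 (hα y).2) y)

section Eig

variable {d : SU n F q}

theorem eig2 {P : (Fin n → F) → Prop} (hP : ∀ v, P v → ∀ c : F, P (ac d v - c • v)) {u : Fin n → F}
    (hu : P u) (u0 : u ≠ 0) {a b : F} (h : ac d (ac d u - b • u) - a • (ac d u - b • u) = 0) :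
    ∃ v, P v ∧ v ≠ 0 ∧ (ac d v = a • v ∨ ac d v = b • v) := by
  by_cases e : ac d u - b • u = 0
  · exact ⟨u, hu, u0, .inr (sub_eq_zero.1 e)⟩
  · exact ⟨_, hP u hu b, e, .inl (sub_eq_zero.1 h)⟩

theorem quartic (hq : QConj σ q) (h23 : q = 2 ∨ q = 3) {μ : F} (hμ : σ μ * μ = 1) (hμ' : σ μ ≠ μ)
    (hd : d ^ (q + 1) = 1) (u : Fin n → F) :
    ac d (ac d (ac d (ac d u) - u) - σ μ • (ac d (ac d u) - u)) -
      μ • (ac d (ac d (ac d u) - u) - σ μ • (ac d (ac d u) - u)) = 0 := by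
  have e := ac_one (q := q) u
  have := hq.finite
  rw [← hd] at e
  rw [hq.eq] at hμ hμ' ⊢
  simp only [map_sub, map_smul]
  rcases h23 with rfl | rfl
  · simp only [pow_succ, pow_zero, one_mul, ac_mul] at e
    have : μ ^ 2 + μ + 1 = 0 := mul_left_cancel₀ (sub_ne_zero.2 hμ') (by
      linear_combination μ * hμ)
    rw [e]
    ext i
    simp only [Pi.sub_apply, Pi.smul_apply, smul_eq_mul, Pi.zero_apply]
    linear_combination (ac d u i - u i) * this + (ac d (ac d u) i - u i) * hμ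
  · simp only [pow_succ, pow_zero, one_mul, ac_mul] at e
    have : μ ^ 3 + μ = 0 := mul_left_cancel₀ (sub_ne_zero.2 hμ') (by
      linear_combination (μ ^ 2) * hμ)
    rw [e]
    ext i
    simp only [Pi.sub_apply, Pi.smul_apply, smul_eq_mul, Pi.zero_apply]
    linear_combination (ac d u i - ac d (ac d (ac d u)) i) * this + (ac d (ac d u) i - u i) * hμ

theorem eig4 (hq : QConj σ q) (h23 : q = 2 ∨ q = 3) (hd : d ^ (q + 1) = 1)
    {P : (Fin n → F) → Prop} (hP : ∀ v, P v → ∀ c : F, P (ac d v - c • v)) {u : Fin n → F}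
    (hu : P u) (u0 : u ≠ 0) : ∃ v, P v ∧ v ≠ 0 ∧ ∃ a : F, ac d v = a • v := by
  obtain ⟨μ, hμ, hμ'⟩ := exists_mu hq
  have e : ac d (ac d u - (-1 : F) • u) - (1 : F) • (ac d u - (-1 : F) • u) = ac d (ac d u) - u := by
    simp only [neg_smul, one_smul, sub_neg_eq_add, map_add]
    abel
  by_cases h : ac d (ac d u) - u = 0
  · obtain ⟨v, h1, h2, h3 | h3⟩ := eig2 hP hu u0 (e.trans h) <;> exact ⟨v, h1, h2, _, h3⟩
  · obtain ⟨v, h1, h2, h3 | h3⟩ := eig2 hP (e ▸ hP _ (hP u hu (-1)) 1) h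
      (quartic hq h23 hμ hμ' hd u) <;> exact ⟨v, h1, h2, _, h3⟩

theorem ac_pow_eig {v : Fin n → F} {a : F} (h : ac d v = a • v) (k : ℕ) :
    ac (d ^ k) v = a ^ k • v := by
  induction k with
  | zero => simp [ac_one]
  | succ k ih => rw [pow_succ, ac_mul, h, map_smul, ih, smul_smul, pow_succ']

theorem eig_pow {v : Fin n → F} {a : F} (h : ac d v = a • v) (v0 : v ≠ 0) {k : ℕ} (hd : d ^ k = 1) :
    a ^ k = 1 := by
  have := ac_pow_eig h k
  rw [hd, ac_one] at this
  exact smul_left_injective F v0 (by simpa using this.symm)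

theorem exists_proj (hq : QConj σ q) (hd : d ^ (q + 1) = 1) {v : Fin n → F} {a : F}
    (h : ac d v = a • v) (ha : σ a * a = 1) (x : Fin n → F) :
    ∃ y, ac d y = a • y ∧ hB σ v y = hB σ v x ∧
      ∀ (g : SU n F q) (c : F), Commute g d → ac g x = c • x → ac g y = c • y := by
  have := hq.finite
  refine ⟨∑ k ∈ Finset.range (q + 1), σ a ^ k • ac (d ^ k) x, ?_, ?_, fun g c hg e => ?_⟩
  · rw [map_sum, Finset.sum_range_succ, Finset.sum_range_succ', smul_add, Finset.smul_sum,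
      map_smul, ← ac_mul, ← pow_succ', hd, ← hq.eq, hq.invol]
    simp only [map_smul, ← ac_mul, ← pow_succ', smul_smul, pow_zero, one_smul]
    congr 1
    exact Finset.sum_congr rfl fun k _ => by rw [pow_succ' (σ a), ← mul_assoc, mul_comm a, ha, one_mul]
  · have e : ∀ k, hB σ v (σ a ^ k • ac (d ^ k) x) = hB σ v x := fun k => by
      rw [← hB_ac hq (d ^ k) v x, ac_pow_eig h]; simp
    have q0 : (q : F) = 0 := pow_eq_zero_iff two_ne_zero |>.1 (by
      rw [← Nat.cast_pow]; exact cast_q hq.card)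
    rw [hB, map_sum]
    simp only [hB] at e
    simp [e, q0, hB]
  · rw [map_sum, Finset.smul_sum]
    exact Finset.sum_congr rfl fun k _ => by
      rw [map_smul, ← ac_mul, (hg.pow_right k).eq, ac_mul, e, map_smul, smul_comm]

theorem perp_of_eig (hq : QConj σ q) {u v : Fin n → F} {a b : F} (hu : ac d u = a • u)
    (hv : ac d v = b • v) (ha : σ a * a = 1) (h : a ≠ b) : hB σ u v = 0 := by
  have := hB_ac hq d u v
  rw [hu, hv, hB_smul_left, hB_smul_right] at this
  exact mul_left_cancel₀ (sub_ne_zero.2 h) (by linear_combination (-a) * this + b * hB σ u v * ha)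

theorem card_le_of_orth {ι : Type*} [Fintype ι] (f : ι → Fin n → F) (h1 : ∀ i, hB σ (f i) (f i) = 1)
    (h2 : ∀ i j, i ≠ j → hB σ (f i) (f j) = 0) : Fintype.card ι ≤ n := by
  have : LinearIndependent F f := Fintype.linearIndependent_iff.2 fun g e i => by
    have := congrArg (hermB (Fin n) σ (f i)) e
    rw [map_sum, Finset.sum_eq_single i (fun j _ hj => by
      rw [map_smul, show hermB (Fin n) σ (f i) (f j) = 0 from h2 i j hj.symm, smul_zero])
      (by simp), map_smul, show hermB (Fin n) σ (f i) (f i) = 1 from h1 i] at this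
    simpa using this
  simpa using this.fintype_card_le_finrank

theorem fix_of_comm (hq : QConj σ q) (φ : SU 2 F q →* SU n F q) (hc : ∀ x, Commute d (φ x))
    {s : Fin n → F} (hd : ∀ k, ac d (ee k) = s k • ee k) {k : Fin n} (hk : ∀ l, l ≠ k → s l ≠ s k)
    (x : SU 2 F q) : ac (φ x) (ee k) = ee k := by
  refine su2_induction hq (p := fun x => ac (φ x) (ee k) = ee k) (fun x hx => ?_)
    (fun a b ha hb => by rw [map_mul, ac_mul, hb, ha]) x
  have e : ac (φ x) (ee k) = ac (φ x) (ee k) k • ee k := funext fun l => by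
    by_cases h : l = k
    · simp [h]
    have n1 : σ (s l) * s l = 1 := by simpa [hd, hB_ee, mul_comm] using hB_ac hq d (ee l) (ee l)
    rw [← hB_ee (σ := σ) l (ac _ _), perp_of_eig hq (hd l) (by
      rw [← ac_mul, (hc x).eq, ac_mul, hd, map_smul]) n1 (hk l h)]
    simp [h]
  have := eig_pow e (by simp) (k := q) (by rw [← map_pow, hx, map_one])
  rw [← hq.eq, ← map_one σ, σ.injective.eq_iff] at this
  rw [e, this, one_smul]

end Eig

/-- One step of the Weyl group orbit. -/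
def wStep {R : Type*} [AddCommGroup R] (l : List (R × R × R)) : List (R × R × R) :=
  l ++ l.map (fun x => (-x.1, x.1 + x.2.1, x.2.2)) ++
    l.map (fun x => (x.1 + x.2.1, -x.2.1, x.2.1 + x.2.2)) ++
      l.map fun x => (x.1, x.2.1 + x.2.2, -x.2.2)

theorem wOrb (h23 : q = 2 ∨ q = 3) : ∀ x : ZMod (q + 1) × ZMod (q + 1) × ZMod (q + 1),
    x.1 + x.1 ≠ 0 → (∃ y ∈ wStep [x], y.1 + y.1 ≠ 0 ∧ y.2 = 0) ∨
      5 ≤ (wStep (wStep (wStep [x]))).toFinset.card := by
  rcases h23 with rfl | rfl <;> decide +kernel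

end Cfsg.Agent.H12.Ph
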