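import Mathlib
import Cfsg.Agent.H12.Ph8

/-!
# Phan systems in `SU 4` are standard
-/

set_option autoImplicit false

namespace Cfsg.Agent.H12.Ph

open Matrix H11 H19.St
open scoped MatrixGroups

variable {F : Type*} [Field F] {σ : F →+* F} {q n m : ℕ} {G H : Type*} [Group G] [Group H]

/-- The relations of a Phan system of rank three. -/
structure Tr (σ : F →+* F) (φ0 φ1 φ2 : SU 2 F q →* H) : Prop where
  p01 : Pr σ φ0 φ1
  p10 : Pr σ φ1 φ0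
  p12 : Pr σ φ1 φ2
  p21 : Pr σ φ2 φ1
  c02 : ∀ x y, φ0 x * φ2 y = φ2 y * φ0 x

theorem Tr.comp {φ0 φ1 φ2 : SU 2 F q →* H} (h : Tr σ φ0 φ1 φ2) (f : H →* G) :
    Tr σ (f.comp φ0) (f.comp φ1) (f.comp φ2) :=
  ⟨h.p01.comp f, h.p10.comp f, h.p12.comp f, h.p21.comp f, fun x y => by
    simpa using congrArg f (h.c02 x y)⟩

theorem su2_pow (hq : QConj σ q) {d : SU 2 F q} (d1 : d.1.1 0 1 = 0) : d ^ (q + 1) = 1 := by
  have a := (su2_entries hq d).2.2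
  rw [d1, mul_zero, add_zero, hq.eq, ← pow_succ] at a
  have : ∀ k : ℕ, (d ^ k).1.1 0 0 = d.1.1 0 0 ^ k ∧ (d ^ k).1.1 0 1 = 0 := fun k => by
    induction k with
    | zero => simp
    | succ k ih =>
      rw [pow_succ, Subgroup.coe_mul, H19.St.mul_apply, H19.St.mul_apply, ih.1, ih.2, d1]
      simp [pow_succ]
  exact su2_ext hq (by rw [(this _).1, a]; simp) (by rw [(this _).2]; simp)

theorem Tr.exists_frame (hq : QConj σ q) (h23 : q = 2 ∨ q = 3) {φ0 φ1 φ2 : SU 2 F q →* SU 4 F q}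
    (h : Tr σ φ0 φ1 φ2) (i0 : Function.Injective φ0) {d : SU 2 F q} (d0 : σ (d.1.1 0 0) ≠ d.1.1 0 0)
    (d1 : d.1.1 0 1 = 0) : ∃ (g : SU 4 F q) (a : F), σ a * a = 1 ∧ σ a ≠ a ∧
      (∀ k, ac (g⁻¹ * φ0 d * g) (ee k) = ![a, σ a, 1, 1] k • ee k) ∧
      (∀ k, ac (g⁻¹ * φ1 d * g) (ee k) = ![1, a, σ a, 1] k • ee k) ∧
      ∀ k, ac (g⁻¹ * φ2 d * g) (ee k) = ![1, 1, a, σ a] k • ee k := by
  obtain ⟨μ, hμ0⟩ : ∃ μ, d.1.1 0 0 = μ := ⟨_, rfl⟩
  have hμ : σ μ * μ = 1 := by simpa [d1, hμ0] using (su2_entries hq d).2.2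
  rw [hμ0] at d0
  have μ2 : μ ^ 2 ≠ 1 := fun e => d0 (by linear_combination μ * hμ - σ μ * e)
  have μq : μ ^ (q + 1) = 1 := by rw [pow_succ, ← hq.eq, hμ]
  have prim : IsPrimitiveRoot μ (q + 1) := by
    rcases h23 with rfl | rfl
    · have : Fact (Nat.Prime 3) := ⟨by norm_num⟩
      exact (orderOf_eq_prime μq fun e => μ2 (by simp [e])) ▸ IsPrimitiveRoot.orderOf μ
    · exact (show orderOf μ = 3 + 1 from orderOf_eq_prime_pow (p := 2) (n := 1) μ2 μq) ▸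
        IsPrimitiveRoot.orderOf μ
  obtain ⟨e, he⟩ : ∃ e : ZMod (q + 1) → F, ∀ α, e α = μ ^ α.val := ⟨_, fun _ => rfl⟩
  have e1 : ∀ α β, e (α + β) = e α * e β := fun α β => by
    rw [he, he, he, ZMod.val_add, ← pow_eq_pow_mod _ μq, pow_add]
  have e0 : e 0 = 1 := by simp [he]
  have e2 : ∀ α, σ (e α) * e α = 1 := fun α => by rw [he, map_pow, ← mul_pow, hμ, one_pow]
  have e3 : ∀ α, e (-α) = σ (e α) := fun α => mul_right_cancel₀
    (right_ne_zero_of_mul_eq_one (e2 α)) (by rw [← e1, neg_add_cancel, e0, e2])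
  have e4 : Function.Injective e := fun α β h => ZMod.val_injective _
    (prim.pow_inj (ZMod.val_lt _) (ZMod.val_lt _) (by rwa [he, he] at h))
  have e5 : ∀ a : F, a ^ (q + 1) = 1 → ∃ α, e α = a := fun a ha => by
    obtain ⟨i, hi, rfl⟩ := prim.eq_pow_of_pow_eq_one ha
    exact ⟨i, by rw [he, ZMod.val_cast_of_lt hi]⟩
  obtain ⟨w, w0, w1⟩ := exists_su2_el hq (a := 0) (b := 1) (by simp)
  have r1 : d * (w * d) = w := su2_ext hq
    (by simp [Matrix.mul_apply, (su2_entries hq _).1, d1, w0])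
    (by simp [Matrix.mul_apply, (su2_entries hq _).2.1, d1, w0, w1, hμ0, mul_comm μ, hμ])
  have r2 : ∀ {φ φ' : SU 2 F q →* SU 4 F q}, Pr σ φ φ' → φ d * φ' w = φ' w * φ' d * φ d :=
    fun h => by
      rw [← map_mul]
      exact h d w _ d1 (by simp [Matrix.mul_apply, (su2_entries hq _).1, d1, w0])
        (by simp [Matrix.mul_apply, (su2_entries hq _).2.1, d1, w1])
  have r3 : ∀ {φ φ' : SU 2 F q →* SU 4 F q}, Pr σ φ φ' → Commute (φ d) (φ' d) :=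
    fun h => h d d d d1 rfl (by simp [d1])
  have s1 : ∀ (φ : SU 2 F q →* SU 4 F q) v α, ac (φ d) v = e α • v →
      ac (φ d) (ac (φ w) v) = e (-α) • ac (φ w) v := fun φ v α h => by
    have := congrArg (fun x => ac (φ x) v) r1
    simp only [map_mul, ac_mul, h, map_smul] at this
    rw [e3, ← one_smul F (ac (φ d) _), ← e2 α, mul_smul, this]
  have s2 : ∀ {φ φ' : SU 2 F q →* SU 4 F q}, Pr σ φ φ' → ∀ v α β, ac (φ d) v = e α • v →
      ac (φ' d) v = e β • v → ac (φ d) (ac (φ' w) v) = e (α + β) • ac (φ' w) v :=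
    fun h v α β a b => by rw [← ac_mul, r2 h, ac_mul, ac_mul, a, map_smul, b, smul_smul, map_smul, e1]
  let Wt : ZMod (q + 1) × ZMod (q + 1) × ZMod (q + 1) → (Fin 4 → F) → Prop := fun x v =>
    hB σ v v = 1 ∧ ac (φ0 d) v = e x.1 • v ∧ ac (φ1 d) v = e x.2.1 • v ∧ ac (φ2 d) v = e x.2.2 • v
  have t0 : ∀ x v, Wt x v → Wt (-x.1, x.1 + x.2.1, x.2.2) (ac (φ0 w) v) := fun x v ⟨a, b, c, f⟩ =>
    ⟨by rw [hB_ac hq, a], s1 _ _ _ b, add_comm x.1 _ ▸ s2 h.p10 _ _ _ c b, by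
      rw [← ac_mul, ← h.c02, ac_mul, f, map_smul]⟩
  have t1 : ∀ x v, Wt x v → Wt (x.1 + x.2.1, -x.2.1, x.2.1 + x.2.2) (ac (φ1 w) v) :=
    fun x v ⟨a, b, c, f⟩ => ⟨by rw [hB_ac hq, a], s2 h.p01 _ _ _ b c, s1 _ _ _ c,
      add_comm x.2.2 _ ▸ s2 h.p21 _ _ _ f c⟩
  have t2 : ∀ x v, Wt x v → Wt (x.1, x.2.1 + x.2.2, -x.2.2) (ac (φ2 w) v) := fun x v ⟨a, b, c, f⟩ =>
    ⟨by rw [hB_ac hq, a], by rw [← ac_mul, h.c02, ac_mul, b, map_smul], s2 h.p12 _ _ _ c f,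
      s1 _ _ _ f⟩
  have t3 : ∀ l, (∀ x ∈ l, ∃ v, Wt x v) → ∀ x ∈ wStep l, ∃ v, Wt x v := fun l hl x hx => by
    simp only [wStep, List.mem_append, List.mem_map] at hx
    rcases hx with ((hx | ⟨y, hy, rfl⟩) | ⟨y, hy, rfl⟩) | ⟨y, hy, rfl⟩
    · exact hl x hx
    all_goals obtain ⟨v, hv⟩ := hl y hy
    exacts [⟨_, t0 _ _ hv⟩, ⟨_, t1 _ _ hv⟩, ⟨_, t2 _ _ hv⟩]
  have pp : ∀ x y u v, Wt x u → Wt y v → x ≠ y → hB σ u v = 0 := fun x y u v hu hv ne => by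
    by_cases c1 : x.1 = y.1
    · by_cases c2 : x.2.1 = y.2.1
      · exact perp_of_eig hq hu.2.2.2 hv.2.2.2 (e2 _) (e4.ne fun c3 =>
          ne (Prod.ext c1 (Prod.ext c2 c3)))
      · exact perp_of_eig hq hu.2.2.1 hv.2.2.1 (e2 _) (e4.ne c2)
    · exact perp_of_eig hq hu.2.1 hv.2.1 (e2 _) (e4.ne c1)
  have dq : ∀ φ : SU 2 F q →* SU 4 F q, φ d ^ (q + 1) = 1 := fun φ => by
    rw [← map_pow, su2_pow hq d1, map_one]
  have inv : ∀ {x y : SU 4 F q}, Commute x y → ∀ (a : F) v, ac x v = a • v → ∀ c : F,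
      ac x (ac y v - c • v) = a • (ac y v - c • v) := fun h a v e c => by
    rw [map_sub, ← ac_mul, h.eq, ac_mul, map_smul, e, map_smul, smul_sub, smul_comm]
  obtain ⟨x, hx, v, hv⟩ : ∃ x, x.1 + x.1 ≠ 0 ∧ ∃ v, Wt x v := by
    obtain ⟨u, hu⟩ := exists_move (x := φ0 d * φ0 d) fun e => μ2 (by
      rw [← map_mul] at e
      simpa [Matrix.mul_apply, d1, hμ0, sq] using
        congrArg (fun x : SU 2 F q => x.1.1 0 0) ((injective_iff_map_eq_one _).1 i0 _ e))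
    rw [ac_mul] at hu
    obtain ⟨v1, -, v10, h1⟩ := eig2 (P := fun _ => True) (fun _ _ _ => trivial) trivial hu
      (quartic hq h23 hμ d0 (dq φ0) u)
    obtain ⟨a, a2, h1⟩ : ∃ a : F, a * a ≠ 1 ∧ ac (φ0 d) v1 = a • v1 := by
      rcases h1 with h1 | h1
      · exact ⟨_, by rwa [← sq], h1⟩
      · exact ⟨_, fun e => d0 (by linear_combination μ * e - σ μ * hμ), h1⟩
    obtain ⟨v2, h1, v20, b, h2⟩ := eig4 hq h23 (dq φ1) (P := fun v => ac (φ0 d) v = a • v)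
      (inv (r3 h.p01) a) h1 v10
    obtain ⟨v, ⟨h1, h2⟩, v0, c, h3⟩ := eig4 hq h23 (dq φ2)
      (P := fun v => ac (φ0 d) v = a • v ∧ ac (φ1 d) v = b • v)
      (fun v hv c => ⟨inv (h.c02 d d) a v hv.1 c, inv (r3 h.p12) b v hv.2 c⟩) ⟨h1, h2⟩ v20
    obtain ⟨α, rfl⟩ := e5 a (eig_pow h1 v0 (dq _))
    obtain ⟨β, rfl⟩ := e5 b (eig_pow h2 v0 (dq _))
    obtain ⟨γ, rfl⟩ := e5 c (eig_pow h3 v0 (dq _))
    obtain ⟨i, hi⟩ := Function.ne_iff.1 v0
    obtain ⟨y1, a1, b1, -⟩ := exists_proj hq (dq φ0) h1 (e2 _) (ee i)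
    obtain ⟨y2, a2', b2, c2⟩ := exists_proj hq (dq φ1) h2 (e2 _) y1
    obtain ⟨y3, a3, b3, c3⟩ := exists_proj hq (dq φ2) h3 (e2 _) y2
    obtain ⟨s, t, hu⟩ := exists_aniso hq (v := v) (w := y3) (by
      rw [b3, b2, b1, hB_ee' hq]; simpa using hi)
    refine ⟨(α, β, γ), fun e => a2 (by rw [← e1, e, e0]), _, hu, ?_, ?_, ?_⟩
    · simp [h1, c3 _ _ (h.c02 d d) (c2 _ _ (r3 h.p01) a1), smul_comm (e α)]
    · simp [h2, c3 _ _ (r3 h.p12) a2', smul_comm (e β)]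
    · simp [h3, a3, smul_comm (e γ)]
  have b1 := t3 [x] (by simpa using ⟨v, hv⟩)
  rcases wOrb h23 x hx with ⟨⟨α, y⟩, hy, hα, rfl : y = 0⟩ | h5
  swap
  · choose! f hf using t3 _ (t3 _ b1)
    have := card_le_of_orth (σ := σ) (fun y : (wStep (wStep (wStep [x]))).toFinset => f y)
      (fun y => (hf _ (List.mem_toFinset.1 y.2)).1) fun y z ne => pp _ _ _ _
        (hf _ (List.mem_toFinset.1 y.2)) (hf _ (List.mem_toFinset.1 z.2)) (Subtype.coe_ne_coe.2 ne)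
    rw [Fintype.card_coe] at this
    omega
  obtain ⟨f0, g0⟩ := b1 _ hy
  have g1 := t0 _ _ g0
  have g2 := t1 _ _ g1
  have g3 := t2 _ _ g2
  simp only [Prod.fst_zero, Prod.snd_zero, add_zero, neg_add_cancel] at g1 g2 g3
  replace hα : α + α ≠ 0 := hα
  have α0 : α ≠ 0 := fun e => hα (by simp [e])
  have α1 : α ≠ -α := fun e => hα (eq_neg_iff_add_eq_zero.1 e)
  obtain ⟨g, -, k0, k1, k2⟩ := frame3 hq (J := Set.univ) (a := 0) (b := 1) (c := 2) (z := 3)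
    ⟨trivial, trivial, trivial, trivial, by simp, by simp, by simp, by simp, by simp, by simp⟩
    ⟨g0.1, by simp⟩ ⟨g1.1, by simp⟩ ⟨g2.1, by simp⟩ (pp _ _ _ _ g0 g1 (by simp [α1]))
    (pp _ _ _ _ g0 g2 (by simp [α0])) (pp _ _ _ _ g1 g2 (by simp [α0]))
  have p0 := pp _ _ _ _ g0 g3 (by simp [α0])
  have p1 := pp _ _ _ _ g1 g3 (by simp [α0])
  have p2 := pp _ _ _ _ g2 g3 (by simp [α0])
  generalize ac (φ2 w) (ac (φ1 w) (ac (φ0 w) f0)) = f3 at g3 p0 p1 p2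
  obtain ⟨f3, rfl⟩ : ∃ w', f3 = ac g w' := ⟨_, (ac_ac_inv g f3).symm⟩
  rw [← k2] at g2 p2
  rw [← k1] at g1 p1
  rw [← k0] at g0 p0
  rw [hB_ac hq, hB_ee] at p0 p1 p2
  have k3 : f3 = f3 3 • ee 3 := by ext i; fin_cases i <;> simp [p0, p1, p2]
  have c0 : f3 3 ≠ 0 := fun e => by simpa [hB_ac hq, k3.trans (by rw [e, zero_smul])] using g3.1
  have key : ∀ (x : SU 4 F q) k (c : F), ac x (ac g (ee k)) = c • ac g (ee k) →
      ac (g⁻¹ * x * g) (ee k) = c • ee k := fun x k c h => by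
    rw [ac_mul, ac_mul, h, map_smul, ac_inv_ac]
  have key3 : ∀ (x : SU 4 F q) (c : F), ac x (ac g f3) = c • ac g f3 →
      ac (g⁻¹ * x * g) (ee 3) = c • ee 3 := fun x c h => key x 3 c (smul_right_injective _ c0 (by
    rw [k3, map_smul, map_smul, smul_comm] at h
    exact h))
  refine ⟨g, e α, e2 α, by rw [← e3]; exact e4.ne α1.symm, fun k => ?_, fun k => ?_, fun k => ?_⟩ <;>
    fin_cases k
  exacts [key _ _ _ g0.2.1, e3 α ▸ key _ _ _ g1.2.1, e0 ▸ key _ _ _ g2.2.1, e0 ▸ key3 _ _ g3.2.1,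
    e0 ▸ key _ _ _ g0.2.2.1, key _ _ _ g1.2.2.1, e3 α ▸ key _ _ _ g2.2.2.1, e0 ▸ key3 _ _ g3.2.2.1,
    e0 ▸ key _ _ _ g0.2.2.2, e0 ▸ key _ _ _ g1.2.2.2, key _ _ _ g2.2.2.2, e3 α ▸ key3 _ _ g3.2.2.2]

theorem ac_emb (hq : QConj σ q) {f : Fin m → Fin n} (hf : Function.Injective f) (x : SU m F q)
    (i j : Fin m) : ac (emb hq hf x) (ee (f i)) (f j) = x.1.1 j i := by
  have := congrFun (congrFun (tr_embM hf x.1.1) j) i
  simpa [Pm, Matrix.mul_apply, ac_apply, emb_val] using this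

theorem hom_eq_of_mu (hq : QConj σ q) (h23 : q = 2 ∨ q = 3) {μ : F} (hμ : σ μ ≠ μ) {τ τ' : F →+* F}
    (h : τ μ = τ' μ) : τ = τ' := by
  have fx : ∀ k, σ k = k → τ k = τ' k := fun k hk => by
    rw [hq.eq] at hk
    rcases h23 with rfl | rfl
    · have : k * (k - 1) = 0 := by linear_combination hk
      simp only [mul_eq_zero, sub_eq_zero] at this
      rcases this with rfl | rfl <;> simp
    · have : k * (k - 1) * (k + 1) = 0 := by linear_combination hk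
      simp only [mul_eq_zero, sub_eq_zero, add_eq_zero_iff_eq_neg] at this
      rcases this with (rfl | rfl) | rfl <;> simp
  have h0 : μ - σ μ ≠ 0 := fun h => hμ (sub_eq_zero.mp h).symm
  have h1 : σ μ - μ ≠ 0 := sub_ne_zero.mpr hμ
  ext y
  have : y = (μ * σ y - σ μ * y) / (μ - σ μ) + (y - σ y) / (μ - σ μ) * μ := by field_simp; ring
  rw [this, map_add, map_add, map_mul, map_mul, h, fx, fx ((y - σ y) / _)] <;>
    simp only [map_div₀, map_sub, map_mul, hq.invol] <;> field_simp <;> ring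

theorem exists_cj_of_le (hq : QConj σ q) {f : Fin 2 → Fin n} (hf : Function.Injective f)
    {φ : SU 2 F q →* SU n F q} (hφ : Function.Injective φ) (h : ∀ x, φ x ∈ Blk F q (Set.range f))
    {d : SU 2 F q} (d1 : d.1.1 0 1 = 0) {a : F} (ha : σ a ≠ a)
    (e : ac (φ d) (ee (f 0)) = a • ee (f 0)) :
    ∃ (l : F) (τ : F →+* F), σ l * l = 1 ∧ τ (d.1.1 0 0) = a ∧ ∀ x y : SU 2 F q,
      y.1.1 0 0 = τ (x.1.1 0 0) → y.1.1 0 1 = l * τ (x.1.1 0 1) → emb hq hf y = φ x := by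
  have := hq.finite
  rw [← range_emb hq hf] at h
  let α0 := (MonoidHom.ofInjective (emb_inj hq hf)).symm.toMonoidHom.comp (φ.codRestrict _ h)
  have h0 : ∀ x, emb hq hf (α0 x) = φ x := fun x => MonoidHom.apply_ofInjective_symm (emb_inj hq hf) _
  let α : MulAut (SU 2 F q) := MulEquiv.ofBijective α0 (Finite.injective_iff_bijective.1
    fun x y e => hφ (by rw [← h0, e, h0]))
  replace h0 : ∀ x, emb hq hf (α x) = φ x := h0
  have a0 : (α d).1.1 0 0 = a := by rw [← ac_emb hq hf, h0, e]; simp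
  have a1 : (α d).1.1 0 1 = 0 := by
    have : (α d).1.1 1 0 = 0 := by rw [← ac_emb hq hf, h0, e]; simp [hf.eq_iff]
    simpa [(su2_entries hq _).1] using this
  obtain ⟨l, hl, τ, h1⟩ := eq_cj' hq α fun x hx => by
    have := congrArg (fun x => (α x).1.1 0 1) (su2_comm hq hx d1)
    simp only [map_mul, Subgroup.coe_mul, H19.St.mul_apply, a0, a1, (su2_entries hq _).2.1] at this
    exact mul_left_cancel₀ (sub_ne_zero.2 ha) (by linear_combination this)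
  replace hl : σ l * l = 1 := hl 0
  have b : ∀ x, (α x).1.1 0 0 = τ (x.1.1 0 0) := fun x => by
    rw [h1, cj_apply]
    simp only [cons_val_zero]
    linear_combination τ (x.1.1 0 0) * hl
  exact ⟨l, τ, hl, by rw [← b, a0], fun x y e0 e1 => by
    rw [← h0, su2_ext hq (e0.trans (b x).symm) (e1.trans (by simp [h1, cj_apply]))]⟩

theorem Tr.exists_hom (hq : QConj σ q) (h23 : q = 2 ∨ q = 3) {φ0 φ1 φ2 : SU 2 F q →* SU 4 F q}
    (h : Tr σ φ0 φ1 φ2) (i0 : Function.Injective φ0) (i1 : Function.Injective φ1)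
    (i2 : Function.Injective φ2) : ∃ β : SU 4 F q →* SU 4 F q, Function.Bijective β ∧
      (∀ x, β (k1 hq (j1 hq x)) = φ0 x) ∧ (∀ x, β (k1 hq (j2 hq x)) = φ1 x) ∧
      (∀ x, β (k2 hq (j1 hq x)) = φ1 x) ∧ ∀ x, β (k2 hq (j2 hq x)) = φ2 x := by
  obtain ⟨μ, hμ, hμ'⟩ := exists_mu hq
  obtain ⟨d, d0, d1⟩ := exists_su2_el hq (a := μ) (b := 0) (by simpa using hμ)
  obtain ⟨g, a, ha, ha', e0, e1, e2⟩ := h.exists_frame hq h23 i0 (d0 ▸ hμ') d1
  let c := (MulAut.conj g⁻¹).toMonoidHom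
  have h' := h.comp c
  obtain ⟨ψ0, hψ0⟩ : ∃ ψ, ψ = c.comp φ0 := ⟨_, rfl⟩
  obtain ⟨ψ1, hψ1⟩ : ∃ ψ, ψ = c.comp φ1 := ⟨_, rfl⟩
  obtain ⟨ψ2, hψ2⟩ : ∃ ψ, ψ = c.comp φ2 := ⟨_, rfl⟩
  rw [← hψ0, ← hψ1, ← hψ2] at h'
  replace e0 : ∀ k, ac (ψ0 d) (ee k) = ![a, σ a, 1, 1] k • ee k := by simpa [hψ0, c] using e0
  replace e1 : ∀ k, ac (ψ1 d) (ee k) = ![1, a, σ a, 1] k • ee k := by simpa [hψ1, c] using e1
  replace e2 : ∀ k, ac (ψ2 d) (ee k) = ![1, 1, a, σ a] k • ee k := by simpa [hψ2, c] using e2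
  have a1 : a ≠ 1 := fun e => ha' (by simp [e])
  have a2 : σ a ≠ 1 := fun e => a1 (by simpa [e] using ha)
  have a3 : a * a ≠ 1 := fun e => ha' (by linear_combination a * ha - σ a * e)
  have a4 : σ a * σ a ≠ 1 := fun e => ha' (by linear_combination a * e - σ a * ha)
  have cm : ∀ {ψ ψ' : SU 2 F q →* SU 4 F q}, Pr σ ψ' ψ → ∀ x,
      Commute (ψ' d * ψ' d * ψ d) (ψ x) := fun {ψ ψ'} h x => by
    obtain ⟨α, hα⟩ := exists_tw hq (a := σ μ) (by simpa [hq.invol, mul_comm] using hμ)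
    have r := fun y => h d y (α y) d1 (hα y).1 (d0 ▸ (hα y).2)
    obtain ⟨β, hβ⟩ := exists_tw hq (a := μ * μ) (by rw [map_mul]; linear_combination (σ μ * μ + 1) * hμ)
    have s : d * x = β x * d := su2_ext hq
      (by simp [Matrix.mul_apply, (su2_entries hq _).1, d1, hβ, mul_comm])
      (by
        simp [Matrix.mul_apply, (su2_entries hq _).2.1, d0, d1, hβ]
        linear_combination (-μ * x.1.1 0 1) * hμ)
    have t : α (α (β x)) = x := su2_ext hq (by simp [hα, hβ]) (by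
      simp only [hα, hβ]; linear_combination (σ μ * μ + 1) * x.1.1 0 1 * hμ)
    rw [commute_iff_eq, mul_assoc, ← map_mul ψ, s, map_mul, mul_assoc, ← mul_assoc (ψ' d) (ψ _), r,
      mul_assoc, ← mul_assoc (ψ' d) (ψ _), r, t]
    simp only [mul_assoc]
  have dg : ∀ {x y : SU 4 F q} {s t : Fin 4 → F}, (∀ k, ac x (ee k) = s k • ee k) →
      (∀ k, ac y (ee k) = t k • ee k) → ∀ k, ac (x * y) (ee k) = (s * t) k • ee k :=
    fun hx hy k => by rw [ac_mul, hy, map_smul, hx, smul_smul, mul_comm]; rfl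
  obtain ⟨l0, τ0, hl0, t0, b0⟩ := exists_cj_of_le hq (sh_inj (n := 4) 2 0 (by omega)) (φ := ψ0)
    (hψ0 ▸ (MulAut.conj g⁻¹).injective.comp i0) (fun x k hk => fix_of_comm hq ψ0
      (fun x => (h'.c02 x d).symm) e2 (fun l hl => by
        rw [range_sh] at hk
        fin_cases k <;> fin_cases l <;> simp [Iv, ha', ha'.symm, a1.symm, a2.symm] at hk hl ⊢) x)
    d1 ha' (e0 0)
  obtain ⟨l1, τ1, hl1, t1, b1⟩ := exists_cj_of_le hq (sh_inj (n := 4) 2 1 (by omega)) (φ := ψ1)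
    (hψ1 ▸ (MulAut.conj g⁻¹).injective.comp i1) (fun x k hk => by
      rw [range_sh] at hk
      fin_cases k <;> simp [Iv] at hk
      · exact fix_of_comm hq ψ1 (cm h'.p21) (dg (dg e2 e2) e1) (fun l hl => by
          fin_cases l <;> simp [a1, a4, mul_assoc, mul_comm a, ha] at hl ⊢) x
      · exact fix_of_comm hq ψ1 (cm h'.p01) (dg (dg e0 e0) e1) (fun l hl => by
          fin_cases l <;> simp [a2, a3, mul_assoc, ha] at hl ⊢) x) d1 ha' (e1 1)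
  obtain ⟨l2, τ2, hl2, t2, b2⟩ := exists_cj_of_le hq (sh_inj (n := 4) 2 2 (by omega)) (φ := ψ2)
    (hψ2 ▸ (MulAut.conj g⁻¹).injective.comp i2) (fun x k hk => fix_of_comm hq ψ2
      (fun x => h'.c02 d x) e0 (fun l hl => by
        rw [range_sh] at hk
        fin_cases k <;> fin_cases l <;> simp [Iv, ha', ha'.symm, a1.symm, a2.symm] at hk hl ⊢) x)
    d1 ha' (e2 2)
  rw [d0] at t0 t1 t2
  obtain rfl := hom_eq_of_mu hq h23 hμ' (t0.trans t1.symm)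
  obtain rfl := hom_eq_of_mu hq h23 hμ' (t0.trans t2.symm)
  have ht : ∀ k, σ (![l0 * l1 * l2, l1 * l2, l2, 1] k) * ![l0 * l1 * l2, l1 * l2, l2, 1] k = 1 :=
    fun k => by
      fin_cases k <;> simp [hl2]
      · linear_combination (σ l1 * l1 * σ l2 * l2) * hl0 + (σ l2 * l2) * hl1 + hl2
      · linear_combination (σ l2 * l2) * hl1 + hl2
  have k0 : ∀ (t : Fin 2 → F) (ht : ∀ k, σ (t k) * t k = 1) (x : SU 2 F q),
      (cj hq ht τ0 x).1.1 0 0 = τ0 (x.1.1 0 0) := fun t ht x => by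
    rw [cj_apply]; linear_combination τ0 (x.1.1 0 0) * ht 0
  have c0 : ∀ x, cj hq ht τ0 (emb hq (sh_inj 2 0 (by omega)) x) = ψ0 x := fun x => by
    rw [cj_emb]
    refine b0 _ _ (k0 _ _ _) ?_
    simp [cj_apply, sh]
    linear_combination (l0 * τ0 (x.1.1 0 1)) * (σ l2 * l2 * hl1 + hl2)
  have c1 : ∀ x, cj hq ht τ0 (emb hq (sh_inj 2 1 (by omega)) x) = ψ1 x := fun x => by
    rw [cj_emb]
    refine b1 _ _ (k0 _ _ _) ?_
    simp [cj_apply, sh]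
    linear_combination (l1 * τ0 (x.1.1 0 1)) * hl2
  have c2 : ∀ x, cj hq ht τ0 (emb hq (sh_inj 2 2 (by omega)) x) = ψ2 x := fun x => by
    rw [cj_emb]
    refine b2 _ _ (k0 _ _ _) ?_
    simp [cj_apply, sh]
  refine ⟨(MulAut.conj g).toMonoidHom.comp (cj hq ht τ0), (MulAut.conj g).bijective.comp
    (cj_bij hq ht τ0), fun x => ?_, fun x => ?_, fun x => ?_, fun x => ?_⟩
  · rw [k1, j1, emb_emb hq _ _ (sh_inj 2 0 (by omega)) (fun _ => by simp [sh])]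
    rw [MonoidHom.comp_apply, c0]
    simp [hψ0, c, mul_assoc]
  · rw [k1, j2, emb_emb hq _ _ (sh_inj 2 1 (by omega)) (fun _ => by simp [sh])]
    rw [MonoidHom.comp_apply, c1]
    simp [hψ1, c, mul_assoc]
  · rw [k2, j1, emb_emb hq _ _ (sh_inj 2 1 (by omega)) (fun _ => by simp [sh])]
    rw [MonoidHom.comp_apply, c1]
    simp [hψ1, c, mul_assoc]
  · rw [k2, j2, emb_emb hq _ _ (sh_inj 2 2 (by omega)) (fun _ => by simp [sh]; omega)]
    rw [MonoidHom.comp_apply, c2]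
    simp [hψ2, c, mul_assoc]

end Cfsg.Agent.H12.Ph
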