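import Mathlib
import Cfsg.Agent.H12.Ph9

/-!
# Phan's theorem over the fields with four and nine elements
-/

set_option autoImplicit false

namespace Cfsg.Agent.H12.Ph

open Matrix H11 H19.St
open scoped MatrixGroups

variable {F : Type*} [Field F] {σ : F →+* F} {q n m : ℕ} {G H : Type*} [Group G] [Group H]

section Two

theorem two_eq_zero (hq : QConj σ 2) : (2 : F) = 0 := by
  have := hq.finite
  have : (2 : F) ^ 2 = 0 := by exact_mod_cast cast_q hq.card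
  exact pow_eq_zero_iff two_ne_zero |>.1 this

theorem norm_two (hq : QConj σ 2) {a : F} (ha : a ≠ 0) : σ a * a = 1 := by
  have := hq.invol a
  rw [hq.eq, hq.eq] at this
  rw [hq.eq]
  exact mul_left_cancel₀ ha (by linear_combination this)

theorem gen_two (hq : QConj σ 2) {S : Subgroup (SU 3 F 2)} (h1 : (j1 hq).range ≤ S)
    (h2 : (j2 hq).range ≤ S) (h4 : ∀ y, y ^ 4 = 1 → y ∈ S) (g : SU 3 F 2) : g ∈ S := by
  rw [range_j1] at h1
  rw [range_j2] at h2
  replace h2 : Blk F 2 (Set.univ \ {0}) ≤ S := (Blk_mono fun k hk => by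
    fin_cases k <;> simp at hk ⊢).trans h2
  have t := two_eq_zero hq
  suffices ∀ w, Un σ Set.univ w → ∃ s ∈ S, ac s (ee 0) = w by
    obtain ⟨s, hs, e⟩ := this _ ((un_ee (Set.mem_univ 0)).ac hq (g := g) fun k hk => (hk trivial).elim)
    simpa using mul_mem hs (h2 (mem_Blk_diff (g := s⁻¹ * g) (fun k hk => (hk trivial).elim)
      (by rw [ac_mul, ← e, ac_inv_ac])))
  intro w hw
  by_cases c : Adj σ (ee 0) w
  · obtain ⟨x, hx, l, hl, e⟩ := exists_hl hq (s := Set.univ) (a := 0) (b := 1) (c := 2) trivial trivial trivial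
      (by simp) (by simp) (by simp) hw c
    exact ⟨_, mul_mem (h2 hx) (h1 hl), e⟩
  by_cases c' : w 2 = 0
  · obtain ⟨l, hl, e⟩ := Un.trans hq (s := {0, 1}) ⟨hw.1, fun k hk => by
      fin_cases k <;> simp [c'] at hk ⊢⟩ (i := 0) (j := 1) (by simp) (by simp) (by simp)
    exact ⟨l, h1 hl, e⟩
  rw [Adj, not_not, hB_ee, hB_ee' hq, mul_comm] at c
  obtain ⟨l, hl, e⟩ := exists_diag hq (i := (0 : Fin 3)) (j := 1) (by simp) c
  obtain ⟨v, rfl⟩ : ∃ v, w = ac l v := ⟨_, (ac_ac_inv l w).symm⟩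
  have v0 : v 0 = 1 := by rw [← hB_ee (σ := σ) 0 v, ← hB_ac hq l, e, hB_smul_left, hB_ee, c]
  rw [Blk_apply hq hl (by simp)] at c'
  have v2 := norm_two hq c'
  have v1 : σ (v 1) * v 1 = 1 := by
    have := hw.1
    rw [hB_ac hq, hB, hermB_apply, Fin.sum_univ_three, v0, v2, map_one] at this
    linear_combination this - t
  obtain ⟨ω, hω, hω'⟩ := exists_mu hq
  have sω : σ ω = ω ^ 2 := hq.eq ω
  rw [sω] at hω hω'
  have : ω ^ 2 + ω + 1 = 0 := mul_left_cancel₀ (sub_ne_zero.2 hω') (by linear_combination ω * hω)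
  obtain ⟨y, hy⟩ := exists_su hq (M := !![1, 1, 1; 1, ω, ω ^ 2; 1, ω ^ 2, ω]) (by
    ext i j
    fin_cases i <;> fin_cases j <;> simp [Matrix.mul_apply, Fin.sum_univ_three, sω] <;> grind)
    (by simp [det_fin_three]; grind)
  have y2 : (y * y).1.1 = !![1, 0, 0; 0, 0, 1; 0, 1, 0] := by
    ext i j
    fin_cases i <;> fin_cases j <;> simp [Matrix.mul_apply, Fin.sum_univ_three, hy] <;> grind
  have y4 : y ^ 4 = 1 := Subtype.ext (Subtype.ext (by
    rw [show y ^ 4 = y * y * (y * y) by simp only [pow_succ, pow_zero, one_mul, mul_assoc]]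
    change (y * y).1.1 * (y * y).1.1 = 1
    rw [y2]
    ext i j
    fin_cases i <;> fin_cases j <;> simp [Matrix.mul_apply, Fin.sum_univ_three]))
  have ht : ∀ k, σ (v k) * v k = 1 := fun k => by fin_cases k <;> simp [v0, v1, v2]
  refine ⟨_, mul_mem (h1 hl) (h4 (cj hq ht (RingHom.id F) y) (by rw [← map_pow, y4, map_one])), ?_⟩
  rw [ac_mul]
  congr 1
  ext i
  simp only [ac_apply, mulVec_single_one, col_apply, cj_apply, hy, v0]
  fin_cases i <;> simp

theorem inv_mem_two (hq : QConj σ 2) {x : SU 3 F 2} (hx : x * x = 1) :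
    x ∈ (j1 hq).range ⊔ (j2 hq).range := by
  by_cases h1 : x = 1
  · exact h1 ▸ one_mem _
  have t := two_eq_zero hq
  obtain ⟨u, hu⟩ := exists_move h1
  have a := inv_par hq t hx hx rfl hu
  have pp : hB σ _ _ = 0 := (inv_adj hq hx u _).trans (by rw [inv_sq t hx u, hB_zero_right])
  generalize ac x u - u = p at a pp
  obtain ⟨k, hk⟩ : ∃ k, p k = 0 := by
    by_contra h
    push Not at h
    rw [hB, hermB_apply, Fin.sum_univ_three, norm_two hq (h _), norm_two hq (h _),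
      norm_two hq (h _)] at pp
    exact one_ne_zero (by linear_combination pp - t)
  have e := inv_fix hq hx a (v := ee k) (by simp [hB_ee' hq, hk])
  have m1 : ∀ x : SU 3 F 2, ac x (ee 2) = ee 2 → x ∈ (j1 hq).range := fun x hx => by
    rw [range_j1]
    intro k hk
    fin_cases k <;> simp at hk
    exact hx
  have m2 : ∀ x : SU 3 F 2, ac x (ee 0) = ee 0 → x ∈ (j2 hq).range := fun x hx => by
    rw [range_j2]
    intro k hk
    fin_cases k <;> simp at hk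
    exact hx
  fin_cases k
  · exact Subgroup.mem_sup_right (m2 x e)
  · obtain ⟨l, hl, e'⟩ := Un.trans hq (s := {1, 2}) (un_ee (a := (1 : Fin 3)) (by simp)) (i := 2)
      (j := 1) (by simp) (by simp) (by simp)
    rw [← range_j2 hq] at hl
    have := m1 (l⁻¹ * x * l) (by rw [ac_mul, ac_mul, e', show ac x (ee 1) = ee 1 from e, ← e', ac_inv_ac])
    simpa [mul_assoc] using mul_mem (mul_mem (Subgroup.mem_sup_right hl) (Subgroup.mem_sup_left this))
      (Subgroup.mem_sup_right (inv_mem hl))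
  · exact Subgroup.mem_sup_left (m1 x e)

theorem rigid_two (hq : QConj σ 2) {ψ ψ' : SU 3 F 2 →* H} (h1 : ∀ x, ψ (j1 hq x) = ψ' (j1 hq x))
    (h2 : ∀ x, ψ (j2 hq x) = ψ' (j2 hq x))
    (hc : ∀ c, (∀ m, m * m = 1 → Commute c (ψ m)) → c ^ 3 = 1 ∧ ∀ x, Commute c (ψ x))
    (x : SU 3 F 2) : ψ x = ψ' x := by
  have a1 : (j1 hq).range ≤ ψ.eqLocus ψ' := by rintro _ ⟨x, rfl⟩; exact h1 x
  have a2 : (j2 hq).range ≤ ψ.eqLocus ψ' := by rintro _ ⟨x, rfl⟩; exact h2 x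
  refine gen_two hq a1 a2 (fun y hy => ?_) x
  obtain ⟨c1, c2⟩ := hc ((ψ y)⁻¹ * ψ' y) fun m hm => by
    have e1 : ψ m = ψ' m := sup_le a1 a2 (inv_mem_two hq hm)
    have e2 : ψ (y * m * y⁻¹) = ψ' (y * m * y⁻¹) := sup_le a1 a2 (inv_mem_two hq (by
      rw [conj_mul, hm]; simp))
    simp only [map_mul, map_inv, ← e1] at e2
    calc (ψ y)⁻¹ * ψ' y * ψ m = (ψ y)⁻¹ * (ψ' y * ψ m * (ψ' y)⁻¹) * ψ' y := by group
      _ = _ := by rw [← e2]; group
  have : (ψ y * ((ψ y)⁻¹ * ψ' y)) ^ 4 = 1 := by rw [mul_inv_cancel_left, ← map_pow, hy, map_one]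
  rw [(c2 y).symm.mul_pow, ← map_pow, hy, map_one, one_mul, pow_succ, c1, one_mul] at this
  exact inv_mul_eq_one.1 this

theorem eig_of_comm (hq : QConj σ q) {d c : SU n F q} (hc : Commute d c) {s : Fin n → F}
    (hd : ∀ k, ac d (ee k) = s k • ee k) {k : Fin n} (hk : ∀ l, l ≠ k → s l ≠ s k) :
    ac c (ee k) = ac c (ee k) k • ee k := funext fun l => by
  by_cases h : l = k
  · simp [h]
  have n1 : σ (s l) * s l = 1 := by simpa [hd, hB_ee, mul_comm] using hB_ac hq d (ee l) (ee l)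
  rw [← hB_ee (σ := σ) l (ac _ _), perp_of_eig hq (hd l) (by
    rw [← ac_mul, hc.eq, ac_mul, hd, map_smul]) n1 (hk l h)]
  simp [h]

theorem ac_emb2 (hq : QConj σ q) {f : Fin 2 → Fin n} (hf : Function.Injective f) (x : SU 2 F q)
    (i : Fin 2) : ac (emb hq hf x) (ee (f i)) = x.1.1 0 i • ee (f 0) + x.1.1 1 i • ee (f 1) := by
  ext k
  by_cases hk : k ∈ Set.range f
  · obtain ⟨j, rfl⟩ := hk
    rw [ac_emb]
    fin_cases j <;> simp [hf.eq_iff]
  · have : ∀ j, k ≠ f j := fun j e => hk ⟨j, e.symm⟩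
    rw [Blk_apply hq ((range_emb hq hf).le ⟨x, rfl⟩) hk]
    simp [this]

theorem scalar_two (hq : QConj σ 2) {f : Fin 2 → Fin n} (hf : Function.Injective f) {c : SU n F 2}
    (h : ∀ m, m * m = 1 → Commute c (emb hq hf m)) :
    ∃ s : F, ac c (ee (f 0)) = s • ee (f 0) ∧ ac c (ee (f 1)) = s • ee (f 1) := by
  have t := two_eq_zero hq
  obtain ⟨μ, hμ, hμ'⟩ := exists_mu hq
  have key : ∀ b, σ b * b = 1 → ∃ w : SU 2 F 2, w.1.1 0 0 = 0 ∧ w.1.1 0 1 = b ∧ w * w = 1 :=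
    fun b hb => by
      obtain ⟨w, w0, w1⟩ := exists_su2_el hq (a := 0) (b := b) (by simpa using hb)
      refine ⟨w, w0, w1, su2_ext hq ?_ ?_⟩ <;>
        simp [Matrix.mul_apply, (su2_entries hq w).1, (su2_entries hq w).2.1, w0, w1]
      linear_combination -hb - t
  obtain ⟨w, w0, w1, ww⟩ := key 1 (by simp)
  obtain ⟨v, v0, v1, vv⟩ := key μ hμ
  have μ1 : μ ≠ 1 := fun e => hμ' (by simp [e])
  have μ2 : σ μ ≠ 1 := fun e => μ1 (by simpa [e] using hμ)
  have n1 : (-1 : F) = 1 := by linear_combination -t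
  have n2 : ∀ x : F, -x = x := fun x => by linear_combination -x * t
  have f01 : f 0 ≠ f 1 := by simp [hf.eq_iff]
  have hd : ∀ k, ac (emb hq hf v * emb hq hf w) (ee k) =
      (if k = f 0 then μ else if k = f 1 then σ μ else 1) • ee k := fun k => by
    rw [← map_mul]
    split_ifs with a b
    · rw [a, ac_emb2]
      simp [Matrix.mul_apply, (su2_entries hq _).1, (su2_entries hq _).2.1, w0, w1, v0, v1, n2]
    · rw [b, ac_emb2]
      simp [Matrix.mul_apply, (su2_entries hq _).1, (su2_entries hq _).2.1, w0, w1, v0, v1, n2]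
    · rw [one_smul]
      refine (range_emb hq hf).le ⟨_, rfl⟩ k ?_
      rintro ⟨j, rfl⟩
      fin_cases j <;> simp at a b
  have cm := ((h v vv).mul_right (h w ww)).symm
  have e0 := eig_of_comm hq cm hd (k := f 0) fun l hl => by
    simp only [hl, if_false, if_true]
    split_ifs
    exacts [hμ', μ1.symm]
  have e1 := eig_of_comm hq cm hd (k := f 1) fun l hl => by
    simp only [hl, f01.symm, if_false, if_true]
    split_ifs
    exacts [hμ'.symm, μ2.symm]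
  refine ⟨_, e0, ?_⟩
  have := congrArg (fun x => ac x (ee (f 0))) (h w ww).eq
  simp only [ac_mul] at this
  rw [e0, map_smul, ac_emb2] at this
  simpa [(su2_entries hq w).1, w0, w1, n2] using this

theorem cent_two (hq : QConj σ 2) (i : ℕ) (hi : i + 3 ≤ 4) (c : SU 4 F 2)
    (h : ∀ m, m * m = 1 → Commute c (emb hq (sh_inj 3 i hi) m)) :
    c ^ 3 = 1 ∧ ∀ x, Commute c (emb hq (sh_inj 3 i hi) x) := by
  obtain ⟨s, a0, a1⟩ := scalar_two hq (sh_inj (n := 4) 2 i (by omega)) (c := c) fun m hm => by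
    rw [← emb_emb hq (sh_inj 3 i hi) (sh_inj 2 0 (by omega)) _ (fun _ => by simp [sh])]
    exact h _ (by rw [← map_mul, hm, map_one])
  obtain ⟨s', a1', a2⟩ := scalar_two hq (sh_inj (n := 4) 2 (i + 1) (by omega)) (c := c) fun m hm => by
    rw [← emb_emb hq (sh_inj 3 i hi) (sh_inj 2 1 (by omega)) _ (fun _ => by simp [sh]; omega)]
    exact h _ (by rw [← map_mul, hm, map_one])
  obtain rfl : s = s' := smul_left_injective F (by simp) (a1.symm.trans a1')
  have b : ∀ j, ac c (ee (sh 3 i hi j)) = s • ee (sh 3 i hi j) := fun j => by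
    fin_cases j
    exacts [a0, a1, a2]
  have s0 : s ≠ 0 := fun e => by simpa [a0, e, hB_ee] using hB_ac hq c (ee (sh 2 i (by omega) 0)) (ee (sh 2 i (by omega) 0))
  have hd : ∀ k, ac c (ee k) = ac c (ee k) k • ee k := fun k => funext fun l => by
    by_cases e : l = k
    · simp [e]
    by_cases hl : l ∈ Set.range (sh 3 i hi)
    · obtain ⟨j, rfl⟩ := hl
      simpa [b, hB_ee, e, s0] using hB_ac hq c (ee (sh 3 i hi j)) (ee k)
    by_cases hk : k ∈ Set.range (sh 3 i hi)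
    · obtain ⟨j, rfl⟩ := hk
      simp [b, e]
    simp only [range_sh, Iv, Set.mem_ofPred_eq, Fin.ext_iff] at hl hk e
    omega
  have ht : ∀ k, σ (ac c (ee k) k) * ac c (ee k) k = 1 := fun k => by
    have := hB_ac hq c (ee k) (ee k)
    rw [hd] at this
    simpa [hB_ee, mul_comm] using this
  refine ⟨su_ext fun k => by
    rw [ac_pow_eig (hd k), ac_one, pow_succ, ← hq.eq, ht, one_smul], fun x => ?_⟩
  rw [commute_iff_eq, conj_eq_cj hq ht (Matrix.ext fun k l => ?_), cj_emb]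
  · congr 2
    refine Subtype.ext (Subtype.ext (Matrix.ext fun k l => ?_))
    have := ht (sh 3 i hi k)
    simp only [cj_apply, b] at this ⊢
    simp at this ⊢
    linear_combination x.1.1 k l * this
  · have := congrFun (hd l) k
    by_cases e : k = l
    · simp [e, ac_apply]
    · simpa [ac_apply, e] using this

theorem inj_su4_two (hq : QConj σ 2) {g : SU 4 F 2 →* G} {x : SU 4 F 2} (hx : g x ≠ 1) :
    Function.Injective g := (injective_iff_map_eq_one g).2 fun c hc => by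
  have := hq.finite
  let e := suEquiv hq 4
  have h1 : e c ∈ Subgroup.center _ := Subgroup.mem_center_iff.2 fun y => by
    obtain ⟨y, rfl⟩ := e.surjective y
    rw [← map_mul, ← map_mul, Subgroup.mem_center_iff.1 (ker_su4 hq hx c hc).1]
  rw [Subgroup.card_eq_one.1 (((hq.isHerm (Fin 4)).card_center_sisom hq (hermB_sep _)
    (by simp)).trans (by simp)), Subgroup.mem_bot] at h1
  simpa using h1

end Two

theorem exists_phi (hq : QConj σ q) (h23 : q = 2 ∨ q = 3) {g : SU 4 F q →* G}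
    {Ψ0 Ψ1 : SU 3 F q →* G} {A B C : Subgroup G} (G0 : Good hq Ψ0 A B) (G1 : Good hq Ψ1 B C)
    (e : Ψ1.comp (j1 hq) = Ψ0.comp (j2 hq)) (hc : ∀ x ∈ A, ∀ y ∈ C, x * y = y * x)
    (r0 : Ψ0.range ≤ g.range) (r1 : Ψ1.range ≤ g.range) :
    ∃ Φ : SU 4 F q →* G, Φ.comp (k1 hq) = Ψ0 ∧ Φ.comp (k2 hq) = Ψ1 := by
  obtain ⟨x, hx⟩ : ∃ x, g x ≠ 1 := by
    obtain ⟨w, -, w1⟩ := exists_su2_el hq (a := 0) (b := 1) (by simp)
    obtain ⟨x, hx⟩ := r0 ⟨j1 hq w, rfl⟩
    exact ⟨x, fun e => by simp [(injective_iff_map_eq_one _).1 G0.i1 w (hx ▸ e)] at w1⟩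
  have hk := ker_su4 hq hx
  obtain ⟨φ0, e0⟩ := exists_lift hq hk (χ := Ψ0.comp (j1 hq)) (by
    rintro _ ⟨x, rfl⟩; exact r0 ⟨_, rfl⟩)
  obtain ⟨φ1, e1⟩ := exists_lift hq hk (χ := Ψ0.comp (j2 hq)) (by
    rintro _ ⟨x, rfl⟩; exact r0 ⟨_, rfl⟩)
  obtain ⟨φ2, e2⟩ := exists_lift hq hk (χ := Ψ1.comp (j2 hq)) (by
    rintro _ ⟨x, rfl⟩; exact r1 ⟨_, rfl⟩)
  have f0 : g.comp φ0 = _ := MonoidHom.ext e0
  have f1 : g.comp φ1 = _ := MonoidHom.ext e1
  have f2 : g.comp φ2 = _ := MonoidHom.ext e2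
  have inj : ∀ {φ : SU 2 F q →* SU 4 F q} {χ : SU 2 F q →* G}, (∀ x, g (φ x) = χ x) →
      Function.Injective χ → Function.Injective φ := fun h i x y e => i (by rw [← h, e, h])
  obtain ⟨β, hβ, b0, b1, b2, b3⟩ := Tr.exists_hom hq h23 (φ0 := φ0) (φ1 := φ1) (φ2 := φ2)
    ⟨Pr.lift hq hk (by rw [f0, f1]; exact (pr_j hq).1.comp _),
      Pr.lift hq hk (by rw [f0, f1]; exact (pr_j hq).2.comp _),
      Pr.lift hq hk (by rw [f1, f2, ← e]; exact (pr_j hq).1.comp _),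
      Pr.lift hq hk (by rw [f1, f2, ← e]; exact (pr_j hq).2.comp _),
      fun x y => mul_inv_eq_iff_eq_mul.1 (lift_ext hq hk
        (φ := (MulAut.conj (φ0 x)).toMonoidHom.comp φ2) (φ' := φ2) (fun y => by
          simpa [mul_inv_eq_iff_eq_mul, e0, e2] using
            hc _ (G0.r1.le ⟨x, rfl⟩) _ (G1.r2.le ⟨y, rfl⟩)) y)⟩
    (inj e0 G0.i1) (inj e1 G0.i2) (inj e2 G1.i2)
  have key : ∀ i (hi : i + 3 ≤ 4) (Ψ : SU 3 F q →* G), Ψ.range ≤ g.range →
      (∀ x, g (β (emb hq (sh_inj 3 i hi) (j1 hq x))) = Ψ (j1 hq x)) →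
      (∀ x, g (β (emb hq (sh_inj 3 i hi) (j2 hq x))) = Ψ (j2 hq x)) →
      (g.comp β).comp (emb hq (sh_inj 3 i hi)) = Ψ := fun i hi Ψ r a1 a2 => by
    rcases h23 with rfl | rfl
    · have i1 : Function.Injective (g.comp β) := (inj_su4_two hq hx).comp hβ.1
      have r' : ∀ x, Ψ x ∈ (g.comp β).range := fun x => by
        obtain ⟨y, hy⟩ := r ⟨x, rfl⟩
        obtain ⟨y, rfl⟩ := hβ.2 y
        exact ⟨y, hy⟩
      let ψ := (MonoidHom.ofInjective i1).symm.toMonoidHom.comp (Ψ.codRestrict _ r')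
      have hψ : ∀ x, (g.comp β) (ψ x) = Ψ x := fun x => MonoidHom.apply_ofInjective_symm i1 _
      ext x
      rw [← hψ, ← rigid_two hq (ψ' := ψ) (fun x => i1 ((a1 x).trans (hψ _).symm))
        (fun x => i1 ((a2 x).trans (hψ _).symm)) (cent_two hq i hi)]
      rfl
    · ext x
      exact (range_sup hq le_rfl).ge.trans (sup_le (c := MonoidHom.eqLocus _ Ψ)
        (by rintro _ ⟨x, rfl⟩; exact a1 x) (by rintro _ ⟨x, rfl⟩; exact a2 x)) (Subgroup.mem_top x)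
  exact ⟨g.comp β, key 0 _ _ r0 (fun x => (congrArg g (b0 x)).trans (e0 x))
    fun x => (congrArg g (b1 x)).trans (e1 x), key 1 _ _ r1
      (fun x => (congrArg g (b2 x)).trans ((e1 x).trans (DFunLike.congr_fun e x).symm))
      fun x => (congrArg g (b3 x)).trans (e2 x)⟩

theorem phan_small (hq : QConj σ q) (h23 : q = 2 ∨ q = 3) (hn : 3 ≤ n) (U : Fin n → Subgroup G)
    (e : ∀ i, SU 2 F q ≃* U i) (V : Fin n → Fin n → Subgroup G)
    (h1 : ∀ i j : Fin n, (i : ℕ) + 2 ≤ j → ∀ x ∈ U i, ∀ y ∈ U j, x * y = y * x)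
    (h2 : ∀ i j : Fin n, (i : ℕ) + 1 = j → IsStandardUnitaryPair (V i j) (U i) (U j) F q)
    (hgen : (⨆ i, U i) ⊔ (⨆ (i : Fin n) (j : Fin n) (_ : (i : ℕ) + 1 = j), V i j) = ⊤)
    (h4 : ∀ i j k : Fin n, (i : ℕ) + 1 = j → (j : ℕ) + 1 = k →
      ∃ g : SU 4 F q →* ↥(V i j ⊔ V j k), Function.Surjective g)
    (h5 : ∀ i j k : Fin n, (j : ℕ) + 1 = k → ((i : ℕ) + 2 ≤ j ∨ (k : ℕ) + 2 ≤ i) →
      ∀ x ∈ U i, ∀ y ∈ V j k, x * y = y * x)
    (h6 : ∀ i j k l : Fin n, (i : ℕ) + 1 = j → (k : ℕ) + 1 = l → (j : ℕ) + 2 ≤ k →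
      ∀ x ∈ V i j, ∀ y ∈ V k l, x * y = y * x) :
    ∃ f : SU (n + 1) F q →* G, Function.Surjective f := by
  classical
  let U' : ℕ → Subgroup G := fun i => if h : i < n then U ⟨i, h⟩ else ⊥
  let V' : ℕ → Subgroup G := fun i => if h : i + 1 < n then V ⟨i, by omega⟩ ⟨i + 1, h⟩ else ⊥
  have hU : ∀ i (h : i < n), U' i = U ⟨i, h⟩ := fun i h => dif_pos h
  have hV : ∀ i (h : i + 1 < n), V' i = V ⟨i, by omega⟩ ⟨i + 1, h⟩ := fun i h => dif_pos h
  have a1 : ∀ i, i + 2 < n → ∀ x ∈ U' i, ∀ y ∈ U' (i + 2), x * y = y * x := fun i h => by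
    rw [hU i (by omega), hU _ h]
    exact h1 _ _ le_rfl
  obtain ⟨Ψ, a2, a3⟩ := exists_chain hq U' V' a1 fun i h => by
    rw [hU i (by omega), hU _ h, hV i h]
    exact good_of_std' hq (e _) (e _) (h2 _ _ rfl)
  have m : ∀ i (h : i + 1 < n) x, Ψ i x ∈ V ⟨i, by omega⟩ ⟨i + 1, h⟩ := fun i h x =>
    ((a2 i h).2.trans (hV i h)).le ⟨x, rfl⟩
  obtain ⟨f, hf⟩ := exists_hom_SU3 hq hn Ψ (fun i h => by
    obtain ⟨g, hg⟩ := h4 ⟨i, by omega⟩ ⟨i + 1, by omega⟩ ⟨i + 2, h⟩ rfl rfl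
    have r := MonoidHom.range_comp (Subgroup.subtype _) g
    rw [MonoidHom.range_eq_top.2 hg, ← MonoidHom.range_eq_map, Subgroup.range_subtype] at r
    exact exists_phi hq h23 (a2 i (by omega)).1 (a2 _ h).1 (a3 i h) (a1 i h)
      (r.ge.trans' (le_sup_of_le_left ((a2 i (by omega)).2.trans (hV i (by omega))).le))
      (r.ge.trans' (le_sup_of_le_right ((a2 _ h).2.trans (hV _ h)).le)))
    (fun i j h hj x y => h5 ⟨i, by omega⟩ _ _ rfl (.inl h) _
      (((a2 i (by omega)).1.r1.trans (hU i _)).le ⟨x, rfl⟩) _ (m j hj y))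
    (fun i h x y => (h5 ⟨i + 3, h⟩ _ _ rfl (.inr le_rfl) _
      (((a2 (i + 2) h).1.r2.trans (hU _ _)).le ⟨y, rfl⟩) _ (m i (by omega) x)).symm)
    fun i j h hj x y => h6 _ _ _ _ rfl rfl h _ (m i (by omega) x) _ (m j hj y)
  have a4 : ∀ i, i + 1 < n → U' i ≤ f.range ∧ U' (i + 1) ≤ f.range := fun i h => by
    rw [← (a2 i h).1.r1, ← (a2 i h).1.r2]
    constructor <;> rintro _ ⟨x, rfl⟩ <;> exact hf i h ⟨_, rfl⟩
  refine ⟨f, MonoidHom.range_eq_top.1 (eq_top_iff.2 (hgen.ge.trans (sup_le (iSup_le fun ⟨i, hi⟩ => ?_)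
    (iSup_le fun ⟨i, hi⟩ => iSup_le fun ⟨j, hj⟩ => iSup_le fun h => ?_))))⟩
  · rw [← hU i hi]
    cases i with
    | zero => exact (a4 0 (by omega)).1
    | succ i => exact (a4 i hi).2
  · obtain rfl : i + 1 = j := h
    exact ((a2 i hj).2.trans (hV i hj)).ge.trans (hf i hj)

end Cfsg.Agent.H12.Ph
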