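import Mathlib
import Cfsg.Agent.H12.Pre
import Cfsg.Agent.H17.MulF

/-!
Steinberg's theorem for the classical groups of types `C` and `D` in the language of frames.
-/

set_option autoImplicit false
set_option linter.unusedSectionVars false

namespace Cfsg.Agent.H12

open H10 H11 H17 H17.CT H17.Frame H19.St RGD
open scoped MatrixGroups

variable {F : Type*} [Field F] {V : Type*} [AddCommGroup V] [Module F V] {σ : F →+* F}
  {C : H17.CT} {ε κ : F} {τ : F →+ F} {B : V →ₛₗ[σ] V →ₗ[F] F} {Q : V → F}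
  [FiniteDimensional F V] {P : Frame C ℤ ε κ τ B Q} {E : Type*} [Group E] {f : E →* P.cl.Om}

/-- the commutators of elements of `A` and `B` lie in `D` -/
def CmIn (A B D : Subgroup E) : Prop := ∀ u ∈ A, ∀ v ∈ B, u * v * u⁻¹ * v⁻¹ ∈ D

theorem CmIn.symm {A B D : Subgroup E} (h : CmIn A B D) : CmIn B A D := fun u hu v hv => by
  simpa [mul_assoc] using inv_mem (h v hv u hu)

theorem CmIn.mono {A B D D' : Subgroup E} (h : CmIn A B D) (e : D ≤ D') : CmIn A B D' :=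
  fun u hu v hv => e (h u hu v hv)

theorem xo_eq_one {a b : C.ι} (h : idx a ≠ idx b) {t : F} (e : P.xo a b t = 1) : t = 0 := by
  have := P.X_swap_right (a := a) (b := b) nx nx t
  rw [← P.xo_val h, e] at this
  simpa [P.f_ne, P.β_ne] using this

theorem vp_iff (h0 : ∀ w ∈ P.V0, w = 0) {w : V} {x : F} : P.VP w x ↔ w = 0 ∧ τ x = 0 :=
  ⟨fun h => ⟨h0 w h.1, by rw [h.2, h0 w h.1, P.cl.Q_zero]⟩, fun h => h.1 ▸ vp_zero h.2⟩

theorem nq_of (h0 : ∀ w ∈ P.V0, w = 0) (h : C.isD = false) : NQ τ :=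
  (P.hY h).resolve_right fun ⟨w, a, b⟩ => a (h0 w b)

theorem T_comm (h0 : ∀ w ∈ P.V0, w = 0) : ∀ a ∈ P.rgdO.T, ∀ b ∈ P.rgdO.T, a * b = b * a :=
  fun a ha b hb => Subtype.ext (P.ext (fun c => by
    obtain ⟨x, hx⟩ := P.mem_rgdO_T.1 ha c
    obtain ⟨y, hy⟩ := P.mem_rgdO_T.1 hb c
    simp [hx, hy, smul_smul, mul_comm]) fun w hw => by simp [h0 w hw])

theorem frame_ab (h0 : ∀ w ∈ P.V0, w = 0) : P.rgdO.Ab := fun r a ha b hb => by
  rcases root_cases r with ⟨c, d, h, rfl⟩ | ⟨h, c, rfl⟩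
  · obtain ⟨s, rfl⟩ := (P.mem_rx h).1 ha
    obtain ⟨t, rfl⟩ := (P.mem_rx h).1 hb
    rw [← P.xo_add h, ← P.xo_add h, add_comm]
  · obtain ⟨w, x, hw, rfl⟩ := (P.mem_ry h).1 ha
    obtain ⟨w', y, hw', rfl⟩ := (P.mem_ry h).1 hb
    rw [yo_mul c hw hw', yo_mul c hw' hw, h0 w hw.1, h0 w' hw'.1, add_comm x]

theorem itv_xx {a b c : C.ι} (h : idx a ≠ idx b) (h' : idx a.swap ≠ idx c) (e : idx b ≠ idx c) :
    rx ℤ e ∈ (C.rs ℤ).itv (rx ℤ h) (rx ℤ h') :=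
  rt_mem_itv.2 ⟨1, 1, one_pos, one_pos, by
    rw [vec_of_ne nx, vec_of_ne nx, vec_of_ne nx, wt_swap]; module⟩

theorem itv_xx' (h0 : ∀ w ∈ P.V0, w = 0) {a b : C.ι} (h : idx a ≠ idx b)
    (h' : idx a ≠ idx b.swap) (hD : C.isD = false) :
    ry ℤ hD a ∈ (C.rs ℤ).itv (rx ℤ h) (rx ℤ h') := by
  obtain ⟨p, hp, e⟩ := P.h1 (nq_of h0 hD)
  exact rt_mem_itv.2 ⟨p, p, hp, hp, by
    rw [vec_self, vec_of_ne nx, vec_of_ne nx, wt_swap, ← e]; module⟩

theorem itv_xy {a b : C.ι} (h : idx a ≠ idx b) (hD : C.isD = false) :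
    ry ℤ hD b ∈ (C.rs ℤ).itv (rx ℤ h) (ry ℤ hD a.swap) :=
  rt_mem_itv.2 ⟨_, 1, dn_pos' (C := C), one_pos, by
    rw [vec_self, vec_self, vec_of_ne nx, wt_swap]; module⟩

theorem itv_xy' {a b : C.ι} (h : idx a ≠ idx b) (h' : idx b ≠ idx a.swap) (hD : C.isD = false) :
    rx ℤ h' ∈ (C.rs ℤ).itv (rx ℤ h) (ry ℤ hD a.swap) :=
  rt_mem_itv.2 ⟨1, _, one_pos, dn'_pos' (C := C), by
    rw [vec_self, vec_of_ne nx, vec_of_ne nx, wt_swap, smul_smul, mul_comm, dn_cast]; module⟩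

theorem rx_ne_ry {a b c : C.ι} (h : idx a ≠ idx b) (hD : C.isD = false) : rx ℤ h ≠ ry ℤ hD c :=
  fun e => by rcases rt_eq_iff.1 e with ⟨rfl, rfl⟩ | ⟨rfl, rfl⟩ <;> exact h rfl

theorem frame_adj (h0 : ∀ w ∈ P.V0, w = 0) (hn : 2 ≤ C.n) (hD : C.isD = true → 3 ≤ C.n) :
    P.rgdO.Adj := fun r => by
  have key : ∀ {a b : C.ι} (h : idx a ≠ idx b) (hD : C.isD = false) (S : Set (C.Φ ℤ)) {x : F},
      τ x = 0 → ∀ t, rx ℤ h ∈ S → ry ℤ hD b.swap ∈ S →
      P.yo a 0 (ε * (σ t * t * σ x)) * P.xo a b.swap (-ε * P.β b * x * t) ∈ P.rgdO.US S := by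
    intro a b h hD S x hx t h1 h2
    have := P.cm_yx h (vp_zero hx) t
    rw [smul_zero] at this
    rw [← this]
    have a1 := U_le_US (X := P.rgdO) h1 (P.xo_mem h t)
    have a2 := U_le_US (X := P.rgdO) h2 (yo_mem hD b.swap (vp_zero (P := P) hx))
    exact mul_mem (mul_mem (mul_mem a2 a1) (inv_mem a2)) (inv_mem a1)
  have ne : ∀ {a b : C.ι} (h : idx b ≠ idx a) (hD : C.isD = false),
      ry ℤ hD b.swap ≠ (C.rs ℤ).neg (rx ℤ h) := fun h hD e => by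
    rw [neg_rt] at e
    exact rx_ne_ry (show idx _ ≠ idx _ from by simpa only [idx_swap] using h) hD e.symm
  rcases root_cases r with ⟨a, d, h, rfl⟩ | ⟨h, a, rfl⟩
  · cases e : C.isD
    · obtain ⟨b, rfl⟩ : ∃ b : C.ι, d = b.swap := ⟨d.swap, by simp⟩
      have h1 : idx b ≠ idx a := by simpa only [idx_swap] using h.symm
      refine ⟨rx ℤ h1, ry ℤ e b.swap, ne h1 e, itv_xy' h1 h e, fun g hg => ?_⟩
      obtain ⟨t, rfl⟩ := (P.mem_rx h).1 hg
      obtain ⟨x, x0, hx⟩ := nq_of h0 e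
      have := key h1.symm e {t | (t = rx ℤ h1 ∨ t = ry ℤ e b.swap ∨
        t ∈ (C.rs ℤ).itv (rx ℤ h1) (ry ℤ e b.swap)) ∧ t ≠ rx ℤ h} hx (t / (-ε * P.β b * x))
        ⟨.inl (rx_symm _), fun e => by
          rcases rt_eq_iff.1 e with ⟨-, e⟩ | ⟨e, -⟩
          · exact swap_ne_self _ e.symm
          · exact h (e ▸ rfl)⟩ ⟨.inr (.inl rfl), (rx_ne_ry h e).symm⟩
      rw [mul_div_cancel₀ _ (by simp [P.cl.eps_ne, P.β_ne, x0])] at this
      refine (mul_mem_cancel_left (U_le_US (r := ry ℤ e a) ?_ (yo_mem e a (vp_zero ?_)))).1 this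
      · exact ⟨.inr (.inr (itv_xy h1 e)), (rx_ne_ry h e).symm⟩
      rw [P.cl.tau_eps, P.cl.tau_norm, P.cl.tau_sigma, hx, mul_zero]
    · obtain ⟨b, h1, h2⟩ := exists_ix₂ (hD e) a d
      have h3 : idx b.swap ≠ idx d := ix
      refine ⟨rx ℤ h1.symm, rx ℤ h3, fun e => ?_, itv_xx _ _ h, fun g hg => ?_⟩
      · rw [neg_rt] at e
        rcases rt_eq_iff.1 e with ⟨-, e⟩ | ⟨-, e⟩
        · exact h (by rw [e, idx_swap])
        · exact h2 (by rw [e, idx_swap])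
      obtain ⟨t, rfl⟩ := (P.mem_rx h).1 hg
      have a1 := U_le_US (X := P.rgdO) (S := {t | (t = rx ℤ h1.symm ∨ t = rx ℤ h3 ∨
        t ∈ (C.rs ℤ).itv (rx ℤ h1.symm) (rx ℤ h3)) ∧ t ≠ rx ℤ h}) (r := rx ℤ h1)
        ⟨.inl (rx_symm _).symm, fun e => by
          rcases rt_eq_iff.1 e with ⟨-, e⟩ | ⟨e, -⟩
          · exact h2 (e ▸ rfl)
          · exact h (e ▸ rfl)⟩ (P.xo_mem h1 t)
      have a2 := U_le_US (X := P.rgdO) (S := {t | (t = rx ℤ h1.symm ∨ t = rx ℤ h3 ∨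
        t ∈ (C.rs ℤ).itv (rx ℤ h1.symm) (rx ℤ h3)) ∧ t ≠ rx ℤ h}) (r := rx ℤ h3)
        ⟨.inr (.inl rfl), fun e => by
          rcases rt_eq_iff.1 e with ⟨e, -⟩ | ⟨e, -⟩
          · exact h1 (by rw [← e, idx_swap])
          · exact h3 (e ▸ rfl)⟩ (P.xo_mem h3 (-P.β b))
      have := mul_mem (mul_mem (mul_mem a2 a1) (inv_mem a2)) (inv_mem a1)
      rwa [P.cm_xx h1 h h2.symm, neg_mul_neg, P.β_mul, one_mul] at this
  · obtain ⟨b, h1⟩ := exists_ix₁ hn a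
    have h2 : idx a ≠ idx b.swap := ix
    refine ⟨rx ℤ h1.symm, ry ℤ h b.swap, ne h1.symm h, itv_xy h1.symm h, fun g hg => ?_⟩
    obtain ⟨w, x, hw, rfl⟩ := (P.mem_ry h).1 hg
    obtain ⟨rfl, hx⟩ := (vp_iff h0).1 hw
    have := key h1 h {t | (t = rx ℤ h1.symm ∨ t = ry ℤ h b.swap ∨
      t ∈ (C.rs ℤ).itv (rx ℤ h1.symm) (ry ℤ h b.swap)) ∧ t ≠ ry ℤ h a} (x := ε * σ x)
      (by rw [P.cl.tau_eps, P.cl.tau_sigma, hx]) 1 ⟨.inl (rx_symm _).symm, rx_ne_ry _ _⟩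
      ⟨.inr (.inl rfl), fun e => by
        rcases rt_eq_iff.1 e with ⟨e, -⟩ | ⟨e, -⟩ <;> exact h2 (e ▸ rfl)⟩
    rw [map_one, one_mul, one_mul, map_mul, P.cl.sigma_eps, P.cl.invol, ← mul_assoc,
      P.cl.eps_mul, one_mul] at this
    refine (mul_mem_cancel_right (U_le_US (r := rx ℤ h2) ?_ (P.xo_mem h2 _))).1 this
    exact ⟨.inr (.inr (itv_xy' h1.symm h2 h)), rx_ne_ry _ _⟩

variable (P f) in
/-- lifts of the root groups of a classical group of type `C` or `D` -/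
structure FS where
  X : C.ι → C.ι → Subgroup E
  Y : C.ι → Subgroup E
  h0 : ∀ w ∈ P.V0, w = 0
  hn : 2 ≤ C.n
  hn' : C.isD = true → 3 ≤ C.n
  sym : ∀ a b, idx a ≠ idx b → X b a = X a b
  mapX : ∀ a b (h : idx a ≠ idx b), (X a b).map f = P.rgdO.U (rx ℤ h)
  injX : ∀ a b, idx a ≠ idx b → ∀ v ∈ X a b, f v = 1 → v = 1
  mapY : ∀ h a, (Y a).map f = P.rgdO.U (ry ℤ h a)
  injY : ∀ a, ∀ v ∈ Y a, f v = 1 → v = 1
  hD : C.isD = true → ∀ a, Y a = ⊥
  c1 : ∀ a b c d, idx a ≠ idx b → idx c ≠ idx d → idx a ≠ idx c → idx a ≠ idx d →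
    idx b ≠ idx c → idx b ≠ idx d → CmIn (X a b) (X c d) ⊥
  c2 : ∀ a b c, idx a ≠ idx b → idx a ≠ idx c → idx b ≠ idx c → CmIn (X a b) (X a c) ⊥
  c3 : ∀ a b c, idx a ≠ idx b → idx a ≠ idx c → idx b ≠ idx c →
    CmIn (X a b) (X a.swap c) (X b c)
  c4 : ∀ a b, idx a ≠ idx b → CmIn (X a b) (X a b.swap) (Y a)
  c5 : ∀ a b c, idx a ≠ idx b → idx a ≠ idx c → idx b ≠ idx c → CmIn (X a b) (Y c) ⊥
  c6 : ∀ a b, idx a ≠ idx b → CmIn (X a b) (Y a) ⊥
  c7 : ∀ a b, idx a ≠ idx b → CmIn (X a b) (Y a.swap) (Y b ⊔ X b a.swap)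
  c8 : ∀ a b, idx a ≠ idx b → CmIn (Y a) (Y b) ⊥

namespace FS

variable (S : FS P f)

def VL (a b : C.ι) : Subgroup E := if b = a then S.Y a else S.X a b

def VR (r : C.Φ ℤ) : Subgroup E :=
  ⨆ (a : C.ι) (b : C.ι) (h : C.Val a b) (_ : r = rt ℤ h), S.VL a b

theorem V_rt {a b : C.ι} (h : C.Val a b) : S.VR (rt ℤ h) = S.VL a b := by
  refine le_antisymm (iSup_le fun c => iSup_le fun d => iSup_le fun h' => iSup_le fun e => ?_)
    (le_iSup_of_le a (le_iSup_of_le b (le_iSup_of_le h (le_iSup_of_le rfl le_rfl))))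
  rcases rt_eq_iff.1 e with ⟨rfl, rfl⟩ | ⟨rfl, rfl⟩
  · exact le_rfl
  · by_cases e : a = b
    · rw [e]
    · rw [VL, VL, if_neg e, if_neg (Ne.symm e), S.sym _ _ (ix_of_ne e h'.1)]

theorem V_rx {a b : C.ι} (h : idx a ≠ idx b) : S.VR (rx ℤ h) = S.X a b := by
  rw [V_rt, VL, if_neg nx]

theorem V_ry (h : C.isD = false) (a : C.ι) : S.VR (ry ℤ h a) = S.Y a := by
  rw [V_rt, VL, if_pos rfl]

def pre : Pre P.rgdO f where
  V := S.VR
  map_V := fun r => by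
    rcases root_cases r with ⟨a, b, h, rfl⟩ | ⟨h, a, rfl⟩
    · rw [V_rx, S.mapX]
    · rw [V_ry, S.mapY]
  inj := fun r => by
    rcases root_cases r with ⟨a, b, h, rfl⟩ | ⟨h, a, rfl⟩
    · rw [V_rx]; exact S.injX a b h
    · rw [V_ry]; exact S.injY a
  comm := fun r s h1 h2 => by
    have le : ∀ {r s t : C.Φ ℤ}, t ∈ (C.rs ℤ).itv r s →
        S.VR t ≤ ⨆ t ∈ (C.rs ℤ).itv r s, S.VR t := fun {r s t} h =>
      le_iSup₂ (f := fun t (_ : t ∈ (C.rs ℤ).itv r s) => S.VR t) t h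
    refine pair_cases (Pr := fun r s => CmIn (S.VR r) (S.VR s) (⨆ t ∈ (C.rs ℤ).itv r s, S.VR t))
      (fun r s h => by rw [RS.itv_comm]; exact h.symm) ?_ ?_ ?_ ?_ ?_ ?_ ?_ ?_ r s h1 h2
    · intro a b c d h h' a1 a2 a3 a4
      rw [V_rx, V_rx]; exact (S.c1 a b c d h h' a1 a2 a3 a4).mono bot_le
    · intro a b c h h' a1
      rw [V_rx, V_rx]; exact (S.c2 a b c h h' a1).mono bot_le
    · intro a b c h h' a1
      rw [V_rx, V_rx]
      exact (S.c3 a b c h (by simpa only [idx_swap] using h') a1).mono ((S.V_rx a1).ge.trans (le (itv_xx h h' a1)))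
    · intro a b h h'
      rw [V_rx, V_rx]
      refine (S.c4 a b h).mono ?_
      cases e : C.isD
      · exact (S.V_ry e a).ge.trans (le (itv_xx' S.h0 h h' e))
      · rw [S.hD e]; exact bot_le
    · intro a b c h hD a1 a2
      rw [V_rx, V_ry]; exact (S.c5 a b c h a1 a2).mono bot_le
    · intro a b h hD
      rw [V_rx, V_ry]; exact (S.c6 a b h).mono bot_le
    · intro a b h hD
      rw [V_rx, V_ry]
      exact (S.c7 a b h).mono (sup_le ((S.V_ry hD b).ge.trans (le (itv_xy h hD)))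
        ((S.V_rx ix).ge.trans (le (itv_xy' h ix hD))))
    · intro a b hD h
      rw [V_ry, V_ry]; exact (S.c8 a b h).mono bot_le
  ab := frame_ab S.h0
  adj := frame_adj S.h0 S.hn S.hn'

theorem X_le {a b : C.ι} (h : idx a ≠ idx b) : S.X a b ≤ S.pre.VS Set.univ :=
  (S.V_rx h).ge.trans (S.pre.V_le_VS (r := rx ℤ h) trivial)

theorem Y_le (a : C.ι) : S.Y a ≤ S.pre.VS Set.univ := by
  cases e : C.isD
  · exact (S.V_ry e a).ge.trans (S.pre.V_le_VS (r := ry ℤ e a) trivial)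
  · rw [S.hD e]; exact bot_le

theorem map_top : (S.pre.VS Set.univ).map f = ⊤ := by rw [Pre.map_VS, P.rgdO_US_univ]

open Classical in
/-- the lift of a root element -/
noncomputable def x (a b : C.ι) (t : F) : E :=
  if h : ∃ v ∈ S.X a b, f v = P.xo a b t then h.choose else 1

theorem x_spec {a b : C.ι} (h : idx a ≠ idx b) (t : F) :
    S.x a b t ∈ S.X a b ∧ f (S.x a b t) = P.xo a b t := by
  have : ∃ v ∈ S.X a b, f v = P.xo a b t := (S.mapX a b h).ge (P.xo_mem h t)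
  rw [x, dif_pos this]; exact this.choose_spec

theorem eq_x {a b : C.ι} (h : idx a ≠ idx b) {t : F} {v : E} (hv : v ∈ S.X a b)
    (e : f v = P.xo a b t) : v = S.x a b t :=
  mul_inv_eq_one.1 (S.injX a b h _ (mul_mem hv (inv_mem (S.x_spec h t).1))
    (by simp [e, (S.x_spec h t).2]))

theorem exists_x {a b : C.ι} (h : idx a ≠ idx b) {v : E} (hv : v ∈ S.X a b) :
    ∃ t, v = S.x a b t := by
  obtain ⟨t, ht⟩ := (P.mem_rx h).1 ((S.mapX a b h).le ⟨v, hv, rfl⟩)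
  exact ⟨t, S.eq_x h hv ht⟩

/-- the lift of `mo` -/
noncomputable def m (a b : C.ι) (t : F) : E :=
  S.x a b t * S.x a.swap b.swap (P.β a * P.β b * (σ t)⁻¹) * S.x a b t

theorem map_m {a b : C.ι} (h : idx a ≠ idx b) (t : F) : f (S.m a b t) = P.mo a b t := by
  rw [m, map_mul, map_mul, (S.x_spec h t).2, (S.x_spec ix _).2, mo]

theorem m_mem {a b : C.ι} (h : idx a ≠ idx b) (t : F) : S.m a b t ∈ S.pre.VS Set.univ :=
  mul_mem (mul_mem (S.X_le h (S.x_spec h _).1) (S.X_le ix (S.x_spec ix _).1))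
    (S.X_le h (S.x_spec h _).1)

theorem m_neg {a b : C.ι} (h : idx a ≠ idx b) (t : F) : S.m a b (-t) = (S.m a b t)⁻¹ := by
  have e : ∀ {a b : C.ι}, idx a ≠ idx b → ∀ t, S.x a b (-t) = (S.x a b t)⁻¹ := fun h t =>
    (S.eq_x h (inv_mem (S.x_spec h t).1) (by rw [map_inv, (S.x_spec h t).2, P.xo_neg h])).symm
  rw [m, m, map_neg, inv_neg, mul_neg, e h, e ix]; group

theorem mem_L [Finite F] {i : Fin C.n} (h : idx (C.sa i) ≠ idx (C.sb i)) {g : E}
    (hg : g ∈ S.pre.L i) (ht : f g ∈ P.rgdO.T) :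
    ∃ t, t ≠ 0 ∧ g = S.m (C.sa i) (C.sb i) t * (S.m (C.sa i) (C.sb i) 1)⁻¹ := by
  have e1 : S.pre.V ((C.rs ℤ).simple i) = S.X (C.sa i) (C.sb i) := S.V_rx h
  have e3 : ∀ t, t ≠ 0 → P.rgdO.Rep (P.mo (C.sa i) (C.sb i) t) ((C.rs ℤ).s i) := fun t ht => by
    simpa using (rep_m (X := P.rgdO) i).T_mul (P.mem_T_of_mon (g' := P.rgdO.m i) (P.mon_mo h ht)
      (P.mon_m i))
  have e2 : S.pre.V ((C.rs ℤ).neg ((C.rs ℤ).simple i)) = S.X (C.sa i).swap (C.sb i).swap := by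
    rw [CT.rs_simple, neg_rt]; exact S.V_rx ix
  generalize C.sa i = a at *
  generalize C.sb i = b at *
  have h' : idx a.swap ≠ idx b.swap := ix
  have e4 : ∀ t, ww (S.x a b) (fun s => S.x a.swap b.swap (-(P.β a * P.β b) * σ s)) t = S.m a b t :=
    fun t => by simp [ww, m]
  obtain ⟨φ, h1, h2⟩ := S.pre.exists_sl2 (i := i) (x := S.x a b)
    (y := fun s => S.x a.swap b.swap (-(P.β a * P.β b) * σ s)) (fun t => e1 ▸ (S.x_spec h t).1)
    (fun t => e2 ▸ (S.x_spec h' _).1) ⟨fun s t => by simp only [(S.x_spec h _).2, P.xo_add h],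
      fun s t => by simp only [(S.x_spec h' _).2, map_add, mul_add, P.xo_add h'], fun t ht u => by
        have := e4 t
        simp only [ww] at this
        rw [← map_mul, ← map_mul, this, S.map_m h, (S.x_spec h _).2, (S.x_spec h' _).2,
          ← mul_inv_eq_iff_eq_mul, conj_xo (c := b.swap) (d := a.swap) h h'.symm
          (by rw [P.mo_val h]; exact P.mX_left nx nx ht)
          (by rw [P.mo_val h]; exact P.mX_right nx nx ht), P.xo_comm h']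
        congr 1
        simp only [map_mul, map_neg, map_inv₀, P.cl.invol, P.sigma_β, P.cl.sigma_eps, map_div₀,
          map_pow]
        field_simp
        linear_combination (P.β a * P.β b * σ u * (σ t)⁻¹ ^ 2) * P.cl.eps_mul⟩
    fun t ht => by rw [e4, S.map_m h]; exact e3 t ht
  have e5 : ∀ t, φ (ww xx yy t) = S.m a b t := fun t => by
    rw [← e4]; simp only [ww, map_mul, h1, h2]
  have e6 : ∀ t, φ (hh xx yy t) = S.m a b t * (S.m a b 1)⁻¹ := fun t => by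
    rw [hh, map_mul, map_inv, e5, e5]
  simpa only [e6] using S.pre.mem_of_sl2 φ (fun v => by
      rw [e1]; simp only [h1]
      exact ⟨S.exists_x h, by rintro ⟨t, rfl⟩; exact (S.x_spec h t).1⟩)
    (fun v hv => by
      obtain ⟨t, rfl⟩ := S.exists_x h' (e2 ▸ hv)
      refine ⟨σ (-(P.β a * P.β b) * t), ?_⟩
      rw [h2, P.cl.invol]
      congr 1
      linear_combination (-t * P.β b * P.β b) * P.β_mul a - t * P.β_mul b)
    (fun t ht => by rw [e6, map_mul, map_inv, S.map_m h, S.map_m h]; exact P.ho_mem h ht)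
    (fun t ht => by rw [e5, S.map_m h]; exact e3 t ht) hg ht

theorem map_h {a b : C.ι} (h : idx a ≠ idx b) (t : F) :
    f (S.m a b t * (S.m a b 1)⁻¹) = P.ho a b t := by
  rw [map_mul, map_inv, S.map_m h, S.map_m h, ho]

theorem inj_L [Finite F] {i : Fin C.n} (h : idx (C.sa i) ≠ idx (C.sb i)) :
    ∀ g ∈ S.pre.L i, f g = 1 → g = 1 := fun g hg e => by
  obtain ⟨t, ht, rfl⟩ := S.mem_L h hg (e ▸ one_mem _)
  have := P.ho_r h ht
  rw [← S.map_h h, e] at this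
  obtain rfl : 1 = t := smul_left_injective F (P.f_ne _) (by simpa using this)
  simp

theorem fix_L {i : Fin C.n} {c : C.ι} (h1 : idx (C.sa i) ≠ idx c) (h2 : idx (C.sb i) ≠ idx c)
    {g : E} (hg : g ∈ S.pre.L i) : (f g).1 (P.f c) = P.f c := by
  have := (S.pre.map_L i).le ⟨g, hg, rfl⟩
  rw [L1, CT.rs_simple, neg_rt] at this
  refine (sup_le (a := P.rgdO.U _) (b := P.rgdO.U _) (c := (MulAction.stabilizer _ (P.f c)).comap
    P.cl.Om.subtype) (fun u hu => ?_) (fun u hu => ?_)) this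
  · exact P.UL_fix (val_simple i) nx nx ((P.mem_rgdO_U _).1 hu)
  · exact P.UL_fix (val_simple i).swap nx nx ((P.mem_rgdO_U _).1 hu)

theorem ker_filt [Finite F] (hL : ∀ i, ∀ g ∈ S.pre.L i, f g = 1 → g = 1) {m : ℕ}
    (hm : m + 1 ≤ C.n) (hm' : C.isD = true → m + 2 ≤ C.n) {g : E} (hg : g ∈ S.pre.VS Set.univ)
    (e : f g = 1) : g ∈ ⨆ (j : Fin C.n) (_ : m ≤ j.1), S.pre.L j ⊓ P.rgdO.T.comap f := by
  refine H12.ker_filt _ (fun i j a ha b hb => S.pre.comm_T hL (T_comm S.h0) (S.pre.le_T i ha) hb)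
    f.ker m (fun i hi a ha b hb hk => ?_) (S.pre.ker_mem_T hg e) e
  have h1 : (f b).1 (P.f (.inl i)) = P.f (.inl i) := by
    refine (iSup₂_le (a := ((MulAction.stabilizer _ (P.f (.inl i))).comap
      P.cl.Om.subtype).comap f) fun j hj u hu => S.fix_L ?_ ?_ hu.1) hb <;>
    rcases simple_cases j with ⟨_, e1, e2⟩ | ⟨_, _, e1, e2⟩ | ⟨_, e0, _, e1, e2⟩ <;>
    simp only [e1, e2, idx, Sum.elim_inl, Sum.elim_inr] <;> grind
  rcases simple_cases i with ⟨_, e1, e2⟩ | ⟨_, _, e1, e2⟩ | ⟨_, e0, _, e1, e2⟩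
  · have h : idx (C.sa i) ≠ idx (C.sb i) := by simp [e1, e2, idx]
    obtain ⟨t, ht, rfl⟩ := S.mem_L h ha.1 ha.2
    have h2 := P.ho_l h ht
    have h3 := congrArg (fun g : P.cl.Om => g.1 (P.f (.inl i))) (MonoidHom.mem_ker.1 hk)
    simp only [map_mul f _ b, S.map_h h, Subgroup.coe_mul, LinearEquiv.mul_apply, h1] at h3
    rw [← e1, h2] at h3
    obtain rfl : t = 1 := by
      rw [← P.cl.invol t, smul_left_injective F (P.f_ne _) (h3.trans (one_smul F _).symm), map_one]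
    simp
  · omega
  · omega

/-- type `C` -/
theorem inj_C [Finite F] (hD : C.isD = false) (hY : ∀ a, ∀ g ∈ S.Y a ⊔ S.Y a.swap, f g = 1 → g = 1) :
    ∀ g ∈ S.pre.VS Set.univ, f g = 1 → g = 1 := fun g hg e => by
  have hL : ∀ i, ∀ g ∈ S.pre.L i, f g = 1 → g = 1 := fun i => by
    rcases simple_cases i with ⟨_, e1, e2⟩ | ⟨_, _, e1, e2⟩ | ⟨_, e0, _, e1, e2⟩
    · exact S.inj_L (by simp [e1, e2, idx])
    · have : S.pre.L i = S.Y (.inl i) ⊔ S.Y (Sum.inl i).swap := by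
        rw [Pre.L, CT.rs_simple, neg_rt]
        change S.VR _ ⊔ S.VR _ = _
        rw [V_rt, V_rt, e1, e2, VL, VL, if_pos rfl, if_pos rfl]
      rw [this]; exact hY _
    · simp [hD] at e0
  have hn := S.hn
  have := S.ker_filt hL (m := C.n - 1) (by omega) (by simp [hD]) hg e
  exact hL ⟨C.n - 1, by omega⟩ g ((iSup₂_le fun j hj => by
    rw [show j = ⟨C.n - 1, by omega⟩ from Fin.ext (by have := j.2; simp; omega)]
    exact inf_le_left : _ ≤ S.pre.L _) this) e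

theorem inj_C' [Finite F] (hD : C.isD = false) {K : Type*} [Field K] [Finite K] (ι : K →+* F)
    (hι : ∀ u, σ (ι u) = ι u) {η : F} (h0 : η ≠ 0) (hη : τ η = 0)
    (h : ∀ c, τ c = 0 → ∃ u, c = ι u * η) : ∀ g ∈ S.pre.VS Set.univ, f g = 1 → g = 1 := by
  have hτ : ∀ u, τ (ι u * η) = 0 := fun u => by
    rcases P.cl.kind with ⟨-, -, -, e⟩ | ⟨-, -, -, e⟩ | ⟨-, -, -, e⟩
    · simp [e]
    · exact absurd (by simpa [e] using hη) h0
    · subst e
      simp only [trHom_apply, map_mul, hι] at hη ⊢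
      linear_combination ι u * hη
  have hτ' : ∀ u, τ (-ι u * (σ η)⁻¹) = 0 := fun u => by
    obtain ⟨v, hv⟩ := h _ ((P.tau_mY (.inl ⟨0, by have := S.hn; omega⟩) (w := 0)
      (hη.trans P.cl.Q_zero.symm) h0).trans (by rw [smul_zero, P.cl.Q_zero]))
    rw [hv, ← mul_assoc, ← map_neg, ← map_mul, hτ]
  have lift : ∀ a c, τ c = 0 → ∃ v ∈ S.Y a, f v = P.yo a 0 c := fun a c hc =>
    (S.mapY hD a).ge (yo_mem hD a (vp_zero hc))
  choose! y hy1 hy2 using lift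
  have hn := S.hn
  let i : Fin C.n := ⟨C.n - 1, by omega⟩
  have e : C.sa i = .inl i ∧ C.sb i = .inl i := by
    rcases simple_cases i with ⟨h, e1, e2⟩ | ⟨_, _, e1, e2⟩ | ⟨_, e0, _, e1, e2⟩
    · simp [i] at h; omega
    · exact ⟨e1, e2⟩
    · simp [hD] at e0
  have e1 : S.pre.V ((C.rs ℤ).simple i) = S.Y (.inl i) := by
    rw [CT.rs_simple]; change S.VR _ = _; rw [V_rt, e.1, e.2, VL, if_pos rfl]
  have e2 : S.pre.V ((C.rs ℤ).neg ((C.rs ℤ).simple i)) = S.Y (Sum.inl i).swap := by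
    rw [CT.rs_simple, neg_rt]; change S.VR _ = _; rw [V_rt, e.1, e.2, VL, if_pos rfl]
  have e7 := P.mon_m i
  rw [e.1, e.2] at e7
  generalize (Sum.inl i : C.ι) = a at e1 e2 e7
  have t0 : ∀ {t : K}, t ≠ 0 → ι t * η ≠ 0 := fun ht => mul_ne_zero ((map_ne_zero ι).2 ht) h0
  have e4 : ∀ t, t ≠ 0 → f (ww (fun u => y a (ι u * η)) (fun u => y a.swap (-ι u * (σ η)⁻¹)) t) =
      P.my a 0 (ι t * η) := fun t ht => by
    simp only [ww, map_mul f, hy2 _ _ (hτ _), hy2 _ _ (hτ' _), my, smul_zero, map_mul σ, hι]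
    congr 3; simp [mul_comm]
  have e8 : ∀ t, t ≠ 0 → P.Mon (C.ρ a a) (P.my a 0 (ι t * η)).1 := fun t ht => by
    rw [P.my_val a (vp_zero (hτ t)) (t0 ht)]
    exact P.mon_mY a (zero_mem _) ((hτ t).trans P.cl.Q_zero.symm) (t0 ht) hD
  have e9 : ∀ t, t ≠ 0 → (P.my a 0 (ι t * η)).1 (P.f a) =
      (-ε * P.β a * (σ (ι t * η))⁻¹) • P.f a.swap := fun t ht => by
    rw [P.my_val a (vp_zero (hτ t)) (t0 ht)]
    exact P.mY_left a (zero_mem _) ((hτ t).trans P.cl.Q_zero.symm) (t0 ht)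
  have e3 : ∀ t, t ≠ 0 → P.rgdO.Rep (P.my a 0 (ι t * η)) ((C.rs ℤ).s i) := fun t ht => by
    simpa using (rep_m (X := P.rgdO) i).T_mul (P.mem_T_of_mon (g' := P.rgdO.m i) (e8 t ht) e7)
  obtain ⟨φ, h1, h2⟩ := S.pre.exists_sl2 (i := i) (x := fun u => y a (ι u * η))
    (y := fun u => y a.swap (-ι u * (σ η)⁻¹)) (fun t => e1 ▸ hy1 _ _ (hτ t))
    (fun t => e2 ▸ hy1 _ _ (hτ' t)) ⟨fun s t => by
        simp only [hy2 _ _ (hτ _), yo_mul a (vp_zero (hτ s)) (vp_zero (hτ t))]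
        simp [add_mul],
      fun s t => by
        simp only [hy2 _ _ (hτ' _), yo_mul _ (vp_zero (hτ' s)) (vp_zero (hτ' t))]
        simp [add_mul, add_comm], fun t ht u => by
        have := e4 t ht
        simp only [ww, map_mul f] at this
        rw [this, hy2 _ _ (hτ _), hy2 _ _ (hτ' _), ← mul_inv_eq_iff_eq_mul,
          conj_yo (vp_zero (hτ u)) (e9 t ht) (by simp)]
        have := (map_ne_zero ι).2 ht
        have := P.cl.eps_ne
        simp only [map_mul, map_neg, map_inv₀, P.cl.invol, P.sigma_β, P.cl.sigma_eps, map_div₀,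
          map_pow, hι, map_zero, smul_zero]
        congr 1
        field_simp
        linear_combination (σ η)⁻¹ * ((ι u * P.β a ^ 2) * P.cl.eps_mul + ι u * P.β_mul a)⟩
    fun t ht => by rw [e4 t ht]; exact e3 t ht
  have e5 : ∀ t, t ≠ 0 → f (φ (ww xx yy t)) = P.my a 0 (ι t * η) := fun t ht => by
    rw [← e4 t ht]; simp only [ww, map_mul φ, h1, h2]
  have e6 : ∀ t, t ≠ 0 → f (φ (hh xx yy t)) = P.my a 0 (ι t * η) * (P.my a 0 (ι 1 * η))⁻¹ :=
    fun t ht => by rw [hh, map_mul, map_mul, map_inv, map_inv, e5 t ht, e5 1 one_ne_zero]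
  have eq : ∀ {a c v}, τ c = 0 → v ∈ S.Y a → f v = P.yo a 0 c → v = y a c := fun hc hv e =>
    mul_inv_eq_one.1 (S.injY _ _ (mul_mem hv (inv_mem (hy1 _ _ hc))) (by simp [e, hy2 _ _ hc]))
  have key : ∀ g ∈ S.pre.L i, f g = 1 → g = 1 := fun g hg e => by
    obtain ⟨t, ht, rfl⟩ := S.pre.mem_of_sl2 φ (fun v => by
        rw [e1]; simp only [h1]
        refine ⟨fun hv => ?_, by rintro ⟨t, rfl⟩; exact hy1 _ _ (hτ t)⟩
        obtain ⟨w, c, hw, e⟩ := (P.mem_ry hD).1 ((S.mapY hD a).le ⟨v, hv, rfl⟩)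
        obtain ⟨rfl, hc⟩ := (vp_iff S.h0).1 hw
        obtain ⟨u, rfl⟩ := h c hc
        exact ⟨u, eq hc hv e⟩)
      (fun v hv => by
        rw [e2] at hv
        obtain ⟨w, c, hw, e⟩ := (P.mem_ry hD).1 ((S.mapY hD _).le ⟨v, hv, rfl⟩)
        obtain ⟨rfl, hc⟩ := (vp_iff S.h0).1 hw
        obtain ⟨u, hu⟩ := h c hc
        obtain ⟨u', hu'⟩ := h _ (hτ' 1)
        have : ι u' ≠ 0 := fun e => by simp [e, h0] at hu'
        refine ⟨u / u', ?_⟩
        rw [h2, eq hc hv e, hu]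
        congr 1
        rw [map_div₀]
        field_simp
        rw [map_one] at hu'
        linear_combination (-ι u) * hu')
      (fun t ht => by rw [e6 t ht]; exact P.mem_T_of_mon (e8 t ht) (e8 1 one_ne_zero))
      (fun t ht => by rw [e5 t ht]; exact e3 t ht) hg (e ▸ one_mem _)
    rw [e6 t ht, mul_inv_eq_one] at e
    have := e9 t ht
    rw [e, e9 1 one_ne_zero] at this
    have := smul_left_injective F (P.f_ne _) this
    simp only [map_mul, hι, mul_eq_mul_left_iff, inv_inj, mul_eq_mul_right_iff, map_eq_zero, h0,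
      or_false, neg_mul, neg_inj, mul_eq_zero, P.cl.eps_ne, P.β_ne] at this
    rw [← ι.injective this, Rel.h_one, map_one]
  have hL : ∀ j, ∀ g ∈ S.pre.L j, f g = 1 → g = 1 := fun j => by
    rcases simple_cases j with ⟨_, e1, e2⟩ | ⟨_, _, e1, e2⟩ | ⟨_, e0, _, e1, e2⟩
    · exact S.inj_L (by simp [e1, e2, idx])
    · rwa [show j = i from Fin.ext (by simp [i]; omega)]
    · simp [hD] at e0
  intro g hg e
  exact key g ((iSup₂_le fun j hj => by
    rw [show j = i from Fin.ext (by have := j.2; simp [i]; omega)]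
    exact inf_le_left : _ ≤ S.pre.L _) (S.ker_filt hL (m := C.n - 1) (by omega) (by simp [hD]) hg e)) e

/-- type `D` -/
theorem ker_D [Finite F] (hD : C.isD = true) {i j : Fin C.n} (hi : i.1 + 2 = C.n)
    (hj : j.1 + 1 = C.n) {g : E} (hg : g ∈ S.pre.VS Set.univ) (e : f g = 1) :
    g = 1 ∨ g = (S.m (.inl i) (.inr j) 1)⁻¹ ^ 2 * (S.m (.inl i) (.inl j) 1)⁻¹ ^ 2 := by
  have hs : ∀ i, idx (C.sa i) ≠ idx (C.sb i) := fun i => by
    rcases simple_cases i with ⟨_, e1, e2⟩ | ⟨_, e0, e1, e2⟩ | ⟨_, e0, _, e1, e2⟩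
    · simp [e1, e2, idx]
    · simp [hD] at e0
    · simp [e1, e2, idx]; omega
  have hL : ∀ i, ∀ g ∈ S.pre.L i, f g = 1 → g = 1 := fun i => S.inj_L (hs i)
  have h1 := S.ker_filt hL (m := i) (by omega) (fun _ => by omega) hg e
  have h2 : (⨆ (l : Fin C.n) (_ : i.1 ≤ l.1), S.pre.L l ⊓ P.rgdO.T.comap f) ≤
      (S.pre.L i ⊓ P.rgdO.T.comap f) ⊔ (S.pre.L j ⊓ P.rgdO.T.comap f) := iSup₂_le fun l hl => by
    by_cases e : l = i
    · rw [e]; exact le_sup_left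
    · obtain rfl : l = j := Fin.ext (by have := l.2; have := Fin.val_ne_of_ne e; omega)
      exact le_sup_right
  obtain ⟨a, ha, b, hb, rfl⟩ := (mem_sup_of_le_normalizer (fun b hb =>
    mem_normalizer_of_conj (fun a ha => by
      rwa [(S.pre.comm_T hL (T_comm S.h0) (S.pre.le_T j hb) ha).eq, mul_inv_cancel_right])
    fun a ha => by
      rwa [mul_assoc, ← (S.pre.comm_T hL (T_comm S.h0) (S.pre.le_T j hb) ha).eq,
        inv_mul_cancel_left])).1 (h2 h1)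
  obtain ⟨s, hs', rfl⟩ := S.mem_L (hs i) ha.1 ha.2
  obtain ⟨t, ht', rfl⟩ := S.mem_L (hs j) hb.1 hb.2
  have a1 : C.sa i = .inl i ∧ C.sb i = .inr j := by
    rcases simple_cases i with ⟨_, e1, e2⟩ | ⟨_, e0, e1, e2⟩ | ⟨_, e0, _, e1, e2⟩
    · exact ⟨e1, e2.trans (congrArg _ (Fin.ext (by simp; omega)))⟩
    all_goals omega
  have a2 : C.sa j = .inl i ∧ C.sb j = .inl j := by
    rcases simple_cases j with ⟨_, e1, e2⟩ | ⟨_, e0, e1, e2⟩ | ⟨_, e0, _, e1, e2⟩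
    · omega
    · simp [hD] at e0
    · exact ⟨e1.trans (congrArg _ (Fin.ext (by simp; omega))), e2⟩
  have b1 := hs i
  have b2 := hs j
  rw [a1.1, a1.2] at b1
  rw [a2.1, a2.2] at b2
  rw [a1.1, a1.2, a2.1, a2.2] at e ⊢
  rw [map_mul, S.map_h b1, S.map_h b2] at e
  have c1 := congrArg (fun g : P.cl.Om => g.1 (P.f (.inl i))) e
  have c2 := congrArg (fun g : P.cl.Om => g.1 (P.f (.inl j))) e
  have c3 := P.ho_r' b1 hs'
  simp only [Sum.swap_inr] at c3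
  simp only [Subgroup.coe_mul, LinearEquiv.mul_apply, P.ho_l b2 ht', P.ho_r b2 ht', map_smul,
    P.ho_l b1 hs', c3, smul_smul] at c1 c2
  have d1 := smul_left_injective F (P.f_ne _) (c1.trans (one_smul F _).symm)
  have d2 := smul_left_injective F (P.f_ne _) (c2.trans (one_smul F _).symm)
  have hσ : ∀ x, σ x = x := by
    rcases P.cl.kind with ⟨h, -⟩ | ⟨h, -⟩ | ⟨h, -, -, h'⟩
    · simp [h]
    · simp [h]
    · exact absurd (h' ▸ exists_trace_zero h P.cl.invol) (P.hD hD).1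
  simp only [hσ] at d1 d2
  obtain rfl : t = s := (mul_inv_eq_one₀ hs').1 d2
  rcases mul_self_eq_one_iff.1 d1 with rfl | rfl
  · simp
  · right; rw [S.m_neg b1, S.m_neg b2, sq, sq]

end FS

end Cfsg.Agent.H12
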