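import Mathlib
import Cfsg.Agent.H12.PreF
import Cfsg.Agent.H12.CT3

/-!
The Curtis–Tits theorem for the classical groups of types `C` and `D`, with control of the kernel.
-/

set_option autoImplicit false
set_option linter.unusedSectionVars false

namespace Cfsg.Agent.H12

open H10 H11 H17 H17.CT H17.Frame H19.St RGD

theorem RGD.CT.cmIn {Φ I : Type*} [DecidableEq I] {R : RS Φ I ℤ} {G : Type*} [Group G]
    {X : RGD R G} [Fintype I] [Finite Φ] {E : Type*} [Group E] {f : E →* G} (Y : RGD.CT X f)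
    {r s : Φ} {D : Subgroup E} (hD : D ≤ ⨆ t ∈ R.itv r s, Y.U t)
    (h : CmIn (X.U r) (X.U s) (D.map f)) : CmIn (Y.U r) (Y.U s) D := fun a ha b hb => by
  obtain ⟨w, i, j, a1, a2⟩ := R.exists_inJ_two r s
  have a3 := le_iSup₂ (f := fun q (_ : q ∈ {r | R.InJ {i, j} (w • r)}) => Y.U q)
  obtain ⟨c, hc, e⟩ := h _ ((RGD.CT.map_U r).le ⟨a, ha, rfl⟩) _ ((RGD.CT.map_U s).le ⟨b, hb, rfl⟩)
  have := RGD.CT.eq_one_of_inJ w (mul_mem (iSup₂_le (fun q hq => a3 q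
    ((R.closed_inJ _).preimage w r a1 s a2 hq)) (hD hc)) (inv_mem (mul_mem (mul_mem (mul_mem
      (a3 r a1 ha) (a3 s a2 hb)) (inv_mem (a3 r a1 ha))) (inv_mem (a3 s a2 hb))))) (by simp [e])
  rwa [← mul_inv_eq_one.1 this]

variable {F : Type*} [Field F] {V : Type*} [AddCommGroup V] [Module F V] {σ : F →+* F}
  {C : H17.CT} {ε κ : F} {τ : F →+ F} {B : V →ₛₗ[σ] V →ₗ[F] F} {Q : V → F}
  [FiniteDimensional F V] {P : Frame C ℤ ε κ τ B Q} {E : Type*} [Group E] {f : E →* P.cl.Om}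

theorem cmIn_of_comm {A B D : Subgroup E} (h : ∀ a ∈ A, ∀ b ∈ B, a * b = b * a) : CmIn A B D :=
  fun a ha b hb => by rw [h a ha b hb]; simp

theorem mem_rx' {a b : C.ι} (h : idx a ≠ idx b) {g : P.cl.Om} (hg : g ∈ P.rgdO.U (rx ℤ h)) :
    ∃ t, g = P.xo b a t := (P.mem_rx h.symm).1 (by rw [rx_symm h]; exact hg)

/-- the lifted root groups of a Curtis–Tits system -/
noncomputable def FS.ofCT (Y : RGD.CT P.rgdO f) (h0 : ∀ w ∈ P.V0, w = 0) (hn : 2 ≤ C.n)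
    (hn' : C.isD = true → 3 ≤ C.n) : FS P f :=
  have le : ∀ {r s t : C.Φ ℤ}, t ∈ (C.rs ℤ).itv r s →
      Y.U t ≤ ⨆ t ∈ (C.rs ℤ).itv r s, Y.U t := fun {r s t} h =>
    le_iSup₂ (f := fun t (_ : t ∈ (C.rs ℤ).itv r s) => Y.U t) t h
  have inj : ∀ r, ∀ v ∈ Y.U r, f v = 1 → v = 1 := fun r v hv => by
    obtain ⟨w, i, j, a1, -⟩ := (C.rs ℤ).exists_inJ_two r r
    exact RGD.CT.eq_one_of_inJ w
      (le_iSup₂ (f := fun q (_ : q ∈ {r | (C.rs ℤ).InJ {i, j} (w • r)}) => Y.U q) r a1 hv)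
  have xx : ∀ {a b c d : C.ι} (h : idx a ≠ idx b) (h' : idx c ≠ idx d), a ≠ c.swap → a ≠ d.swap →
      b ≠ c.swap → b ≠ d.swap → CmIn (Y.U (rx ℤ h)) (Y.U (rx ℤ h')) ⊥ := fun h h' a1 a2 a3 a4 =>
    Y.cmIn bot_le (cmIn_of_comm fun u hu v hv => by
      obtain ⟨s, rfl⟩ := (P.mem_rx h).1 hu
      obtain ⟨t, rfl⟩ := (P.mem_rx h').1 hv
      exact P.xx_comm h h' a1 a2 a3 a4 s t)
  have xy : ∀ {a b c : C.ι} (h : idx a ≠ idx b), a ≠ c.swap → b ≠ c.swap → CmIn (Y.U (rx ℤ h))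
      (if h : C.isD = false then Y.U (ry ℤ h c) else ⊥) ⊥ := fun h a1 a2 => by
    split_ifs with hD
    · exact Y.cmIn bot_le (cmIn_of_comm fun u hu v hv => by
        obtain ⟨s, rfl⟩ := (P.mem_rx h).1 hu
        obtain ⟨w, x, hw, rfl⟩ := (P.mem_ry hD).1 hv
        exact P.xy_comm h a1 a2 s hw)
    · exact cmIn_of_comm fun u _ v hv => by simp [Subgroup.mem_bot.1 hv]
  { X := fun a b => if h : idx a ≠ idx b then Y.U (rx ℤ h) else ⊥
    Y := fun a => if h : C.isD = false then Y.U (ry ℤ h a) else ⊥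
    h0 := h0
    hn := hn
    hn' := hn'
    sym := fun a b h => by rw [dif_pos h, dif_pos h.symm, rx_symm]
    mapX := fun a b h => by rw [dif_pos h, RGD.CT.map_U]
    injX := fun a b h => by rw [dif_pos h]; exact inj _
    mapY := fun h a => by rw [dif_pos h, RGD.CT.map_U]
    injY := fun a => by
      split_ifs
      · exact inj _
      · exact fun v hv _ => hv
    hD := fun h a => dif_neg (by simp [h])
    c1 := fun a b c d h h' a1 a2 a3 a4 => by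
      rw [dif_pos h, dif_pos h']; exact xx h h' nx nx nx nx
    c2 := fun a b c h h' a1 => by
      rw [dif_pos h, dif_pos h']; exact xx h h' (swap_ne_self _).symm nx nx nx
    c3 := fun a b c h h' a1 => by
      have h2 : idx a.swap ≠ idx c := ix
      rw [dif_pos h, dif_pos h2, dif_pos a1]
      refine Y.cmIn (le (itv_xx h h2 a1)) (CmIn.symm fun u hu v hv => ?_)
      obtain ⟨s, rfl⟩ := (P.mem_rx h2).1 hu
      obtain ⟨t, rfl⟩ := mem_rx' h hv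
      rw [P.cm_xx h.symm a1 h', RGD.CT.map_U]
      exact P.xo_mem _ _
    c4 := fun a b h => by
      have h2 : idx a ≠ idx b.swap := ix
      rw [dif_pos h, dif_pos h2]
      refine Y.cmIn ?_ (CmIn.symm fun u hu v hv => ?_)
      · split_ifs with hD
        exacts [le (itv_xx' h0 h h2 hD), bot_le]
      obtain ⟨s, rfl⟩ := mem_rx' h2 hu
      obtain ⟨t, rfl⟩ := (P.mem_rx h).1 hv
      rw [P.cm_xx' h]
      have e := tau_self_smul P.cl (-P.β b * s * t)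
      split_ifs with hD
      · rw [RGD.CT.map_U]; exact yo_mem hD a (vp_zero e)
      · rw [by_contra fun h => (P.hD (by simpa using hD)).1 ⟨_, h, e⟩, P.yo_zero]
        exact one_mem _
    c5 := fun a b c h a1 a2 => by rw [dif_pos h]; exact xy h nx nx
    c6 := fun a b h => by rw [dif_pos h]; exact xy h (swap_ne_self _).symm nx
    c7 := fun a b h => by
      have h2 : idx b ≠ idx a.swap := ix
      rw [dif_pos h, dif_pos h2]
      split_ifs with hD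
      · refine Y.cmIn (sup_le (le (itv_xy h hD)) (le (itv_xy' h h2 hD)))
          (CmIn.symm fun u hu v hv => ?_)
        obtain ⟨w, x, hw, rfl⟩ := (P.mem_ry hD).1 hu
        obtain ⟨t, rfl⟩ := mem_rx' h hv
        rw [P.cm_yx h.symm hw, Subgroup.map_sup, RGD.CT.map_U, RGD.CT.map_U]
        exact Subgroup.mul_mem_sup (yo_mem hD b (hw.cm a t)) (P.xo_mem _ _)
      · exact cmIn_of_comm fun u _ v hv => by simp [Subgroup.mem_bot.1 hv]
    c8 := fun a b h => by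
      split_ifs with hD
      · refine Y.cmIn bot_le fun u hu v hv => ?_
        obtain ⟨w, x, hw, rfl⟩ := (P.mem_ry hD).1 hu
        obtain ⟨w', y, hw', rfl⟩ := (P.mem_ry hD).1 hv
        rw [P.cm_yy h.symm hw' hw, h0 w hw.1]
        simp [P.xo_zero]
      · exact cmIn_of_comm fun u _ v hv => by simp [Subgroup.mem_bot.1 hv] }

section
variable (Y : RGD.CT P.rgdO f) (h0 : ∀ w ∈ P.V0, w = 0) (hn : 2 ≤ C.n)
  (hn' : C.isD = true → 3 ≤ C.n)

theorem ofCT_V (r : C.Φ ℤ) : (FS.ofCT Y h0 hn hn').pre.V r = Y.U r := by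
  rcases root_cases r with ⟨a, b, h, rfl⟩ | ⟨h, a, rfl⟩
  · exact (FS.V_rx _ h).trans (dif_pos h)
  · exact (FS.V_ry _ h a).trans (dif_pos h)

theorem ofCT_le : ⨆ i, Y.L i ≤ (FS.ofCT Y h0 hn hn').pre.VS Set.univ := iSup_le fun i => sup_le
  (by rw [← RGD.CT.U_simple, ← ofCT_V Y h0 hn hn']; exact Pre.V_le_VS _ trivial)
  (by rw [← RGD.CT.U_neg_simple, ← ofCT_V Y h0 hn hn']; exact Pre.V_le_VS _ trivial)

theorem ofCT_m {i : Fin C.n} {a b : C.ι} (ha : C.sa i = a) (hb : C.sb i = b) (h : idx a ≠ idx b)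
    (t : F) : (FS.ofCT Y h0 hn hn').m a b t ∈ Y.L i := by
  subst ha hb
  have h' : idx (C.sa i).swap ≠ idx (C.sb i).swap := ix
  have e1 : (FS.ofCT Y h0 hn hn').X (C.sa i) (C.sb i) ≤ Y.L i := by
    rw [← FS.V_rx _ h]
    exact ((ofCT_V Y h0 hn hn' _).trans (RGD.CT.U_simple i)).le.trans le_sup_left
  have e2 : (FS.ofCT Y h0 hn hn').X (C.sa i).swap (C.sb i).swap ≤ Y.L i := by
    rw [← FS.V_rx _ h']
    refine ((ofCT_V Y h0 hn hn' _).trans (Eq.trans ?_ (RGD.CT.U_neg_simple i))).le.trans le_sup_right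
    rw [CT.rs_simple, neg_rt]
  exact mul_mem (mul_mem (e1 (FS.x_spec _ h _).1) (e2 (FS.x_spec _ h' _).1)) (e1 (FS.x_spec _ h _).1)

end

/-- Curtis–Tits, type `C` -/
theorem ct_inj_C [Finite F] (Y : RGD.CT P.rgdO f) (h0 : ∀ w ∈ P.V0, w = 0) (hn : 2 ≤ C.n)
    (hD : C.isD = false) {K : Type*} [Field K] [Finite K] (ι : K →+* F)
    (hι : ∀ u, σ (ι u) = ι u) {η : F} (η0 : η ≠ 0) (hη : τ η = 0)
    (h : ∀ c, τ c = 0 → ∃ u, c = ι u * η) : ∀ g ∈ ⨆ i, Y.L i, f g = 1 → g = 1 := fun g hg =>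
  (FS.ofCT Y h0 hn (by simp [hD])).inj_C' hD ι hι η0 hη h g (ofCT_le Y h0 hn _ hg)

/-- Curtis–Tits, type `D` -/
theorem ct_ker_D [Finite F] (Y : RGD.CT P.rgdO f) (hD : C.isD = true) (hn : 3 ≤ C.n)
    {i j : Fin C.n} (hi : i.1 + 2 = C.n) (hj : j.1 + 1 = C.n) {g : E} (hg : g ∈ ⨆ i, Y.L i)
    (e : f g = 1) : g = 1 ∨ ∃ a ∈ Y.L i, ∃ b ∈ Y.L j, f a = P.mo (.inl i) (.inr j) 1 ∧
      f b = P.mo (.inl i) (.inl j) 1 ∧ g = a⁻¹ ^ 2 * b⁻¹ ^ 2 := by
  have h0 : ∀ w ∈ P.V0, w = 0 := (P.hD hD).2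
  have a1 : C.sa i = .inl i ∧ C.sb i = .inr j := by
    rcases simple_cases i with ⟨_, e1, e2⟩ | ⟨_, e0, e1, e2⟩ | ⟨_, e0, _, e1, e2⟩
    · exact ⟨e1, e2.trans (congrArg _ (Fin.ext (by simp; omega)))⟩
    all_goals omega
  have a2 : C.sa j = .inl i ∧ C.sb j = .inl j := by
    rcases simple_cases j with ⟨_, e1, e2⟩ | ⟨_, e0, e1, e2⟩ | ⟨_, e0, _, e1, e2⟩
    · omega
    · simp [hD] at e0
    · exact ⟨e1.trans (congrArg _ (Fin.ext (by simp; omega))), e2⟩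
  have b1 : idx (C := C) (.inl i) ≠ idx (C := C) (.inr j) := by simp [idx]; omega
  have b2 : idx (C := C) (.inl i) ≠ idx (C := C) (.inl j) := by simp [idx]; omega
  exact ((FS.ofCT Y h0 (by omega) fun _ => hn).ker_D hD hi hj (ofCT_le Y h0 _ _ hg) e).imp_right
    fun e => ⟨_, ofCT_m Y h0 _ _ a1.1 a1.2 b1 1, _, ofCT_m Y h0 _ _ a2.1 a2.2 b2 1,
      FS.map_m _ b1 1, FS.map_m _ b2 1, e⟩

end Cfsg.Agent.H12
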