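import Mathlib
import Cfsg.Agent.H12.PrU5
import Cfsg.Agent.H7.Pr17

/-!
A bounded presentation of `SU_n(q)`, `n ≥ 5`.
-/

set_option autoImplicit false
set_option linter.unusedSectionVars false

namespace Cfsg.Agent.H12

open Subgroup Equiv H7.Pr H19 H11 Ph Matrix
open FreeGroup (lift of lift_apply_of)

variable {F : Type*} [Field F] {σ : F →+* F} {q n : ℕ}

theorem two_su2 (hq : QConj σ q) : ∃ a b : SU 2 F q, closure {a, b} = ⊤ := by
  obtain ⟨K, -, e, -⟩ := exists_su2 hq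
  haveI := hq.finite
  haveI := Fintype.ofFinite K
  exact two_map e.toMonoidHom e.surjective (two_map (MonoidHom.snd _ _) Prod.snd_surjective (gen_prod 0))

theorem pm3 (hq : QConj σ q) : (pmU hq 3 (c3 0 1 2)).1.1 = !![0, 1, 0; 0, 0, 1; 1, 0, 0] := by
  ext i j
  have := congrFun (ac_pmU hq (c3 0 1 2) j) i
  rw [ac_apply, mulVec_single_one, col_apply, c3_val (by simp) (by simp)] at this
  rw [this]
  fin_cases i <;> fin_cases j <;> simp [swap_apply_def]

set_option maxHeartbeats 800000 in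
theorem two_su3 (hq : QConj σ 2) : ∃ a b : SU 3 F 2, closure {a, b} = ⊤ := by
  have t := two_eq_zero hq
  obtain ⟨ω, hω, hω'⟩ := exists_mu hq
  have sω : σ ω = ω ^ 2 := hq.eq ω
  rw [sω] at hω hω'
  have w : ω ^ 2 + ω + 1 = 0 := mul_left_cancel₀ (sub_ne_zero.2 hω') (by linear_combination ω * hω)
  have all : ∀ a : F, a ≠ 0 → a = 1 ∨ a = ω ∨ a = ω ^ 2 := fun a ha => by
    have := norm_two hq ha
    rw [hq.eq] at this
    have : (a - 1) * ((a - ω) * (a - ω ^ 2)) = 0 := by grind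
    simpa [sub_eq_zero] using this
  have all' : ∀ a : F, a ≠ 0 → ∃ i : ℕ, a = ω ^ i := fun a ha => by
    rcases all a ha with h | h | h
    exacts [⟨0, by simp [h]⟩, ⟨1, by simp [h]⟩, ⟨2, h⟩]
  obtain ⟨y, hy⟩ := exists_su hq (M := !![1, 1, 1; 1, ω, ω ^ 2; 1, ω ^ 2, ω]) (by
    ext i j
    fin_cases i <;> fin_cases j <;> simp [Matrix.mul_apply, Fin.sum_univ_three, sω] <;> grind)
    (by simp [det_fin_three]; grind)
  obtain ⟨z, hz⟩ := exists_su hq (M := !![1, 1, ω ^ 2; 1, ω, ω; ω, 1, ω]) (by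
    ext i j
    fin_cases i <;> fin_cases j <;> simp [Matrix.mul_apply, Fin.sum_univ_three, sω] <;> grind)
    (by simp [det_fin_three]; grind)
  refine ⟨y, z, ?_⟩
  set S := closure {y, z}
  have my : y ∈ S := subset_closure (by simp)
  have mz : z ∈ S := subset_closure (by simp)
  have y2 : (y * y).1.1 = !![1, 0, 0; 0, 0, 1; 0, 1, 0] := by
    ext i j
    fin_cases i <;> fin_cases j <;> simp [Matrix.mul_apply, Fin.sum_univ_three, hy] <;> grind
  have z2 : (z * z).1.1 = !![1, 0, 0; 0, 0, ω ^ 2; 0, ω, 0] := by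
    ext i j
    fin_cases i <;> fin_cases j <;> simp [Matrix.mul_apply, Fin.sum_univ_three, hz] <;> grind
  obtain ⟨d, md, hd⟩ : ∃ d ∈ S, ∀ i : ℕ, (d ^ i).1.1 = !![1, 0, 0; 0, ω ^ i, 0; 0, 0, σ (ω ^ i)] := by
    refine ⟨y * y * (z * z), mul_mem (mul_mem my my) (mul_mem mz mz), fun i => ?_⟩
    induction i with
    | zero => ext i j; fin_cases i <;> fin_cases j <;> simp
    | succ i ih =>
      rw [pow_succ]
      change (_ : SU 3 F 2).1.1 * ((y * y).1.1 * (z * z).1.1) = _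
      rw [ih, y2, z2]; simp [pow_succ, sω]
  have mρ : pmU hq 3 (c3 0 1 2) ∈ S := by
    suffices pmU hq 3 (c3 0 1 2) = y * d ^ 1 * y⁻¹ from
      this ▸ mul_mem (mul_mem my (pow_mem md 1)) (inv_mem my)
    rw [eq_mul_inv_iff_mul_eq]
    refine Subtype.ext (Subtype.ext ?_)
    change (pmU hq 3 (c3 0 1 2)).1.1 * y.1.1 = y.1.1 * (d ^ 1).1.1
    rw [hd, hy, pm3]
    ext i j
    fin_cases i <;> fin_cases j <;> simp [Matrix.mul_apply, Fin.sum_univ_three, sω] <;> grind
  have h2 : Blk F 2 {1, 2} ≤ S := by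
    rw [← range_j2 hq]
    rintro _ ⟨x, rfl⟩
    obtain ⟨e1, e2, e3⟩ := su2_entries hq x
    by_cases a : x.1.1 0 0 = 0
    · obtain ⟨i, hi⟩ := all' (x.1.1 0 1) (fun b => by simp [a, b] at e3)
      convert mul_mem (pow_mem md i) (mul_mem my my) using 1
      refine Subtype.ext (Subtype.ext ?_)
      change _ = (d ^ i).1.1 * (y * y).1.1
      rw [j2_val, hd, y2, e1, e2, a, hi, show ∀ u : F, -u = u from fun u => by linear_combination -u * t]
      simp
    · have b : x.1.1 0 1 = 0 := by_contra fun b => by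
        rw [norm_two hq a, norm_two hq b] at e3; exact one_ne_zero (by linear_combination t - e3 : (1 : F) = 0)
      obtain ⟨i, hi⟩ := all' _ a
      convert pow_mem md i using 1
      refine Subtype.ext (Subtype.ext ?_)
      rw [j2_val, hd, e1, e2, b, hi]; simp
  have h1 : Blk F 2 {0, 1} ≤ S := by
    have := cj_le_of_le h2 mρ
    rw [cj_Blk, c3_val (by simp) (by simp), Set.image_pair] at this
    simpa [swap_apply_def] using this
  replace h2 : Blk F 2 (Set.univ \ {0}) ≤ S := (Blk_mono fun k hk => by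
    fin_cases k <;> simp at hk ⊢).trans h2
  suffices ∀ w, Un σ Set.univ w → ∃ s ∈ S, ac s (ee 0) = w by
    refine eq_top_iff.2 fun g _ => ?_
    obtain ⟨s, hs, e⟩ := this _ ((un_ee (Set.mem_univ 0)).ac hq (g := g) fun k hk => (hk trivial).elim)
    simpa using mul_mem hs (h2 (mem_Blk_diff (g := s⁻¹ * g) (fun k hk => (hk trivial).elim)
      (by rw [ac_mul, ← e, ac_inv_ac])))
  intro w hw
  by_cases c : Adj σ (ee 0) w
  · obtain ⟨x, hx, l, hl, e⟩ := exists_hl hq (s := Set.univ) (a := 0) (b := 1) (c := 2) trivial trivial trivial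
      (by simp) (by simp) (by simp) hw c
    exact ⟨_, mul_mem (h2 hx) (h1 hl), e⟩
  by_cases c' : w 2 = 0
  · obtain ⟨l, hl, e⟩ := Un.trans hq (s := {0, 1}) ⟨hw.1, fun k hk => by
      fin_cases k <;> simp [c'] at hk ⊢⟩ (i := 0) (j := 1) (by simp) (by simp) (by simp)
    exact ⟨l, h1 hl, e⟩
  rw [Adj, not_not, hB_ee, hB_ee' hq, mul_comm] at c
  obtain ⟨l, hl, e⟩ := exists_diag hq (i := (0 : Fin 3)) (j := 1) (by simp) c
  obtain ⟨v, rfl⟩ : ∃ v, w = ac l v := ⟨_, (ac_ac_inv l w).symm⟩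
  have v0 : v 0 = 1 := by rw [← hB_ee (σ := σ) 0 v, ← hB_ac hq l, e, hB_smul_left, hB_ee, c]
  rw [Blk_apply hq hl (by simp)] at c'
  have v1 : σ (v 1) * v 1 = 1 := by
    have := hw.1
    rw [hB_ac hq, hB, hermB_apply, Fin.sum_univ_three, v0, norm_two hq c', map_one] at this
    linear_combination this - t
  obtain ⟨i, hi⟩ := all' (v 1) (right_ne_zero_of_mul_eq_one v1)
  obtain ⟨s, hs, e'⟩ : ∃ s ∈ S, ac s (ee 0) = ![1, 1, v 1 * v 2] := by
    rcases all _ (mul_ne_zero (right_ne_zero_of_mul_eq_one v1) c') with h | h | h <;> rw [h]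
    · exact ⟨y, my, by ext k; fin_cases k <;> simp [ac_apply, hy]⟩
    · exact ⟨z, mz, by ext k; fin_cases k <;> simp [ac_apply, hz]⟩
    · refine ⟨_, mul_mem mρ (mul_mem mz my), ?_⟩
      rw [ac_mul, ac_mul, show ac z (ac y (ee 0)) = ω ^ 2 • ee 0 + ee 1 + ee 2 by
        ext k; fin_cases k <;> simp [ac_apply, hy, hz, mulVec, dotProduct, Fin.sum_univ_three] <;> grind]
      simp only [map_add, map_smul, ac_pmU, c3_val (show (0 : Fin 3) ≠ 1 by simp) (show 2 ≠ 1 by simp)]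
      ext k; fin_cases k <;> simp [swap_apply_def]
  refine ⟨_, mul_mem (h1 hl) (mul_mem (pow_mem md i) hs), ?_⟩
  rw [ac_mul, ac_mul, e', ac_apply (d ^ i), hd, ← hi]
  congr 1
  ext k; fin_cases k <;> simp [v0]
  linear_combination v 2 * v1

/-- the homomorphism on `ℤˣ` given by an involution -/
def uhom {E : Type*} [Group E] (e : E) (h : e * e = 1) : ℤˣ →* E :=
  MonoidHom.mk' (fun u => if u = 1 then 1 else e) fun a b => by
    rcases Int.units_eq_one_or a with rfl | rfl <;> rcases Int.units_eq_one_or b with rfl | rfl <;>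
      simp [h]

theorem uhom_neg {E : Type*} [Group E] (e : E) (h : e * e = 1) : uhom e h (-1) = e := by simp [uhom]

theorem stab_pm (p : Fin n → Prop) [DecidablePred p] {a b : Fin n} (ab : a ≠ b) (ha : ¬ p a) (hb : ¬ p b)
    {m : ℕ} {s : Fin m → Perm {x // p x}} (hs : closure (Set.range s) = ⊤) :
    ∃ k : Fin m → alternatingGroup (Fin n), (∀ i, (∀ x, ¬ p x → (k i).1 x = x) ∨
      ∀ x, ¬ p x → (k i).1 x = swap a b x) ∧ ∀ g : alternatingGroup (Fin n),
      ((∀ x, ¬ p x → g.1 x = x) ∨ ∀ x, ¬ p x → g.1 x = swap a b x) → g ∈ closure (Set.range k) := by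
  have hc : ∀ (σ : Perm {x // p x}) (u : ℤˣ),
      Commute (Perm.ofSubtype σ) (uhom (swap a b) (swap_mul_self a b) u) := fun σ u => by
    rcases Int.units_eq_one_or u with rfl | rfl
    · simp
    · rw [uhom_neg, Commute, SemiconjBy, mul_swap_eq_swap_mul, Perm.ofSubtype_apply_of_not_mem _ ha,
        Perm.ofSubtype_apply_of_not_mem _ hb]
  let j : Perm {x // p x} →* alternatingGroup (Fin n) := ((Perm.ofSubtype.noncommCoprod
    (uhom (swap a b) (swap_mul_self a b)) hc).comp ((MonoidHom.id _).prod Perm.sign)).codRestrict _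
      fun σ => by
        rcases Int.units_eq_one_or (Perm.sign σ) with e | e <;>
          simp [Perm.mem_alternatingGroup, e, uhom_neg, ab]
  have hj : ∀ σ, (j σ).1 = Perm.ofSubtype σ * uhom (swap a b) (swap_mul_self a b) (Perm.sign σ) :=
    fun _ => rfl
  have hp : ∀ x, ¬ p x → ¬ p (swap a b x) := fun x hx => by
    rw [swap_apply_def]; split_ifs <;> assumption
  refine ⟨fun i => j (s i), fun i => ?_, fun g hg => ?_⟩
  · rcases Int.units_eq_one_or (Perm.sign (s i)) with e | e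
    · exact .inl fun x hx => by simp [hj, e, Perm.ofSubtype_apply_of_not_mem _ hx]
    · exact .inr fun x hx => by simp [hj, e, uhom_neg, Perm.ofSubtype_apply_of_not_mem _ (hp x hx)]
  have key : ∀ τ : Perm (Fin n), (∀ x, ¬ p x → τ x = x) → ∃ σ : Perm {x // p x},
      Perm.ofSubtype σ = τ := fun τ h => ⟨τ.subtypePerm fun x => ⟨fun hx => by_contra fun e => e
        (h x e ▸ hx), fun hx => by_contra fun e => e (by rwa [τ.injective (h _ e)])⟩,
      Perm.ofSubtype_subtypePerm _ fun x hx => by_contra fun e => hx (h x e)⟩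
  have k : (closure (Set.range s)).map j ≤ closure (Set.range fun i => j (s i)) := by
    rw [MonoidHom.map_closure, ← Set.range_comp]; exact le_rfl
  have hg1 := Perm.mem_alternatingGroup.1 g.2
  rcases hg with hg | hg
  · obtain ⟨σ, e⟩ := key g hg
    refine k ⟨σ, hs ▸ mem_top _, Subtype.ext ?_⟩
    rw [← e, Perm.sign_ofSubtype] at hg1
    rw [hj, hg1, map_one, mul_one, e]
  · obtain ⟨σ, e⟩ := key (g.1 * swap a b) fun x hx => by simp [hg _ (hp x hx)]
    refine k ⟨σ, hs ▸ mem_top _, Subtype.ext ?_⟩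
    have := Perm.sign_ofSubtype σ
    rw [e, map_mul, hg1, Perm.sign_swap ab, one_mul] at this
    rw [hj, ← this, uhom_neg, e, mul_swap_mul_self]

theorem stab_T0 (e : Fin 4 ↪ Fin n) [DecidablePred (· ∉ T0 e)] {m : ℕ} {s : Fin m → Perm {x // x ∉ T0 e}}
    (hs : closure (Set.range s) = ⊤) : ∃ k : Fin m → alternatingGroup (Fin n),
      (∀ i, (k i).1 '' T0 e = T0 e) ∧ ∀ S : Subgroup (alternatingGroup (Fin n)), (∀ i, k i ∈ S) →
        c3 (e 0) (e 1) (e 2) ∈ S → ∀ g : alternatingGroup (Fin n), g.1 '' T0 e = T0 e → g ∈ S := by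
  obtain ⟨k, h1, h2⟩ := stab_pm (· ∉ T0 e) (a := e 0) (b := e 1) (by simp) (by simp [T0])
    (by simp [T0]) hs
  refine ⟨k, fun i => ?_, fun S m1 m2 => ?_⟩
  · rcases h1 i with h | h <;> rw [img_T0, h _ (by simp [T0]), h _ (by simp [T0]), h _ (by simp [T0])]
    · rfl
    · simp [swap_apply_def, T0, Set.insert_comm]
  have key : ∀ g : alternatingGroup (Fin n), g.1 '' T0 e = T0 e → g.1 (e 2) = e 2 → g ∈ S :=
    fun g hg h => (closure_le _).2 (Set.range_subset_iff.2 m1) (h2 g (by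
      have a0 : g.1 (e 0) ∈ T0 e := hg ▸ Set.mem_image_of_mem _ (by simp [T0])
      have a1 : g.1 (e 1) ∈ T0 e := hg ▸ Set.mem_image_of_mem _ (by simp [T0])
      have b0 : g.1 (e 0) ≠ e 2 := fun e' => by simpa using e'.trans h.symm
      have b1 : g.1 (e 1) ≠ e 2 := fun e' => by simpa using e'.trans h.symm
      have b2 : g.1 (e 0) ≠ g.1 (e 1) := by simp
      simp only [T0, Set.mem_insert_iff, Set.mem_singleton_iff, b0, b1, or_false, not_not] at a0 a1 ⊢
      rcases a0 with a0 | a0 <;> rcases a1 with a1 | a1 <;> simp_all [swap_apply_def]))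
  have hc : (c3 (e 0) (e 1) (e 2)).1 '' T0 e = T0 e := by
    rw [img_T0, c3_val (by simp) (by simp)]
    ext; simp [T0, swap_apply_def]; tauto
  have hm : ∀ g : alternatingGroup (Fin n), g.1 '' T0 e = T0 e →
      (g * c3 (e 0) (e 1) (e 2)).1 '' T0 e = T0 e := fun g hg => by
    rw [coe_mul, Perm.coe_mul, Set.image_comp, hc, hg]
  intro g hg
  obtain ⟨x, hx, h⟩ : e 2 ∈ g.1 '' T0 e := hg.ge (by simp [T0])
  rcases hx with rfl | rfl | rfl
  · refine (mul_mem_cancel_right m2).1 ((mul_mem_cancel_right m2).1 (key _ (hm _ (hm _ hg)) ?_))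
    simpa [c3_val, swap_apply_def] using h
  · refine (mul_mem_cancel_right m2).1 (key _ (hm _ hg) ?_)
    simpa [c3_val, swap_apply_def] using h
  · exact key g hg h

theorem phD_id (hq : QConj σ q) (e : Fin 4 ↪ Fin n) :
    PhD hq e (MonoidHom.id _) (emb hq e.injective) (pmU hq n) := by
  refine ⟨fun _ => rfl, fun _ => rfl, emb_pmU hq e, fun g hg => ?_⟩
  have : ((emb hq e.injective).comp (k1 hq)).range = Blk F q (T0 e) := by
    rw [show T0 e = Set.range (e ∘ sh 3 0 (by omega)) by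
      ext; simp [T0, Fin.exists_fin_succ, eq_comm]; rfl, ← range_emb hq (e.injective.comp (sh_inj _ _ _))]
    congr 1
    exact MonoidHom.ext fun x => emb_emb hq e.injective (sh_inj 3 0 (by omega))
      (e.injective.comp (sh_inj 3 0 (by omega))) (fun _ => rfl) x
  rw [this, cj_Blk, hg]

theorem pres_sun (hq : QConj σ q) {r4 rA m l : ℕ} {s4 : Fin 4 → SU 4 F q} (h4 : Pres s4 r4)
    {t : Fin 2 → alternatingGroup (Fin (n + 4))} (hA : Pres t rA) (e : Fin 4 ↪ Fin (n + 4))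
    [DecidablePred (· ∉ T0 e)] {s0 : Fin m → Perm {x // x ∉ T0 e}} (hs : closure (Set.range s0) = ⊤)
    {u : Fin 2 → SU 3 F q} (hu : closure (Set.range u) = ⊤) {p : Fin l → Fin 4}
    (hp : Function.Injective p) {u' : Fin 2 → SU l F q} (hu' : closure (Set.range u') = ⊤)
    {g0 : alternatingGroup (Fin (n + 4))} (hd : Disjoint (T0 e) (g0.1 '' Set.range (e ∘ p)))
    (hC : ∀ {E : Type} [Group E] {f : E →* SU (n + 4) F q} {Φ ψ}, PhD hq e f Φ ψ →
      Comm (Φ.comp (k1 hq)).range (H19.cj (ψ g0) (Φ.comp (emb hq hp)).range) → PhC hq e f Φ ψ) :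
    ∃ s : Fin 6 → SU (n + 4) F q, Pres s (r4 + rA + 2 + m * 2 + if 3 ≤ q then 0 else 4) := by
  classical
  haveI := hq.finite
  have D := phD_id hq e
  obtain ⟨k, hk, hk'⟩ := stab_T0 e hs
  let s : Fin (4 + 2) → SU (n + 4) F q :=
    Fin.append (fun i => emb hq e.injective (s4 i)) fun i => pmU hq _ (t i)
  let W1 : Fin 4 → FreeGroup (Fin (4 + 2)) := fun i => of (Fin.castAdd 2 i)
  let W2 : Fin 2 → FreeGroup (Fin (4 + 2)) := fun i => of (Fin.natAdd 4 i)
  have hW1 : ∀ i, emb hq e.injective (s4 i) = lift s (W1 i) := fun i => by simp [s, W1]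
  have hW2 : ∀ i, pmU hq _ (t i) = lift s (W2 i) := fun i => by simp [s, W2]
  choose w1 hw1 using exists_word h4.1
  choose w2 hw2 using exists_word hA.1
  let A : SU 4 F q → FreeGroup (Fin (4 + 2)) := fun g => lift W1 (w1 g)
  let A' : alternatingGroup (Fin (n + 4)) → FreeGroup (Fin (4 + 2)) := fun g => lift W2 (w2 g)
  have gA : ∀ g, lift s (A g) = emb hq e.injective g := fun g => by simp only [A, lift_lift hW1, hw1]
  have gA' : ∀ g, lift s (A' g) = pmU hq _ g := fun g => by simp only [A', lift_lift hW2, hw2]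
  choose v hv using fun i : Fin m × Fin 2 => (D.h2 _ (hk i.1)).le (conj_mem_cj _ ⟨u i.2, rfl⟩)
  have gen : ∀ {E : Type _} [Group E] {x : Fin (4 + 2) → E} {Φ : SU 4 F q →* E}
      {ψ : alternatingGroup (Fin (n + 4)) →* E}, (∀ i, Φ (s4 i) = lift x (W1 i)) →
      (∀ i, ψ (t i) = lift x (W2 i)) → closure (Set.range x) ≤ Φ.range ⊔ ψ.range := fun h1 h2 =>
    (closure_le _).2 (Set.range_subset_iff.2 fun i => Fin.addCases
      (fun i => mem_sup_left ⟨_, by simpa [W1] using h1 i⟩)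
      (fun i => mem_sup_right ⟨_, by simpa [W2] using h2 i⟩) i)
  let a : Fin 2 → alternatingGroup (Fin 4) := ![c3 0 1 2, c3 0 1 3]
  refine ⟨s, pres_of_inj (((((Rl.sub h4 W1 _ hW1).and (Rl.sub hA W2 _ hW2)).and
    (Rl.all Finset.univ (fun i => A (pmU hq 4 (a i))) (fun i => A' (jA e (a i))) fun i _ => ?_)).and
    (Rl.all Finset.univ (fun i : Fin m × Fin 2 => A' (k i.1) * A (k1 hq (u i.2)) * (A' (k i.1))⁻¹)
      (fun i => A (k1 hq (v i))) fun i _ => ?_)).and
    (Rl.comm (if 3 ≤ q then ∅ else Finset.univ : Finset (Fin 2 × Fin 2)) (fun i => A (k1 hq (u i.1)))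
      (fun i => A' g0 * A (emb hq hp (u' i.2)) * (A' g0)⁻¹) fun i _ => ?_) |>.mono
      (by split_ifs <;> simp) fun _ _ _ h => h) ?_ ?_⟩
  · rw [gA, gA', emb_pmU]
  · simp only [map_mul, map_inv, gA, gA']; exact (hv i).symm
  · simp only [map_mul, map_inv, gA, gA']
    refine Blk_commute hq hd ?_ ((D.map_emb hp g0).le ⟨_, conj_mem_cj _ ⟨_, rfl⟩, rfl⟩)
    have := (D.map_Gm (a := e 0) (b := e 1) (c := e 2) (by simp) (by simp) (by simp)).le
    rw [D.Gm_eq (g := 1) (by simp [T0])] at this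
    exact this ⟨_, by simp, rfl⟩
  · rw [eq_top_iff, ← D.core.1, Subgroup.map_id]
    refine sup_le ?_ ?_ <;> rintro _ ⟨g, rfl⟩
    · rw [← gA, ← FreeGroup.range_lift_eq_closure]; exact ⟨_, rfl⟩
    · rw [← gA', ← FreeGroup.range_lift_eq_closure]; exact ⟨_, rfl⟩
  rintro E _ x f hf hx ⟨⟨⟨⟨⟨Φ, hΦ⟩, ψ, hψ⟩, h1⟩, h2⟩, h3⟩ g
  have eA : ∀ g, lift x (A g) = Φ g := fun g => by simp only [A, lift_lift hΦ, hw1]
  have eA' : ∀ g, lift x (A' g) = ψ g := fun g => by simp only [A', lift_lift hψ, hw2]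
  simp only [map_mul, map_inv, eA, eA'] at h1 h2 h3
  have e1 : ∀ b, Φ (pmU hq 4 b) = ψ (jA e b) := DFunLike.congr_fun
    (MonoidHom.eq_of_eqOn_dense (f := Φ.comp (pmU hq 4)) (g := ψ.comp (jA e)) presA4'.1
      (by rintro _ ⟨i, rfl⟩; exact h1 i (Finset.mem_univ _)))
  have D' : PhD hq e f Φ ψ := ⟨fun g => by rw [← eA, map_lift hf, gA],
    fun g => by rw [← eA', map_lift hf, gA'], e1, fun g hg => cj_eq_self_iff.2 (hk'
      ((normalizer ((Φ.comp (k1 hq)).range : Set E)).comap ψ) (fun i => cj_eq_self_iff.1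
        (cj_range hu fun j => ⟨_, (h2 (i, j) (Finset.mem_univ _)).symm⟩)) (le_normalizer (by
        rw [← jA_c3 e (by simp), ← e1]
        refine ⟨pmU hq 3 (c3 0 1 2), congrArg Φ ((emb_pmU hq ⟨_, sh_inj 3 0 (by omega)⟩ _).trans ?_)⟩
        rw [jA_c3 _ (by simp)]; rfl)) g hg)⟩
  refine D'.core.2 ?_ g (gen hΦ hψ (hx.ge (mem_top g)))
  split_ifs at h3 with h
  · exact D'.phC_big h
  refine hC D' ?_
  rintro _ ⟨y, rfl⟩ z hz
  obtain ⟨_, ⟨z, rfl⟩, rfl⟩ := exists_of_mem_cj hz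
  refine comm_closure (Φ.comp (k1 hq)) ?_ (hu.ge (mem_top y))
  rintro _ ⟨i, rfl⟩
  refine (comm_closure ((MulAut.conj (ψ g0)).toMonoidHom.comp (Φ.comp (emb hq hp))) ?_
    (hu'.ge (mem_top z))).symm
  rintro _ ⟨j, rfl⟩
  exact (h3 (i, j) (Finset.mem_univ _)).symm

universe u

theorem pres_su {F : Type u} [Field F] [Fintype F] (hF : Fintype.card F = q ^ 2) (n : ℕ) :
    ∃ s : Fin 6 → SU (n + 4) F q, Pres s (if n ≤ 1 then 35 else 39) := by
  classical
  have hq := qConj_conjQ hF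
  have h2 := hq.two_le
  obtain ⟨s4, h4⟩ := pres_su4 hF
  obtain ⟨u0, u1, hu⟩ : ∃ a b : SU 3 F q, closure {a, b} = ⊤ := by
    by_cases h : q = 2
    · subst h; exact two_su3 hq
    · exact su_two hF le_rfl fun _ => h
  rw [← range2] at hu
  let e : Fin 4 ↪ Fin (n + 4) := ⟨sh 4 0 (by omega), sh_inj _ _ _⟩
  rcases n with _ | _ | n
  · obtain ⟨s, hs⟩ := h4.pad 2
    exact ⟨s, hs.mono (by split_ifs <;> omega)⟩
  · obtain ⟨a, -, hA, -⟩ := presAp (Ω := Fin 5) (p := 3) (α := 0) (β := 1) (o := 2) (γ := 3)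
      Nat.prime_three le_rfl (by simp) (by decide) (by decide) (by decide) (by decide)
    haveI : IsCyclic (Perm {x // x ∉ T0 e}) := isCyclic_of_prime_card (p := 2) (by
      rw [Nat.card_eq_fintype_card, Fintype.card_perm, Fintype.card_of_subtype {3, 4} fun x => by
        fin_cases x <;> simp [T0, e, Ph.sh, Fin.ext_iff]]; rfl)
    obtain ⟨g, hg⟩ := IsCyclic.exists_generator (α := Perm {x // x ∉ T0 e})
    obtain ⟨v0, v1, hv⟩ := two_su2 hq
    rw [← range2] at hv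
    obtain ⟨g0, hg0⟩ : ∃ g0 : alternatingGroup (Fin 5), g0.1 0 = 3 ∧ g0.1 1 = 4 :=
      ⟨⟨swap 0 3 * swap 1 4, by simp [Perm.mem_alternatingGroup]⟩, by simp [swap_apply_def]⟩
    have r : g0.1 '' Set.range (e ∘ sh 2 0 (by omega)) = {3, 4} := by
      rw [← hg0.1, ← hg0.2, ← Set.image_pair]; congr 1
      ext; simp [Fin.exists_fin_succ, eq_comm]; rfl
    obtain ⟨s, hs⟩ := pres_sun hq h4 hA e (m := 1) (s0 := fun _ => g) (by
      rw [Set.range_const, ← zpowers_eq_closure]; exact (eq_top_iff' _).2 hg) hu (sh_inj 2 0 (by omega)) hv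
      (g0 := g0) (by rw [r]; simp [T0, e, Ph.sh, Fin.ext_iff]) fun {E} _ {f Φ ψ} D h =>
      D.phC_five le_rfl (t := id) Function.injective_id (h.mono ((D.Gm_eq (g := 1) (by simp [T0]; rfl)).le.trans
        (by simp)) fun x hx => by
          have e2 := D.Gm_eq (g := g0) (img_T0 e _)
          have n1 : 3 ≠ g0.1 (e 2) := by rw [← hg0.1]; simp [e, Ph.sh, Fin.ext_iff]
          have n2 : 4 ≠ g0.1 (e 2) := by rw [← hg0.2]; simp [e, Ph.sh, Fin.ext_iff]
          rw [show e 0 = 0 from rfl, show e 1 = 1 from rfl, hg0.1, hg0.2] at e2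
          refine mem_of_inj (cj_mono _ (by rintro _ ⟨x, rfl⟩; exact ⟨_, rfl⟩)) (D.inj_H g0)
            (cj_mono _ (by rintro _ ⟨x, rfl⟩; exact ⟨_, rfl⟩) (e2.le (D.Jm_le (by decide) n2 n1 hx))) ?_
          rw [D.map_emb, r]; exact PhD.Jm_Blk hx)
    exact ⟨s, hs.mono (by split_ifs <;> omega)⟩
  · obtain ⟨t, hA⟩ := presA' (n + 1 + 1 + 4)
    obtain ⟨s0, hs0⟩ := presS' (Fintype.card {x // x ∉ T0 e})
    let t6 : Fin 6 → Fin (n + 1 + 1 + 4) := sh 6 0 (by omega)
    have ht := sh_inj 6 0 (show 0 + 6 ≤ n + 1 + 1 + 4 by omega)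
    obtain ⟨g0, hg0⟩ := ex_tri e (a := t6 3) (b := t6 4) (c := t6 5) (ht.ne (by simp)) (ht.ne (by simp))
      (ht.ne (by simp))
    obtain ⟨s, hs⟩ := pres_sun hq h4 hA e (hs0.equiv (Fintype.equivFin _).symm.permCongrHom).1 hu
      (sh_inj 3 0 (by omega)) hu (g0 := g0) (by
        rw [show Set.range (e ∘ sh 3 0 (by omega)) = T0 e by
          ext; simp [T0, Fin.exists_fin_succ, eq_comm]; rfl, hg0]
        simp [T0, t6, e, Ph.sh, Fin.ext_iff]) fun {E} _ {f Φ ψ} D h =>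
      D.phC_six ht (h.mono ((D.Gm_eq (g := 1) (by simp [T0]; rfl)).le.trans (by simp)) (D.Gm_eq hg0).le)
    exact ⟨s, hs.mono (by split_ifs <;> omega)⟩

end Cfsg.Agent.H12
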