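import Mathlib
import Cfsg.Agent.H12.PrV2
import Cfsg.Agent.H12.PrU6

/-!
A bounded presentation of `SU₃(q)`.
-/

set_option autoImplicit false
set_option linter.unusedSectionVars false

namespace Cfsg.Agent.H12

open Subgroup H7.Pr H11 Matrix
open scoped MatrixGroups

variable {F : Type*} [Field F] {σ : F →+* F} {q : ℕ}

/-- the antidiagonal form -/
def J3 (F : Type*) [Field F] : Matrix (Fin 3) (Fin 3) F := !![0, 0, 1; 0, 1, 0; 1, 0, 0]

/-- the special unitary group of the antidiagonal form -/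
def G3 (σ : F →+* F) : Subgroup SL(3, F) where
  carrier := {g | (g.1.map σ)ᵀ * J3 F * g.1 = J3 F}
  one_mem' := by simp
  mul_mem' {a b} (ha : _ = _) (hb : _ = _) := by
    change ((a.1 * b.1).map σ)ᵀ * J3 F * (a.1 * b.1) = J3 F
    rw [Matrix.map_mul, transpose_mul, Matrix.mul_assoc, Matrix.mul_assoc, ← Matrix.mul_assoc (J3 F),
      ← Matrix.mul_assoc _ (J3 F * _), ← Matrix.mul_assoc _ (J3 F), ha, ← Matrix.mul_assoc, hb]
  inv_mem' {a} (ha : _ = _) := by
    change ((a⁻¹).1.map σ)ᵀ * J3 F * (a⁻¹).1 = J3 F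
    have e : a.1 * (a⁻¹).1 = 1 := congrArg Subtype.val (mul_inv_cancel a)
    conv_lhs => rw [← ha]
    rw [Matrix.mul_assoc, Matrix.mul_assoc _ a.1, e, Matrix.mul_one, ← Matrix.mul_assoc, ← transpose_mul,
      ← Matrix.map_mul, e]
    simp

theorem exists_G3 (hq : QConj σ q) : Nonempty (G3 σ ≃* SU 3 F q) := by
  haveI := hq.finite
  obtain ⟨τ, hτ⟩ := exists_trace_eq hq.ne_id hq.invol (a := 1) (map_one σ)
  obtain ⟨c, hc⟩ := exists_norm_eq hq.ne_id hq.invol (a := -1) (by simp)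
  have hc0 : c ≠ 0 := by rintro rfl; simp at hc
  let R : GL (Fin 3) F := GeneralLinearGroup.mkOfDetNeZero !![1, 0, τ; c, 0, -c * σ τ; 0, 1, 0] (by
    rw [det_fin_three]; simp
    rw [show c * σ τ + τ * c = c by linear_combination c * hτ]; exact hc0)
  have hR : (R.1.map σ)ᵀ * R.1 = J3 F := by
    ext i k
    fin_cases i <;> fin_cases k <;> simp [R, J3, Matrix.mul_apply, Fin.sum_univ_three, hq.invol] <;>
      first
      | linear_combination hc
      | linear_combination hτ - σ τ * hc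
      | linear_combination hτ - τ * hc
      | linear_combination τ * σ τ * hc
  have hψ : ∀ g, (H10.conjSL R g).1 = R.1 * g.1 * (R⁻¹).1 := fun g => congrArg Units.val (H10.toGL_conjSL R g)
  have e1 : R.1 * (R⁻¹).1 = 1 := R.mul_inv
  have e2 : (R⁻¹).1 * R.1 = 1 := R.inv_mul
  refine ⟨((H10.conjSL R).subgroupMap (G3 σ)).trans (MulEquiv.subgroupCongr (le_antisymm ?_ fun g hg => ?_))⟩
  · rintro _ ⟨g, hg : _ = _, rfl⟩
    refine mem_su_of_conj_transpose_mul hq ?_
    erw [hψ]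
    simp only [Matrix.map_mul, transpose_mul, Matrix.mul_assoc]
    rw [← Matrix.mul_assoc _ R.1, hR, ← Matrix.mul_assoc (J3 F), ← Matrix.mul_assoc _ (J3 F * _),
      ← Matrix.mul_assoc _ (J3 F), hg, ← hR, Matrix.mul_assoc, e1, Matrix.mul_one, ← transpose_mul,
      ← Matrix.map_mul, e1]
    simp
  · obtain ⟨g, rfl⟩ := (H10.conjSL R).surjective g
    refine ⟨g, ?_, rfl⟩
    have := congrArg (fun M => (R.1.map σ)ᵀ * M * R.1) (Ph.conj_mul_self hq ⟨_, hg⟩)
    simp only [hψ, Matrix.map_mul, transpose_mul, Matrix.mul_assoc, e2, Matrix.mul_one, Matrix.one_mul] at this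
    rw [← Matrix.mul_assoc _ (_)ᵀ, ← transpose_mul, ← Matrix.map_mul, e2, ← Matrix.mul_assoc _ R.1, hR] at this
    change _ = _
    simpa [Matrix.mul_assoc] using this

theorem G3_ext {g g' : G3 σ} (h : g.1.1 = g'.1.1) : g = g' := Subtype.ext (Subtype.ext h)

theorem G3_mul (g g' : G3 σ) : (g * g').1.1 = g.1.1 * g'.1.1 := rfl

theorem G3_eq (g : G3 σ) (i j : Fin 3) :
    σ (g.1.1 2 i) * g.1.1 0 j + σ (g.1.1 1 i) * g.1.1 1 j + σ (g.1.1 0 i) * g.1.1 2 j = J3 F i j := by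
  have := congrFun (congrFun g.2 i) j
  simpa [J3, Matrix.mul_apply, Fin.sum_univ_three] using this

/-- the Borel subgroup -/
def B3 (σ : F →+* F) : Subgroup (G3 σ) where
  carrier := {g | g.1.1 2 0 = 0}
  one_mem' := by simp
  mul_mem' {a b} (ha : _ = _) (hb : _ = _) := by
    have := G3_eq b 0 0
    simp [hb, J3] at this
    simp [Matrix.mul_apply, Fin.sum_univ_three, ha, hb, this]
  inv_mem' {a} (ha : _ = _) := by
    have := G3_eq a 0 0
    simp [ha, J3] at this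
    simp [adjugate_fin_three, ha, this]

open Classical in
/-- the root elements -/
noncomputable def u3 (hσ : ∀ a, σ (σ a) = a) (α β : F) : B3 σ :=
  if h : Vl σ α β then ⟨⟨⟨!![1, -σ α, β; 0, 1, α; 0, 0, 1], by simp [det_fin_three]⟩, by
    ext i j
    fin_cases i <;> fin_cases j <;> simp [J3, Matrix.mul_apply, Fin.sum_univ_three, hσ]
    rw [Vl] at h; linear_combination h⟩, rfl⟩ else 1

theorem u3_val (hσ : ∀ a, σ (σ a) = a) {α β : F} (h : Vl σ α β) :
    (u3 hσ α β).1.1.1 = !![1, -σ α, β; 0, 1, α; 0, 0, 1] := by rw [u3, dif_pos h]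

/-- the torus -/
def h3 (hσ : ∀ a, σ (σ a) = a) : Fˣ →* B3 σ := MonoidHom.mk' (fun l =>
  ⟨⟨⟨!![l, 0, 0; 0, σ l / l, 0; 0, 0, (σ l)⁻¹], by simp [det_fin_three]; field_simp⟩, by
    ext i j
    fin_cases i <;> fin_cases j <;> simp [J3, Matrix.mul_apply, Fin.sum_univ_three, hσ]⟩, rfl⟩)
  fun a b => Subtype.ext (G3_ext (Eq.trans (by simp [mul_div_mul_comm, mul_comm]) (mul_fin_three ..).symm))

theorem h3_val (hσ : ∀ a, σ (σ a) = a) (l : Fˣ) :
    (h3 hσ l).1.1.1 = !![(l : F), 0, 0; 0, σ l / l, 0; 0, 0, (σ l)⁻¹] := rfl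

/-- the Weyl element -/
def w3 (σ : F →+* F) : G3 σ := ⟨⟨!![0, 0, 1; 0, -1, 0; 1, 0, 0], by simp [det_fin_three]⟩, by
  ext i j
  fin_cases i <;> fin_cases j <;> simp [J3, Matrix.mul_apply, Fin.sum_univ_three]⟩

theorem w3_val : (w3 σ).1.1 = !![0, 0, 1; 0, -1, 0; 1, 0, 0] := rfl

theorem B3_ext {g g' : B3 σ} (h : g.1.1.1 = g'.1.1.1) : g = g' := Subtype.ext (G3_ext h)

theorem B3_mul (g g' : B3 σ) : (g * g').1.1.1 = g.1.1.1 * g'.1.1.1 := rfl

theorem bd3 (hσ : ∀ a, σ (σ a) = a) : BD σ (u3 hσ) (h3 hσ) := by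
  refine ⟨hσ, fun v v' => B3_ext ?_, fun l α β v => ?_, fun {α β} l v e => ?_, fun g => ?_⟩
  · rw [B3_mul, u3_val hσ v, u3_val hσ v', u3_val hσ (v.mul hσ v')]
    ext i j; fin_cases i <;> fin_cases j <;> simp [Matrix.mul_apply, Fin.sum_univ_three] <;> ring
  · have := l.ne_zero
    have := (map_ne_zero σ).2 l.ne_zero
    rw [mul_inv_eq_iff_eq_mul]
    refine B3_ext ?_
    rw [B3_mul, B3_mul, u3_val hσ v, u3_val hσ (v.conj hσ l), h3_val]
    ext i j; fin_cases i <;> fin_cases j <;> simp [Matrix.mul_apply, Fin.sum_univ_three, hσ] <;> field_simp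
  · have := congrArg (fun g : B3 σ => g.1.1.1) e
    simp only [B3_mul, u3_val hσ v, h3_val] at this
    have a := congrFun (congrFun this 1) 2
    have b := congrFun (congrFun this 0) 2
    have c := congrFun (congrFun this 0) 0
    simp [Matrix.mul_apply, Fin.sum_univ_three] at a b c
    exact ⟨a, b, c⟩
  · have g20 : g.1.1.1 2 0 = 0 := g.2
    have g10 : g.1.1.1 1 0 = 0 := by simpa [g20, J3] using G3_eq g.1 0 0
    have e02 : σ (g.1.1.1 0 0) * g.1.1.1 2 2 = 1 := by simpa [g20, g10, J3] using G3_eq g.1 0 2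
    have l1 := left_ne_zero_of_mul_eq_one e02
    have l0 := (map_ne_zero σ).1 l1
    have g21 : g.1.1.1 2 1 = 0 := by simpa [g20, g10, J3, l0] using G3_eq g.1 0 1
    have g22 := eq_inv_of_mul_eq_one_right e02
    have d := (det_fin_three _).symm.trans g.1.1.2
    have e21 := G3_eq g.1 2 1
    have e22 := G3_eq g.1 2 2
    simp [g20, g10, g21, g22, J3, hσ] at d e21 e22
    have g11 : g.1.1.1 1 1 = σ (g.1.1.1 0 0) / g.1.1.1 0 0 := by
      rw [eq_div_iff l0, ← mul_inv_eq_one₀ l1, mul_comm (g.1.1.1 1 1)]; exact d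
    rw [g11] at e21
    have v : Vl σ (σ (g.1.1.1 0 0) * g.1.1.1 1 2) (σ (g.1.1.1 0 0) * g.1.1.1 0 2) := by
      simp only [Vl, map_mul, hσ]; field_simp at e22; linear_combination e22
    refine ⟨_, _, Units.mk0 _ l0, v, B3_ext ?_⟩
    rw [B3_mul, u3_val hσ v, h3_val]
    ext i j
    fin_cases i <;> fin_cases j <;>
      simp [Matrix.mul_apply, Fin.sum_univ_three, hσ, g20, g10, g21, g22, g11] <;> field_simp
    field_simp at e21; linear_combination e21

theorem gd3 (hσ : ∀ a, σ (σ a) = a) : GD σ (u3 hσ) (h3 hσ) (B3 σ).subtype (w3 σ) := by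
  have ww : w3 σ * w3 σ = 1 := G3_ext (by
    rw [G3_mul, w3_val]; ext i j; fin_cases i <;> fin_cases j <;> simp)
  refine ⟨bd3 hσ, Subtype.val_injective, ww, fun l => G3_ext ?_, fun {α β} v => G3_ext ?_,
    fun b b' e => ?_, fun b e => ?_, fun g => ?_⟩
  · simp only [G3_mul, coe_subtype, h3_val, w3_val]
    ext i j; fin_cases i <;> fin_cases j <;> simp [hσ]
    field_simp
  · have := β.ne_zero
    have := (map_ne_zero σ).2 β.ne_zero
    have v1 : Vl σ (-α / σ β) (β : F)⁻¹ ∧ Vl σ (-α / β) (β : F)⁻¹ := by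
      simp only [Vl, map_div₀, map_neg, map_inv₀, hσ] at v ⊢
      constructor <;> field_simp <;> linear_combination v
    simp only [G3_mul, coe_subtype, B3_mul, h3_val, w3_val, u3_val hσ v, u3_val hσ v1.1, u3_val hσ v1.2]
    rw [Vl] at v
    ext i j; fin_cases i <;> fin_cases j <;> simp [hσ] <;> field_simp <;>
      first | ring1 | linear_combination v | linear_combination -v
  · obtain ⟨α, β, l, v, rfl⟩ := (bd3 hσ).surj b'
    obtain ⟨α', β', l', v', e'⟩ := (bd3 hσ).surj b⁻¹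
    rw [mul_assoc, ← eq_inv_mul_iff_mul_eq, ← map_inv, e'] at e
    have := congrArg (fun g : G3 σ => g.1.1) e
    simp only [G3_mul, coe_subtype, B3_mul, h3_val, w3_val, u3_val hσ v, u3_val hσ v'] at this
    have a := congrFun (congrFun this 2) 1
    have b := congrFun (congrFun this 2) 2
    simp at a b
    exact ⟨l, by rw [a, b, (bd3 hσ).zero, one_mul]⟩
  · have : (w3 σ).1.1 2 0 = 0 := e ▸ b.2
    simp [w3_val] at this
  · by_cases h : g.1.1 2 0 = 0
    · exact .inl ⟨⟨g, h⟩, rfl⟩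
    have := (map_ne_zero σ).2 h
    have e := G3_eq g 0 0
    have v : Vl σ (g.1.1 1 0 / g.1.1 2 0) (g.1.1 0 0 / g.1.1 2 0) := by
      simp only [Vl, map_div₀]; field_simp; simp [J3] at e; linear_combination e
    suffices ∃ b : B3 σ, (w3 σ * b⁻¹ * g).1.1 2 0 = 0 from
      let ⟨b, hb⟩ := this; .inr ⟨b, ⟨_, hb⟩, by simp [← mul_assoc, mul_assoc _ (w3 σ), ww]⟩
    refine ⟨u3 hσ (g.1.1 1 0 / g.1.1 2 0) (g.1.1 0 0 / g.1.1 2 0), ?_⟩
    rw [(bd3 hσ).inv v, G3_mul, G3_mul, u3_val hσ (v.inv hσ), w3_val]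
    simp [J3, Matrix.mul_apply, Fin.sum_univ_three] at e ⊢
    field_simp; linear_combination e

theorem pres_su3 {F : Type*} [Field F] [Fintype F] (hF : Fintype.card F = q ^ 2) (h2 : q ≠ 2) :
    ∃ s : Fin 2 → SU 3 F q, Pres s 22 := by
  have hq := qConj_conjQ hF
  obtain ⟨s, hs⟩ := (gd3 hq.invol).pres hq h2
  obtain ⟨e⟩ := exists_G3 hq
  exact (hs.equiv e).two (su_two hF le_rfl fun _ => h2)

end Cfsg.Agent.H12
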