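import Mathlib
import Cfsg.Agent.H12.SS8

/-! Sylow subgroups of Chevalley groups for primes not dividing the order of the Weyl group. -/

namespace Cfsg.Agent.H12

open Matrix Cfsg.Lie

/-- a simple reflection on the coroot lattice -/
noncomputable def sL (X : Tab) (i : ℕ) (y : List ℤ) : List ℤ :=
  y.set i (y.getD i 0 - sumLt X.l fun k => X.cartan k (X.simple i) * y.getD k 0)

noncomputable def wL (X : Tab) (a : List ℕ) (y : List ℤ) : List ℤ :=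
  List.rec y (fun i _ ih => forceL ih (sL X i)) a

/-- `n` independent cyclic submodules annihilated by a polynomial of degree `l + 1` -/
noncomputable def homChk (X : Tab) (a : List ℕ) (n l : ℕ) (V : ℕ → ℕ → List ℤ) (Y : ℕ → List ℤ)
    (N : ℕ → ℤ) : Bool :=
  (a.all fun i => Nat.blt i X.l) && allLt n fun i =>
    (allLt (l + 1) fun k => Nat.beq (V i k).length X.l && decide (wL X a (V i k) = V i (k + 1))) &&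
    (allLt X.l fun j => decide ((V i (l + 1)).getD j 0 +
      sumLt (l + 1) (fun k => N k * (V i k).getD j 0) = 0)) &&
    allLt n fun j => allLt (l + 1) fun k => decide (sumLt X.l (fun t => (Y j).getD t 0 *
      (V i k).getD t 0) = if i = j ∧ k = l then 1 else 0)

variable {D : ChevalleyDatum} [Good D]

theorem cM_mulVec_wL (a : List (Fin D.rank)) {y : List ℤ} (h : y.length = D.rank) :
    (wL (tb D) (a.map Fin.val) y).length = D.rank ∧ ((rsOf D).cM (wprod (rsOf D).s a) *ᵥ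
      fun j => y.getD j 0) = fun j : Fin D.rank => (wL (tb D) (a.map Fin.val) y).getD j 0 := by
  induction a with
  | nil => exact ⟨h, by simp [wL]⟩
  | cons i a ih =>
    have e : wL (tb D) ((i :: a).map Fin.val) y = sL (tb D) i (wL (tb D) (a.map Fin.val) y) :=
      forceL_eq _ _
    rw [e, wprod_cons, map_mul, ← mulVec_mulVec, ih.2, RS.cM_s, sub_mulVec, one_mulVec,
      vecMulVec_mulVec, sL, sumLt_eq, List.length_set]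
    refine ⟨ih.1, funext fun j => ?_⟩
    rw [show (tb D).l = D.rank from rfl, ← Fin.sum_univ_eq_sum_range (fun k => (tb D).cartan k
      ((tb D).simple i) * (wL (tb D) (a.map Fin.val) y).getD k 0)]
    by_cases hj : j = i
    · subst hj
      simp [dotProduct, rwt_eq, ih.1]
      rfl
    · simp [hj, List.getD_eq_getElem?_getD, List.getElem?_set_ne (Fin.val_ne_of_ne (Ne.symm hj))]

theorem exists_of_homChk {a : List ℕ} {n l : ℕ} {V : ℕ → ℕ → List ℤ} {Y : ℕ → List ℤ} {N : ℕ → ℤ}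
    (h : homChk (tb D) a n l V Y N = true) (q : ℤ) :
    ∃ (w : (rsOf D).W) (e y : Fin n → Fin D.rank → ℤ),
      (∀ i j, q ^ (l + 1) + pev (l + 1) q N ∣ (q • e i - (rsOf D).cM w *ᵥ e i) j) ∧
      ∀ i j, y i ⬝ᵥ e j = if j = i then 1 else 0 := by
  simp only [homChk, Bool.and_eq_true, List.all_eq_true, allLt_iff, Nat.blt_eq, Nat.beq_eq,
    decide_eq_true_eq, sumLt_eq] at h
  have h0 : ∀ x ∈ a, x < D.rank := h.1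
  obtain ⟨a, rfl⟩ : ∃ a' : List (Fin D.rank), a'.map Fin.val = a :=
    ⟨a.pmap Fin.mk h0, by rw [List.map_pmap]; exact (List.pmap_eq_map h0).trans (List.map_id _)⟩
  choose e h1 h2 using fun i : Fin n => exists_eig (M := (rsOf D).cM (wprod (rsOf D).s a)) (l := l)
    (v := fun k j => (V i k).getD j 0) (N := N) (fun k hk => by
      obtain ⟨h1, h2⟩ := (h.2 i i.2).1.1 k (by omega)
      rw [(cM_mulVec_wL a h1).2, h2]) (funext fun j => by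
      simpa [Finset.sum_apply] using (h.2 i i.2).1.2 j j.2) q
  have h3 : ∀ (i j : Fin n), ∀ k < l + 1, (fun t : Fin D.rank => (Y j).getD t 0) ⬝ᵥ
      (fun t => (V i k).getD t 0) = if i.1 = j.1 ∧ k = l then 1 else 0 := fun i j k hk =>
    (Fin.sum_univ_eq_sum_range (fun t => (Y j).getD t 0 * (V i k).getD t 0) _).trans
      ((h.2 i i.2).2 j j.2 k hk)
  refine ⟨_, e, fun i j => (Y i).getD j 0, fun i j => by rw [h1]; exact dvd_mul_right _ _,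
    fun i j => ?_⟩
  rw [h2 j _ fun k hk => by rw [h3 _ _ _ (by omega), if_neg (by omega)], h3 _ _ _ (by omega)]
  simp [Fin.ext_iff]

/-- the coefficients of the cyclotomic polynomials below the leading one -/
def cycL : ℕ → List ℤ
  | 1 => [-1]
  | 2 => [1]
  | 3 => [1, 1]
  | 4 => [1, 0]
  | 5 => [1, 1, 1, 1]
  | 6 => [1, -1]
  | 7 => [1, 1, 1, 1, 1, 1]
  | 8 => [1, 0, 0, 0]
  | 9 => [1, 0, 0, 1, 0, 0]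
  | 10 => [1, -1, 1, -1]
  | 12 => [1, 0, -1, 0]
  | 14 => [1, -1, 1, -1, 1, -1]
  | 15 => [1, -1, 0, 1, -1, 1, 0, -1]
  | 18 => [1, 0, 0, -1, 0, 0]
  | 20 => [1, 0, -1, 0, 1, 0, -1, 0]
  | 24 => [1, 0, 0, 0, -1, 0, 0, 0]
  | 30 => [1, 1, 0, -1, -1, -1, 0, 1]
  | _ => []

theorem eval_cyclotomic_cycL {q : ℤ} (hq : 1 < q) : ∀ d ∈ [1, 2, 3, 4, 5, 6, 7, 8, 9, 10, 12, 14, 15, 18, 20, 24, 30],
    (Polynomial.cyclotomic d ℤ).eval q = q ^ (cycL d).length +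
      pev (cycL d).length q fun k => (cycL d).getD k 0 := by
  have key : ∀ d, 0 < d → ∀ (L : List ℕ), L.Nodup → d.divisors = (d :: L).toFinset → d ∉ L →
      ∀ a : ℤ, a * (L.map fun e => (Polynomial.cyclotomic e ℤ).eval q).prod = q ^ d - 1 →
      (Polynomial.cyclotomic d ℤ).eval q = a := fun d hd L h1 h2 h3 a h4 => by
    have := congrArg (Polynomial.eval q) (Polynomial.prod_cyclotomic_eq_X_pow_sub_one hd ℤ)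
    rw [h2, List.prod_toFinset _ (List.nodup_cons.2 ⟨h3, h1⟩), List.map_cons, List.prod_cons,
      Polynomial.eval_mul, Polynomial.eval_list_prod, List.map_map] at this
    refine mul_right_cancel₀ (right_ne_zero_of_mul (h4 ▸ (sub_pos.2 (one_lt_pow₀ hq hd.ne')).ne')) ?_
    rw [h4]
    simpa [Function.comp_def] using this
  have h1 := key 1 (by decide) [] (by decide) (by decide +kernel) (by decide)
    (q - 1) (by simp only [List.map, List.prod_cons, List.prod_nil]; ring)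
  have h2 := key 2 (by decide) [1] (by decide) (by decide +kernel) (by decide)
    (q + 1) (by simp only [h1, List.map, List.prod_cons, List.prod_nil]; ring)
  have h3 := key 3 (by decide) [1] (by decide) (by decide +kernel) (by decide)
    (q ^ 2 + q + 1) (by simp only [h1, List.map, List.prod_cons, List.prod_nil]; ring)
  have h4 := key 4 (by decide) [1, 2] (by decide) (by decide +kernel) (by decide)
    (q ^ 2 + 1) (by simp only [h1, h2, List.map, List.prod_cons, List.prod_nil]; ring)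
  have h5 := key 5 (by decide) [1] (by decide) (by decide +kernel) (by decide)
    (q ^ 4 + q ^ 3 + q ^ 2 + q + 1) (by simp only [h1, List.map, List.prod_cons, List.prod_nil]; ring)
  have h6 := key 6 (by decide) [1, 2, 3] (by decide) (by decide +kernel) (by decide)
    (q ^ 2 - q + 1) (by simp only [h1, h2, h3, List.map, List.prod_cons, List.prod_nil]; ring)
  have h7 := key 7 (by decide) [1] (by decide) (by decide +kernel) (by decide)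
    (q ^ 6 + q ^ 5 + q ^ 4 + q ^ 3 + q ^ 2 + q + 1) (by simp only [h1, List.map, List.prod_cons, List.prod_nil]; ring)
  have h8 := key 8 (by decide) [1, 2, 4] (by decide) (by decide +kernel) (by decide)
    (q ^ 4 + 1) (by simp only [h1, h2, h4, List.map, List.prod_cons, List.prod_nil]; ring)
  have h9 := key 9 (by decide) [1, 3] (by decide) (by decide +kernel) (by decide)
    (q ^ 6 + q ^ 3 + 1) (by simp only [h1, h3, List.map, List.prod_cons, List.prod_nil]; ring)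
  have h10 := key 10 (by decide) [1, 2, 5] (by decide) (by decide +kernel) (by decide)
    (q ^ 4 - q ^ 3 + q ^ 2 - q + 1) (by simp only [h1, h2, h5, List.map, List.prod_cons, List.prod_nil]; ring)
  have h12 := key 12 (by decide) [1, 2, 3, 4, 6] (by decide) (by decide +kernel) (by decide)
    (q ^ 4 - q ^ 2 + 1) (by simp only [h1, h2, h3, h4, h6, List.map, List.prod_cons, List.prod_nil]; ring)
  have h14 := key 14 (by decide) [1, 2, 7] (by decide) (by decide +kernel) (by decide)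
    (q ^ 6 - q ^ 5 + q ^ 4 - q ^ 3 + q ^ 2 - q + 1) (by simp only [h1, h2, h7, List.map, List.prod_cons, List.prod_nil]; ring)
  have h15 := key 15 (by decide) [1, 3, 5] (by decide) (by decide +kernel) (by decide)
    (q ^ 8 - q ^ 7 + q ^ 5 - q ^ 4 + q ^ 3 - q + 1) (by simp only [h1, h3, h5, List.map, List.prod_cons, List.prod_nil]; ring)
  have h18 := key 18 (by decide) [1, 2, 3, 6, 9] (by decide) (by decide +kernel) (by decide)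
    (q ^ 6 - q ^ 3 + 1) (by simp only [h1, h2, h3, h6, h9, List.map, List.prod_cons, List.prod_nil]; ring)
  have h20 := key 20 (by decide) [1, 2, 4, 5, 10] (by decide) (by decide +kernel) (by decide)
    (q ^ 8 - q ^ 6 + q ^ 4 - q ^ 2 + 1) (by simp only [h1, h2, h4, h5, h10, List.map, List.prod_cons, List.prod_nil]; ring)
  have h24 := key 24 (by decide) [1, 2, 3, 4, 6, 8, 12] (by decide) (by decide +kernel) (by decide)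
    (q ^ 8 - q ^ 4 + 1) (by simp only [h1, h2, h3, h4, h6, h8, h12, List.map, List.prod_cons, List.prod_nil]; ring)
  have h30 := key 30 (by decide) [1, 2, 3, 5, 6, 10, 15] (by decide) (by decide +kernel) (by decide)
    (q ^ 8 + q ^ 7 - q ^ 5 - q ^ 4 - q ^ 3 + q + 1) (by simp only [h1, h2, h3, h5, h6, h10, h15, List.map, List.prod_cons, List.prod_nil]; ring)
  simp only [List.forall_mem_cons, h1, h2, h3, h4, h5, h6, h7, h8, h9, h10, h12, h14, h15, h18, h20, h24, h30]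
  refine ⟨?_, ?_, ?_, ?_, ?_, ?_, ?_, ?_, ?_, ?_, ?_, ?_, ?_, ?_, ?_, ?_, ?_, by simp⟩ <;>
    simp [cycL, pev, Finset.sum_range_succ] <;> ring

noncomputable def sylChk (X : Tab) (L : List ℕ)
    (C : List (ℕ × List ℕ × List (List (List ℤ)) × List (List ℤ))) : Bool :=
  (L.all fun e => Nat.blt 0 e && Nat.blt e 31) && allLt 31 fun d => (L.filter (d ∣ ·)).isEmpty ||
    (decide (d ∈ [1, 2, 3, 4, 5, 6, 7, 8, 9, 10, 12, 14, 15, 18, 20, 24, 30]) &&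
      Nat.blt 0 (cycL d).length && C.any fun c => Nat.beq c.1 d && homChk X c.2.1
        (L.filter (d ∣ ·)).length ((cycL d).length - 1) (fun i k => (c.2.2.1.getD i []).getD k [])
        (fun j => c.2.2.2.getD j []) fun k => (cycL d).getD k 0)

theorem padicValNat_prod {q r : ℕ} [hr : Fact r.Prime] (hq : 1 < q) (hrq : ¬ r ∣ q) (h2 : r ≠ 2)
    {L : List ℕ} (hL : ¬ r ∣ L.prod) : padicValNat r (L.map (q ^ · - 1)).prod =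
      (L.filter (orderOf (q : ZMod r) ∣ ·)).length * padicValNat r
        ((Polynomial.cyclotomic (orderOf (q : ZMod r)) ℤ).eval (q : ℤ)).natAbs := by
  have h0 : ∀ e, r ∣ q ^ e - 1 ↔ orderOf (q : ZMod r) ∣ e := fun e => by
    rw [orderOf_dvd_iff_pow_eq_one, ← ZMod.natCast_eq_zero_iff,
      Nat.cast_sub (Nat.one_le_pow _ _ hq.le), sub_eq_zero, Nat.cast_pow, Nat.cast_one]
  have hd : 0 < orderOf (q : ZMod r) := (isOfFinOrder_iff_pow_eq_one.2 ⟨_, Nat.sub_pos_of_lt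
    hr.out.one_lt, ZMod.pow_card_sub_one_eq_one (mt (ZMod.natCast_eq_zero_iff q r).1 hrq)⟩).orderOf_pos
  have h1 : ∀ e, e ≠ 0 → q ^ e - 1 ≠ 0 := fun e he => (Nat.sub_pos_of_lt (one_lt_pow₀ hq he)).ne'
  have h3 : ∀ e, 0 < e → q ^ e - 1 = ∏ i ∈ e.divisors,
      ((Polynomial.cyclotomic i ℤ).eval (q : ℤ)).natAbs := fun e he => by
    have := congrArg (fun f => (Polynomial.eval (q : ℤ) f).natAbs)
      (Polynomial.prod_cyclotomic_eq_X_pow_sub_one he ℤ)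
    simp only [Polynomial.eval_prod, Polynomial.eval_sub, Polynomial.eval_pow, Polynomial.eval_X,
      Polynomial.eval_one, ← cast_pow_sub_one hq.le, Int.natAbs_natCast] at this
    exact this.symm.trans (map_prod Int.natAbsHom _ _)
  generalize orderOf (q : ZMod r) = d at *
  have h4 : padicValNat r (q ^ d - 1) =
      padicValNat r ((Polynomial.cyclotomic d ℤ).eval (q : ℤ)).natAbs := by
    have h5 := h3 d hd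
    rw [← Nat.cons_self_properDivisors hd.ne', Finset.prod_cons] at h5
    have h6 := mul_ne_zero_iff.1 (h5 ▸ h1 d hd.ne')
    rw [h5, padicValNat.mul h6.1 h6.2, padicValNat.eq_zero_of_not_dvd (n := ∏ _ ∈ _, _), add_zero]
    intro h
    obtain ⟨e, he, h7⟩ := (Prime.dvd_finsetProd_iff hr.out.prime _).1 h
    have h8 := Nat.pos_of_mem_properDivisors he
    exact (Nat.le_of_dvd h8 ((h0 e).1 (h7.trans (h3 e h8 ▸ Finset.dvd_prod_of_mem _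
      (Nat.mem_divisors_self e h8.ne'))))).not_gt (Nat.mem_properDivisors.1 he).2
  rw [← h4]
  induction L with
  | nil => simp
  | cons e L ih =>
    rw [List.prod_cons] at hL
    have h5 : e ≠ 0 := fun h => hL (by simp [h])
    have h6 := fun h => hL (dvd_mul_of_dvd_right h e)
    rw [List.map_cons, List.prod_cons, padicValNat.mul (h1 e h5) (List.prod_ne_zero fun h => by
      obtain ⟨e', he, h7⟩ := List.mem_map.1 h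
      exact h1 e' (fun h => h6 (List.prod_eq_zero (h ▸ he) ▸ dvd_zero r)) h7), ih h6]
    by_cases h : d ∣ e
    · obtain ⟨k, rfl⟩ := h
      have := padicValNat.pow_sub_pow (hr.out.odd_of_ne_two h2) (one_lt_pow₀ hq hd.ne')
        ((h0 d).2 dvd_rfl) (fun h => hrq (hr.out.dvd_of_dvd_pow h)) (right_ne_zero_of_mul h5)
      rw [one_pow, ← pow_mul, padicValNat.eq_zero_of_not_dvd (n := k) fun h =>
        hL ((h.mul_left d).mul_right _)] at this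
      simp [this, add_mul, add_comm]
    · simp [h, padicValNat.eq_zero_of_not_dvd (mt (h0 e).1 h)]

theorem sylow_homocyclic {L : List ℕ} {C : List (ℕ × List ℕ × List (List (List ℤ)) × List (List ℤ))}
    (h : sylChk (tb D) L C = true) {F : Type*} [Field F] [Fintype F]
    (hinj : Function.Injective (StSys.hProd (chev_nc (stSt D (AlgebraicClosure F))) stSt_r3))
    {N₀ : ℕ} (hk : ∀ c ∈ (hT D (AlgebraicClosure F)).ker, c ^ N₀ = 1) (h0 : N₀ ∣ L.prod)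
    (h2 : 2 ∣ L.prod) {q a N : ℕ} (hq : Fintype.card F = q) (ha : a ∣ L.prod)
    (hc : a * Nat.card (D.group F) = q ^ N * (L.map (q ^ · - 1)).prod) (r : ℕ) [hr : Fact r.Prime]
    (hrq : ¬ r ∣ q) (hrW : ¬ r ∣ L.prod) (hrG : r ∣ Nat.card (D.group F)) (P : Sylow r (D.group F)) :
    Nonempty ((P : Subgroup (D.group F)) ≃* (Fin (L.filter (orderOf (q : ZMod r) ∣ ·)).length →
      Multiplicative (ZMod (r ^ padicValNat r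
        ((Polynomial.cyclotomic (orderOf (q : ZMod r)) ℤ).eval (q : ℤ)).natAbs)))) := by
  have hq1 : 1 < q := hq ▸ Fintype.one_lt_card
  have h1 := padicValNat_prod hq1 hrq (fun e => hrW (e ▸ h2)) hrW
  have ha0 : a ≠ 0 := ne_zero_of_dvd_ne_zero (fun e : L.prod = 0 => hrW (e ▸ dvd_zero r)) ha
  have h3 := mul_ne_zero_iff.1 (hc ▸ mul_ne_zero ha0 (Nat.card_pos (α := D.group F)).ne')
  rw [← zero_add (padicValNat r (List.prod _)), ← padicValNat.eq_zero_of_not_dvd (n := q ^ N)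
    fun e => hrq (hr.out.dvd_of_dvd_pow e), ← padicValNat.mul h3.1 h3.2, ← hc,
    padicValNat.mul ha0 Nat.card_pos.ne',
    padicValNat.eq_zero_of_not_dvd fun e => hrW (e.trans ha), zero_add] at h1
  simp only [sylChk, Bool.and_eq_true, List.all_eq_true, allLt_iff, Nat.blt_eq, Bool.or_eq_true,
    List.any_eq_true, Nat.beq_eq, decide_eq_true_eq, List.isEmpty_iff] at h
  generalize orderOf (q : ZMod r) = d at *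
  have h4 : L.filter (d ∣ ·) ≠ [] := fun e => by
    have := one_le_padicValNat_of_dvd Nat.card_pos.ne' hrG
    simp [h1, e] at this
  obtain ⟨e, he⟩ := List.exists_mem_of_ne_nil _ h4
  rw [List.mem_filter, decide_eq_true_eq] at he
  obtain ⟨⟨h5, h6⟩, c, -, -, h7⟩ := (h.2 d ((Nat.le_of_dvd (h.1 e he.1).1 he.2).trans_lt
    (h.1 e he.1).2)).resolve_left h4
  obtain ⟨w, e, y, h8, h9⟩ := exists_of_homChk h7 q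
  rw [Nat.sub_add_cancel h6, ← eval_cyclotomic_cycL (by exact_mod_cast hq1) d h5] at h8
  obtain ⟨p, _, _, _, ⟨Z⟩⟩ := exists_frob F
  obtain ⟨φ, hφ⟩ := Z.exists_homocyclic hinj hk (m := r ^ padicValNat r
    ((Polynomial.cyclotomic d ℤ).eval (q : ℤ)).natAbs) (fun e => hrq (by
      rw [← hq, Z.card, ← (Nat.prime_dvd_prime_iff_eq Fact.out hr.out).1
        ((Fact.out : p.Prime).dvd_of_dvd_pow e)]
      exact dvd_pow_self p (by have := Z.pos; omega)))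
    (((Nat.Prime.coprime_iff_not_dvd hr.out).2 fun e => hrW (e.trans h0)).pow_left _) w
    (fun i j => (Int.natCast_dvd.2 pow_padicValNat_dvd).trans (hq ▸ h8 i j)) h9
  have h10 : Nat.card φ.range = r ^ (Nat.card (D.group F)).factorization r := by
    rw [← Nat.card_congr (MonoidHom.ofInjective hφ).toEquiv, Nat.card_fun, Nat.card_fin,
      Nat.card_congr Multiplicative.toAdd, Nat.card_zmod, Nat.factorization_def _ hr.out, h1,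
      pow_mul']
  exact ⟨(P.equiv (Sylow.ofCard _ h10)).trans (MonoidHom.ofInjective hφ).symm⟩

theorem sylChk_G2 : sylChk (tb chevG2) [2, 6]
    [(1, [], [[[0, 1], [0, 1]], [[-1, -1], [-1, -1]]], [[-1, 1], [-1, 0]]), (2, [0, 1, 0, 1, 0,
     1], [[[0, -1], [0, 1]], [[-1, -1], [1, 1]]], [[1, -1], [-1, 0]]), (3, [1, 0, 1, 0], [[[0,
     -1], [-1, -1], [1, 2]]], [[-1, 0]]), (6, [0, 1], [[[0, -1], [1, 1], [1, 2]]], [[1, 0]])] = true := by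
  rw [tbG2]; decide +kernel

theorem sylChk_B2 : sylChk (tb chevB2) [2, 4]
    [(1, [], [[[1, 1], [1, 1]], [[-1, 0], [-1, 0]]], [[0, 1], [-1, 1]]), (2, [0, 1, 0, 1], [[[1,
     0], [-1, 0]], [[0, -1], [0, 1]]], [[1, 0], [0, -1]]), (4, [0, 1], [[[0, 1], [-1, -1], [0,
     -1]]], [[-1, 0]])] = true := by
  rw [tbB2]; decide +kernel

theorem sylChk_D4 : sylChk (tb chevD4) [2, 4, 4, 6]
    [(1, [], [[[0, 1, 0, 0], [0, 1, 0, 0]], [[0, 0, 1, 0], [0, 0, 1, 0]], [[-1, 0, 0, -1], [-1,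
     0, 0, -1]], [[0, 1, 0, 1], [0, 1, 0, 1]]], [[1, 1, 0, -1], [0, 0, 1, 0], [-1, 0, 0, 0],
     [-1, 0, 0, 1]]), (2, [0, 1, 0, 2, 1, 0, 3, 1, 0, 2, 1, 3], [[[-1, 0, 0, 1], [1, 0, 0, -1]],
     [[0, 0, -1, 0], [0, 0, 1, 0]], [[0, -1, -1, 0], [0, 1, 1, 0]], [[0, 0, -1, -1], [0, 0, 1,
     1]]], [[-1, 0, 0, 0], [1, 1, -1, 1], [0, -1, 0, 0], [-1, 0, 0, -1]]), (3, [3, 1], [[[0, 1,
     0, 0], [0, -1, 0, -1], [0, 0, 0, 1]]], [[0, 0, 0, -1]]), (4, [1, 2, 3, 1, 0, 2], [[[-1, 0,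
     0, 0], [1, 2, 1, 1], [1, 0, 0, 0]], [[1, -1, 0, 0], [-2, -3, -1, -2], [-1, 1, 0, 0]]], [[0,
     0, 2, -1], [0, 0, 1, -1]]), (6, [0, 3, 1, 2], [[[0, 1, 1, 0], [-1, -1, 0, -1], [-1, -2, -1,
     -1]]], [[-1, 0, 0, 0]])] = true := by
  rw [tbD4]; decide +kernel

theorem sylChk_F4 : sylChk (tb chevF4) [2, 6, 8, 12]
    [(1, [], [[[0, 1, 0, 0], [0, 1, 0, 0]], [[0, 0, 0, 1], [0, 0, 0, 1]], [[0, 0, 1, 1], [0, 0,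
     1, 1]], [[1, 0, 0, -1], [1, 0, 0, -1]]], [[0, 1, 0, 0], [1, 0, -1, 1], [0, 0, 1, 0], [1, 0,
     0, 0]]), (2, [0, 1, 0, 2, 1, 0, 2, 1, 2, 3, 2, 1, 0, 2, 1, 2, 3, 2, 1, 0, 2, 1, 2, 3],
     [[[-1, -1, 0, 0], [1, 1, 0, 0]], [[-1, 1, 0, -1], [1, -1, 0, 1]], [[0, 1, 0, 0], [0, -1, 0,
     0]], [[1, -1, 1, 0], [-1, 1, -1, 0]]], [[-1, 0, 1, 1], [0, 0, 0, -1], [-1, 1, 2, 2], [0, 0,
     1, 0]]), (3, [2, 1, 0, 3, 2, 1, 0, 2, 1, 2, 3, 2, 1, 0, 2, 1], [[[-1, 0, -1, -1], [0, -1,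
     0, -1], [1, 1, 1, 2]], [[0, 0, 0, -1], [0, -1, -1, 0], [0, 1, 1, 1]]], [[-1, -1, 1, 0], [1,
     0, -1, 0]]), (4, [0, 1, 0, 2, 3, 2, 1, 0, 2, 1, 3, 2], [[[0, 0, 0, -1], [-1, -1, -2, -1],
     [0, 0, 0, 1]], [[0, 0, -1, 1], [2, 3, 5, 3], [0, 0, 1, -1]]], [[-3, 2, 0, 0], [-1, 1, 0,
     0]]), (6, [1, 2, 1, 0, 2, 1, 2, 3], [[[1, 0, 0, 0], [0, -1, 0, 0], [-1, -1, 0, 0]], [[1,
     -1, 1, 0], [-1, -1, 2, 1], [-2, 0, 1, 1]]], [[0, -1, -1, 1], [0, 0, 0, 1]]), (8, [2, 1, 0,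
     2, 1, 3], [[[0, 0, -1, 0], [-1, -2, -3, -1], [-1, -2, -3, -2], [-1, -1, -1, -1], [0, 0, 1,
     0]]], [[-2, 1, 0, 0]]), (12, [1, 0, 3, 2], [[[1, 0, -1, 0], [-1, 0, 1, 1], [1, 1, 0, -1],
     [0, 0, 1, 2], [0, 1, 1, -1]]], [[1, -1, 1, 0]])] = true := by
  rw [tbF4]; decide +kernel

theorem sylChk_E6 : sylChk (tb chevE6) [2, 5, 6, 8, 9, 12]
    [(1, [], [[[1, -1, 1, 0, 0, 0], [1, -1, 1, 0, 0, 0]], [[0, 0, -1, -1, 0, 0], [0, 0, -1, -1,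
     0, 0]], [[0, -1, -1, 0, 0, 0], [0, -1, -1, 0, 0, 0]], [[0, 0, -1, 0, 1, 0], [0, 0, -1, 0,
     1, 0]], [[-1, 0, -1, -1, 0, 1], [-1, 0, -1, -1, 0, 1]], [[0, 0, 0, 0, -1, 0], [0, 0, 0, 0,
     -1, 0]]], [[1, 0, 0, 0, 0, 1], [0, 0, 0, -1, 0, -1], [-1, -1, 0, 0, 0, -1], [2, 1, -1, 1,
     0, 2], [0, 0, 0, 0, 0, 1], [2, 1, -1, 1, -1, 2]]), (2, [1, 2, 3, 1, 2, 3, 4, 3, 1, 2, 3,
     4], [[[0, 0, -1, 0, 0, 0], [0, 0, 1, 0, 0, 0]], [[0, 0, 1, 1, 0, 0], [0, 0, -1, -1, 0, 0]],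
     [[0, -1, 1, 0, -1, 0], [0, 1, -1, 0, 1, 0]], [[0, 0, 0, 0, -1, 0], [0, 0, 0, 0, 1, 0]]],
     [[0, -1, -1, 1, 0, 0], [0, 0, 0, 1, 0, 0], [0, -1, 0, 0, 0, 0], [0, 1, 0, 0, -1, 0]]), (3,
     [0, 1, 3, 2, 4, 3, 1, 2, 3, 5, 4, 3, 1, 2, 0, 3, 2, 4, 3, 1, 5, 4, 3, 2], [[[0, 1, 1, 0, 0,
     1], [0, 0, 0, 0, 1, -1], [0, -1, -1, 0, -1, 0]], [[-1, 0, -1, -1, 1, 0], [1, 1, 1, 3, 1,
     0], [0, -1, 0, -2, -2, 0]], [[0, 0, 0, -1, 0, 0], [0, 0, 0, 1, 1, 0], [0, 0, 0, 0, -1,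
     0]]], [[-1, 0, 1, 0, 0, -1], [1, 1, -1, 0, 0, 0], [0, -2, 1, 0, 1, 1]]), (4, [1, 2, 3, 2,
     4, 3], [[[0, 0, -1, -1, -1, 0], [0, 1, 1, 1, 0, 0], [0, 0, 1, 1, 1, 0]], [[0, 0, 0, 0, -1,
     0], [0, 0, 1, 0, 0, 0], [0, 0, 0, 0, 1, 0]]], [[0, 1, 0, 0, 0, 0], [0, 0, 1, -1, 0, 0]]),
     (5, [4, 3, 1, 5], [[[0, 0, 0, -1, -1, -1], [0, -1, 0, -1, 0, 0], [0, 0, 0, 1, 1, 0], [0, 1,
     0, 1, 1, 1], [0, 0, 0, 0, -1, 0]]], [[0, 1, 0, -1, 1, 0]]), (6, [1, 2, 0, 3, 4, 3, 1, 2, 0,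
     3, 4, 5], [[[1, -1, 1, 0, -1, -1], [0, -1, 1, 1, 1, 0], [-1, 0, 0, 1, 2, 1]], [[-1, 0, -1,
     -1, 0, 0], [0, 1, 0, 0, 0, 0], [1, 1, 1, 1, 0, 0]]], [[-1, 0, 1, 0, 0, 0], [-1, 1, 1, 0, 0,
     -1]]), (8, [3, 1, 2, 4, 5], [[[0, 0, 0, 0, -1, 0], [0, 0, 0, 0, 0, -1], [0, 0, 0, 1, 1, 1],
     [0, 1, 1, 1, 0, 0], [0, 0, 0, 0, 1, 0]]], [[0, 0, 1, 0, 0, 0]]), (9, [3, 1, 2, 0, 3, 2, 4,
     5], [[[-1, 1, -1, 0, 1, 1], [1, -1, 1, -1, -1, 0], [-2, -1, -3, -3, -1, -1], [0, -1, 0, -1,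
     -2, 0], [-1, -1, -2, -2, -1, -2], [0, 1, 1, 2, 0, 1], [1, 0, 1, 1, 1, -1]]], [[-3, 1, 3,
     -1, 0, -1]]), (12, [0, 1, 3, 2, 5, 4], [[[0, -1, 0, 0, 0, 0], [0, 0, 0, -1, 0, 0], [-1, -1,
     -1, -1, -1, -1], [0, -1, -1, -2, -1, 0], [-1, 0, -1, -1, -1, -1]]], [[1, 0, -1, 0, 0, 0]])] = true := by
  rw [tbE6]; decide +kernel

theorem sylChk_E7 : sylChk (tb chevE7) [2, 6, 8, 10, 12, 14, 18]
    [(1, [], [[[0, 0, 0, 1, 0, 0, 0], [0, 0, 0, 1, 0, 0, 0]], [[0, -1, -1, 1, 0, 0, 0], [0, -1,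
     -1, 1, 0, 0, 0]], [[0, -1, 0, 0, 0, 0, -1], [0, -1, 0, 0, 0, 0, -1]], [[-1, 0, 0, 0, -1, 1,
     0], [-1, 0, 0, 0, -1, 1, 0]], [[0, 0, 0, 0, 0, 0, 1], [0, 0, 0, 0, 0, 0, 1]], [[-1, -1, 1,
     0, 0, 0, 0], [-1, -1, 1, 0, 0, 0, 0]], [[0, 0, 0, -1, -1, 0, -1], [0, 0, 0, -1, -1, 0,
     -1]]], [[1, 0, 1, 1, -1, 0, 0], [-1, 0, -1, 0, 0, -1, 0], [2, -1, 1, 0, 0, 2, 0], [0, 0, 0,
     0, 0, 1, 0], [2, -1, 1, 0, -1, 1, 1], [-1, 0, 0, 0, 0, -1, 0], [0, 0, 0, 0, -1, -1, 0]]),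
     (2, [0, 1, 2, 0, 3, 1, 2, 0, 3, 2, 4, 3, 1, 2, 0, 3, 2, 4, 3, 1, 5, 4, 3, 1, 2, 0, 3, 2, 4,
     3, 1, 5, 4, 3, 2, 0, 6, 5, 4, 3, 1, 2, 0, 3, 2, 4, 3, 1, 5, 4, 3, 2, 0, 6, 5, 4, 3, 1, 2,
     3, 4, 5, 6], [[[1, 0, 0, 0, 0, 0, -1], [-1, 0, 0, 0, 0, 0, 1]], [[0, 0, 0, -1, -1, 0, 1],
     [0, 0, 0, 1, 1, 0, -1]], [[-1, -1, 0, 0, 0, 0, 0], [1, 1, 0, 0, 0, 0, 0]], [[0, 0, 0, -1,
     0, 0, 1], [0, 0, 0, 1, 0, 0, -1]], [[-1, -1, -1, 1, 0, -1, 0], [1, 1, 1, -1, 0, 1, 0]],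
     [[0, 0, 0, 0, 0, -1, 1], [0, 0, 0, 0, 0, 1, -1]], [[0, 0, 1, 0, 1, 0, 1], [0, 0, -1, 0, -1,
     0, -1]]], [[1, -1, 0, 0, 0, 0, 0], [1, -1, 0, 1, -1, 1, 1], [-1, 0, 1, -1, 0, -1, -1], [0,
     0, -1, -1, 1, 0, 0], [1, -1, -1, 1, 0, 1, 1], [-1, 1, 1, -1, 0, -2, -1], [1, -1, 0, 1, 0,
     1, 1]]), (3, [3, 1, 2, 3, 4, 3, 1, 2, 0, 3, 2, 4, 3, 1, 5, 4, 3, 1, 2, 0, 3, 2, 4, 5],
     [[[1, 0, 1, 0, 0, -1, 0], [0, 0, -1, 0, -1, 0, 0], [-1, 0, 0, 0, 1, 1, 0]], [[-1, 0, 0, 1,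
     0, 0, 0], [1, 2, 2, 2, 2, 1, 0], [0, -2, -2, -3, -2, -1, 0]], [[1, 1, 1, 0, 1, 0, 0], [0,
     -2, -2, -2, -2, -1, 0], [-1, 1, 1, 2, 1, 1, 0]]], [[0, 1, 0, 0, -1, 0, 0], [1, -1, -1, 1,
     1, 0, 0], [1, -1, -2, 1, 2, -1, 0]]), (4, [2, 0, 3, 2, 4, 3, 1, 2, 0, 3], [[[1, -2, 1, -1,
     1, 0, 0], [3, 3, 5, 5, 2, 0, 0], [-1, 2, -1, 1, -1, 0, 0]], [[0, 1, 0, 1, 0, 0, 0], [-1,
     -1, -2, -2, -1, 0, 0], [0, -1, 0, -1, 0, 0, 0]]], [[1, 0, 0, 0, -1, 0, 0], [3, 1, -1, -1,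
     -1, 0, 0]]), (5, [1, 4, 3, 5], [[[0, 0, 0, -1, 0, -1, 0], [0, 1, 0, 1, 2, 1, 0], [0, 1, 0,
     2, 1, 1, 0], [0, -1, 0, 0, -1, 0, 0], [0, -1, 0, -2, -2, -1, 0]]], [[0, -2, 0, 1, 1, -1,
     0]]), (6, [1, 2, 0, 3, 4, 3, 5, 4, 3, 1, 2, 0, 3, 6, 5, 4, 3, 1, 2, 0, 3], [[[1, -1, 0, 0,
     0, -1, 1], [-1, -3, -5, -6, -4, -3, -1], [-2, -2, -5, -6, -4, -2, -2]], [[0, -1, 0, 0, 0,
     1, 1], [1, -1, 0, -1, -1, 0, 0], [1, 0, 0, -1, -1, -1, -1]], [[0, 0, 0, 0, 0, -1, 0], [-1,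
     -1, -2, -2, -1, -1, 0], [-1, -1, -2, -2, -1, 0, 0]]], [[0, -1, -1, 2, -1, 0, -1], [0, 1, 2,
     -3, 1, 0, 1], [0, 2, 2, -5, 3, 0, 2]]), (7, [4, 3, 5, 4, 3, 2, 0, 6], [[[0, 0, 0, 0, -1, 0,
     0], [0, 0, 0, 1, 1, 0, 0], [0, 0, 1, 0, 0, 0, 0], [1, 0, 0, 0, 0, 0, 0], [-1, 0, -1, -1,
     -1, -1, 0], [0, 0, 0, 0, 0, 0, -1], [0, 0, 0, 0, 1, 1, 1]]], [[0, 0, 0, 0, 0, 0, -1]]), (8,
     [2, 3, 1, 5, 4], [[[0, 0, -1, -1, 0, 0, 0], [0, -1, -1, -2, -1, -1, 0], [0, -1, -1, -2, -2,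
     -1, 0], [0, -1, 0, -1, -1, 0, 0], [0, 0, 1, 1, 0, 0, 0]]], [[0, -1, 0, 0, 0, 1, 0]]), (9,
     [2, 0, 3, 1, 4, 3, 1, 5], [[[0, 1, 0, 1, 1, 0, 0], [0, 0, 0, 0, 0, 1, 0], [0, 0, -1, -1,
     -1, -1, 0], [-1, -1, -1, -1, -1, 0, 0], [0, -1, -1, -2, -1, -1, 0], [-1, 0, 0, 0, 0, 0, 0],
     [1, 0, 1, 0, 0, 0, 0]]], [[-1, 1, 1, -1, 0, 0, 0]]), (10, [2, 5, 4, 3, 1, 6], [[[0, 0, 0,
     0, 1, 0, 1], [0, 0, 1, 1, 0, -1, -1], [0, 1, 0, 1, 0, 1, 0], [0, 0, -1, -1, 0, 0, 1], [0,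
     -1, 0, -1, -1, -2, -1]]], [[0, 1, -1, 0, 0, -1, 0]]), (12, [1, 2, 0, 3, 5, 4], [[[0, 0, -1,
     -1, 0, 0, 0], [-1, -1, -1, -1, -1, -1, 0], [0, -1, -1, -2, -1, 0, 0], [-1, 0, -1, -1, -1,
     -1, 0], [0, -1, 0, -1, -1, 0, 0]]], [[0, 1, 0, 0, -1, 0, 0]]), (14, [3, 1, 4, 3, 2, 0, 6,
     5, 4], [[[0, -1, 0, 0, 1, 0, 0], [0, -1, 0, -1, -2, -1, -1], [0, 0, -1, -1, -1, 0, 1], [-1,
     0, -1, 0, 1, 1, 0], [0, 1, 1, 1, 0, -1, -1], [1, 0, 1, 1, 1, 0, 1], [0, -1, 0, 0, 0, 1,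
     0]]], [[-1, -1, 0, 2, -1, 0, 1]]), (18, [0, 1, 5, 4, 3, 2, 6], [[[1, 0, 0, 0, 0, 0, 0], [0,
     1, 1, 1, 1, 1, 0], [0, 0, 0, 1, 1, 1, 1], [1, 1, 1, 1, 1, 0, 0], [0, 1, 1, 2, 1, 1, 0], [1,
     0, 1, 1, 1, 1, 1], [0, 1, 1, 1, 1, 0, 0]]], [[0, -1, 1, 0, 0, 0, 0]])] = true := by
  rw [tbE7]; decide +kernel

theorem sylChk_E8 : sylChk (tb chevE8) [2, 8, 12, 14, 18, 20, 24, 30]
    [(1, [], [[[-1, 1, 0, 1, 0, 1, 0, 0], [-1, 1, 0, 1, 0, 1, 0, 0]], [[-1, 0, 0, 0, -1, 0, 0,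
     0], [-1, 0, 0, 0, -1, 0, 0, 0]], [[1, 1, 0, 0, 0, 0, 0, 1], [1, 1, 0, 0, 0, 0, 0, 1]],
     [[-1, 0, 0, 1, 0, 1, 0, 0], [-1, 0, 0, 1, 0, 1, 0, 0]], [[-1, 0, 0, 0, 0, 0, 1, 0], [-1, 0,
     0, 0, 0, 0, 1, 0]], [[0, 0, -1, 0, 0, 0, 1, 0], [0, 0, -1, 0, 0, 0, 1, 0]], [[0, 0, 0, 1,
     0, 0, 0, 1], [0, 0, 0, 1, 0, 0, 0, 1]], [[1, -1, 0, 0, 0, 1, 0, 0], [1, -1, 0, 0, 0, 1, 0,
     0]]], [[2, 1, 2, 3, -2, -1, 2, -3], [0, 0, 0, 0, -1, 0, 0, 0], [-1, 0, -1, -2, 1, 1, -1,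
     2], [-3, -1, -3, -4, 3, 2, -3, 4], [0, 0, 1, 0, 0, 0, 1, 0], [0, 0, -1, 0, 0, 0, 0, 0], [1,
     0, 1, 2, -1, -1, 1, -1], [1, 0, 1, 1, -1, 0, 1, -1]]), (2, [0, 1, 2, 0, 3, 1, 2, 0, 3, 2,
     4, 3, 1, 2, 0, 3, 2, 4, 3, 1, 5, 4, 3, 1, 2, 0, 3, 2, 4, 3, 1, 5, 4, 3, 2, 0, 6, 5, 4, 3,
     1, 2, 0, 3, 2, 4, 3, 1, 5, 4, 3, 2, 0, 6, 5, 4, 3, 1, 2, 3, 4, 5, 6, 7, 6, 5, 4, 3, 1, 2,
     0, 3, 2, 4, 3, 1, 5, 4, 3, 2, 0, 6, 5, 4, 3, 1, 2, 3, 4, 5, 6, 7, 6, 5, 4, 3, 1, 2, 0, 3,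
     2, 4, 3, 1, 5, 4, 3, 2, 0, 6, 5, 4, 3, 1, 2, 3, 4, 5, 6, 7], [[[-1, 1, 0, 0, 0, 0, 0, 0],
     [1, -1, 0, 0, 0, 0, 0, 0]], [[0, 0, -1, -1, -1, 0, 0, 1], [0, 0, 1, 1, 1, 0, 0, -1]], [[-1,
     1, -1, 0, 0, 0, 1, 0], [1, -1, 1, 0, 0, 0, -1, 0]], [[0, 0, 0, 0, 0, 1, 0, -1], [0, 0, 0,
     0, 0, -1, 0, 1]], [[0, 0, 0, 0, -1, 1, 0, 1], [0, 0, 0, 0, 1, -1, 0, -1]], [[0, 0, 0, 0, 0,
     -1, -1, 0], [0, 0, 0, 0, 0, 1, 1, 0]], [[1, 0, 0, 1, 1, 0, 0, -1], [-1, 0, 0, -1, -1, 0, 0,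
     1]], [[-1, 0, -1, 1, -1, 0, 0, -1], [1, 0, 1, -1, 1, 0, 0, 1]]], [[4, 5, 4, -1, -6, -3, 3,
     -3], [3, 3, 2, -1, -4, -2, 2, -2], [-4, -4, -4, 1, 6, 3, -3, 3], [-2, -2, -2, 0, 3, 2, -2,
     1], [-2, -2, -2, 1, 3, 2, -2, 2], [-4, -4, -4, 1, 6, 3, -4, 3], [2, 2, 1, 0, -2, -1, 1,
     -1], [1, 1, 1, 0, -2, -1, 1, -1]]), (3, [0, 2, 0, 3, 4, 3, 1, 2, 0, 3, 2, 4, 5, 4, 3, 1, 2,
     3, 6, 5, 4, 3, 1, 2, 0, 3, 2, 4, 3, 1, 5, 4, 3, 2, 7, 6, 5, 4, 3, 1, 2, 0, 3, 2, 4, 3, 1,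
     5, 4, 3, 2, 0, 6, 5, 4, 3, 1, 2, 3, 4, 5, 6, 7, 6, 5, 4, 3, 1, 2, 0, 3, 2, 4, 3, 1, 5, 4,
     3, 6, 5], [[[0, 0, 0, -1, 0, 0, -1, 0], [0, 0, 1, 2, 1, 1, 1, 1], [0, 0, -1, -1, -1, -1, 0,
     -1]], [[0, 0, -1, 0, 0, -1, 0, 0], [0, 1, 1, 1, 2, 2, 1, 0], [0, -1, 0, -1, -2, -1, -1,
     0]], [[0, 0, 0, -1, 0, -1, -1, 0], [1, 2, 3, 5, 4, 4, 3, 2], [-1, -2, -3, -4, -4, -3, -2,
     -2]], [[0, 1, 0, -1, 0, -1, 1, -1], [2, 2, 3, 3, 3, 4, 1, 2], [-2, -3, -3, -2, -3, -3, -2,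
     -1]]], [[2, -4, 0, -3, 2, 0, 3, 2], [2, -3, 0, -1, 2, 0, 1, -1], [-3, 4, 0, 2, -2, 0, -2,
     0], [2, -2, 0, -1, 1, 0, 1, 0]]), (4, [1, 3, 1, 2, 4, 3, 5, 4, 3, 1, 2, 0, 3, 2, 4, 3, 5,
     6, 5, 4, 3, 1, 2, 0, 3, 2, 4, 5, 7, 6, 5, 4, 3, 1, 2, 0, 3, 2, 4, 3, 1, 5, 4, 3, 2, 0, 6,
     5, 4, 3, 1, 2, 3, 7, 6, 5, 4, 3, 2, 0], [[[-1, 0, 0, -1, 0, 0, -1, 0], [1, 3, 2, 4, 4, 2,
     2, 1], [1, 0, 0, 1, 0, 0, 1, 0]], [[0, 1, 0, -1, -1, 0, -1, 0], [2, 3, 3, 5, 6, 5, 4, 2],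
     [0, -1, 0, 1, 1, 0, 1, 0]], [[1, -1, 1, 0, 1, -1, 0, -1], [-6, -8, -11, -16, -14, -11, -7,
     -4], [-1, 1, -1, 0, -1, 1, 0, 1]], [[0, -1, 1, 0, 1, 1, 0, 0], [-2, -1, -2, -3, -2, -3, -2,
     -1], [0, 1, -1, 0, -1, -1, 0, 0]]], [[1, 1, -9, 4, 2, 8, -5, -15], [-1, 0, 4, -2, -1, -3,
     3, 5], [1, 0, -3, 1, 1, 2, -2, -3], [-8, 2, 13, -4, -6, -5, 12, 2]]), (5, [4, 3, 1, 2, 0,
     3, 4, 5, 4, 3, 2, 6, 5, 4, 3, 1, 2, 0, 3, 2, 4, 3, 1, 5, 4, 3, 6, 7, 6, 5, 4, 3, 1, 2, 0,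
     3, 2, 4, 3, 1, 5, 4, 3, 2, 0, 6, 5, 7], [[[0, -1, 0, 0, 0, 0, 0, 1], [1, 0, 1, 1, 1, 0, -1,
     -1], [1, 1, 0, 1, 1, 1, 1, 0], [-1, 0, -1, -2, -1, 0, 0, 0], [-1, 0, 0, 0, -1, -1, 0, 0]],
     [[1, 1, 0, 0, 0, 0, 1, 0], [-2, -1, -2, -3, -2, 0, 0, 0], [-1, 0, 0, 0, -1, -2, -1, 0], [1,
     -1, 1, 1, 1, 1, 1, 1], [1, 1, 1, 2, 2, 1, -1, -1]]], [[-1, 0, 0, -2, 4, -2, 1, 0], [-1, -1,
     0, -1, 3, -2, 2, -1]]), (6, [0, 2, 3, 2, 0, 4, 3, 1, 2, 0, 5, 4, 3, 1, 2, 0, 6, 5, 7, 6, 5,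
     4, 3, 1, 2, 0, 3, 2, 4, 3, 1, 5, 4, 3, 2, 6, 5, 4, 3, 1], [[[1, 0, 1, -1, 0, 0, 0, -1],
     [-1, -2, -3, -6, -4, -2, -1, 0], [-2, -2, -4, -5, -4, -2, -1, 1]], [[-1, 0, 0, 0, -1, 1, 0,
     1], [0, 1, 1, 2, -1, -1, -1, 0], [1, 1, 1, 2, 0, -2, -1, -1]], [[-1, 0, 0, 0, 0, 1, -1, 0],
     [0, 0, 0, 0, -2, -1, -2, -1], [1, 0, 0, 0, -2, -2, -1, -1]], [[0, 0, 0, 1, 0, 1, 0, 0], [1,
     1, 2, 3, 1, 1, 1, 0], [1, 1, 2, 2, 1, 0, 1, 0]]], [[-3, 3, -1, 0, -1, 0, 3, -4], [-1, 8,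
     -3, -1, -1, 1, 2, -3], [2, -8, 3, 1, 1, -1, -3, 4], [-5, -1, 1, 1, -1, -1, 4, -5]]), (7,
     [1, 4, 3, 6, 5, 4, 3, 7], [[[0, 0, 0, 0, -1, 0, 0, 0], [0, 1, 0, 1, 1, 0, 0, 0], [0, -1, 0,
     0, 0, 0, 0, 0], [0, 0, 0, -1, -1, -1, -1, 0], [0, 0, 0, 0, 0, 0, 0, -1], [0, 0, 0, 0, 0, 0,
     1, 1], [0, 0, 0, 0, 1, 1, 0, 0]]], [[0, 0, 0, 0, 0, -1, 1, 0]]), (8, [2, 0, 3, 1, 2, 4, 3,
     1, 2, 0, 3, 2, 4, 5, 4, 3, 1, 2, 0, 3, 4, 6, 5, 4, 7, 6, 5, 4, 3, 1], [[[0, 0, 0, 1, 1, -1,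
     0, 1], [1, 2, 4, 5, 3, 3, 2, 0], [2, 1, 2, 2, 3, 3, 2, 2], [0, 2, 1, 4, 2, 1, 1, 1], [0, 0,
     0, -1, -1, 1, 0, -1]], [[0, 1, 0, 1, 0, 0, 0, 0], [-1, -1, -2, -3, -2, -1, -1, -1], [-1,
     -2, -3, -4, -3, -3, -2, -1], [-1, -1, -1, -2, -2, -2, -1, -1], [0, -1, 0, -1, 0, 0, 0,
     0]]], [[0, -1, -1, 1, -1, 0, 2, 0], [0, 0, 0, 0, -1, -1, 3, 0]]), (9, [0, 1, 2, 0, 3, 1, 2,
     5, 4, 3, 6, 5, 4, 3], [[[-1, 0, 1, 0, 0, 0, 0, 0], [1, -1, 1, 0, 1, 1, 1, 0], [1, 0, 0, 1,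
     0, -1, 0, 0], [0, 1, -1, 0, 0, 0, -1, 0], [-2, 0, -1, -1, -1, 0, 0, 0], [0, -1, 1, -1, 0,
     0, 0, 0], [1, -1, 0, 0, 0, 0, 1, 0]]], [[0, -1, 0, 0, 0, 0, -1, 0]]), (10, [1, 3, 1, 2, 5,
     4, 3, 6, 5, 4, 3, 1, 2, 0, 7, 6, 5, 4, 3, 1, 2, 0, 3, 4], [[[1, -1, 0, 1, 0, 0, 0, 0], [-1,
     -1, -1, 0, 1, 1, 0, -1], [-1, -2, -1, -3, -1, 0, 1, 0], [-1, -2, -1, -2, -2, -2, 0, 1],
     [-2, 0, -1, 0, 0, -1, -1, 0]], [[0, 1, 0, 0, 0, 0, 0, 0], [1, 1, 1, 1, 0, 0, 0, 0], [1, 1,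
     1, 2, 1, 1, 0, 0], [1, 1, 1, 2, 2, 2, 1, 0], [1, 0, 1, 1, 1, 1, 1, 0]]], [[-1, 0, 0, 1, -1,
     0, 1, 0], [0, 0, 0, 0, 1, -1, 1, 0]]), (12, [0, 3, 1, 2, 3, 4, 3, 5, 4, 3, 1, 2, 0, 3, 7,
     6, 5, 4, 3, 1, 2, 0, 3, 2, 4, 5], [[[0, 0, -1, -1, 0, 0, 1, 0], [1, 2, 2, 4, 4, 3, 1, 1],
     [2, 1, 2, 2, 2, 1, 1, 0], [0, 2, 1, 2, 2, 1, 0, 0], [2, 1, 3, 3, 2, 1, 0, 0]], [[1, 0, 1,
     0, 0, -1, 0, -1], [-1, 1, 0, 0, 0, 0, -1, 0], [1, -1, 1, 0, -1, -1, -1, -1], [-3, -2, -4,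
     -6, -5, -4, -2, -1], [0, -1, 0, 0, -1, 0, -1, 0]]], [[1, 1, -2, 2, -1, -1, 0, 0], [1, 0,
     -1, 0, 1, -1, -1, 1]]), (14, [0, 2, 0, 3, 1, 2, 3, 5, 6, 5, 4, 3, 7], [[[-1, -1, -2, -1, 0,
     0, 0, 0], [-1, -2, -2, -3, -2, -2, -2, 0], [-1, -2, -3, -4, -3, -3, -3, -2], [-2, -3, -4,
     -5, -4, -2, -2, -1], [-1, -2, -2, -4, -4, -3, -3, -1], [-1, -1, -2, -3, -3, -2, -2, -2],
     [-1, -1, -1, -2, -2, 0, 0, 0]]], [[-2, 2, 1, -2, 1, 0, 0, 0]]), (15, [0, 1, 6, 5, 4, 3, 7,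
     6, 5, 4, 3, 1, 2, 0, 3, 2], [[[0, 1, 0, 1, 0, 0, 0, 1], [0, 1, 1, 1, 1, 2, 1, 0], [1, 2, 1,
     2, 1, 0, 0, 0], [1, 1, 2, 2, 2, 2, 2, 0], [1, 1, 1, 2, 2, 0, 0, 0], [1, 0, 2, 2, 2, 2, 2,
     1], [0, 0, 0, 1, 1, 0, -1, 0], [0, 0, 1, 1, 0, 1, 1, 1], [-1, 0, -1, -1, -1, -1, -2, -1]]],
     [[-2, 0, 2, 0, 0, -1, 0, 0]]), (18, [0, 4, 3, 1, 2, 6, 5], [[[1, 1, 0, 0, 0, 0, 1, 0], [0,
     -1, 1, 0, 1, 1, 0, 0], [-1, 1, -1, 1, 0, 0, 0, 0], [2, 0, 1, 0, 0, 0, 0, 0], [-1, 0, 1, 1,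
     1, 0, 0, 0], [0, 1, -1, 0, 0, 1, 1, 0], [1, -1, 1, 0, 0, 0, -1, 0]]], [[-1, 1, 2, 0, -3, 2,
     0, 0]]), (20, [2, 0, 3, 1, 4, 3, 6, 5, 4, 3, 1, 7], [[[0, 1, 0, 0, 0, 0, 0, 0], [0, 0, 0,
     0, -1, -1, -1, 0], [0, 0, 0, 0, 0, -1, -1, -1], [0, -1, -1, -1, -1, -1, 0, 0], [-1, -1, -1,
     -1, 0, 0, 0, 0], [0, -1, -1, -2, -1, 0, 0, 0], [-1, 0, -1, -1, -1, 0, 0, 0], [0, 0, 0, -1,
     -1, -1, -1, 0], [0, 0, 0, 0, -1, -1, -1, -1]]], [[-1, 0, 2, -1, 0, -1, 1, 0]]), (24, [2, 0,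
     4, 3, 1, 2, 3, 5, 7, 6], [[[0, 0, 0, 1, 0, 0, 0, 0], [-1, -1, -1, -1, -1, 0, 0, 0], [-1,
     -1, -1, -2, -2, -1, 0, 0], [-1, -1, -2, -3, -3, -2, -1, -1], [-1, -2, -3, -4, -4, -3, -2,
     -1], [-2, -3, -4, -5, -4, -3, -2, -1], [-2, -3, -3, -5, -4, -3, -2, -1], [-2, -2, -3, -5,
     -4, -3, -2, -1], [-1, -2, -3, -5, -4, -3, -2, -1]]], [[-1, 1, 0, 0, 0, 0, -1, 1]]), (30,
     [2, 0, 5, 4, 3, 1, 6, 7], [[[1, 0, 0, 0, 0, 1, 0, 1], [-1, 0, -1, 0, 1, 0, 0, -1], [0, 0,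
     1, 0, -1, 0, 1, 1], [1, 0, 0, 0, 1, 0, -1, 0], [-1, 0, 0, 1, 0, 0, 0, -1], [1, 1, 1, 0, 0,
     1, 1, 1], [0, -1, -1, 0, 1, 0, 0, 0], [-1, 1, 1, 1, 0, 0, 0, 0], [2, 0, 1, 0, 0, 0, 0,
     0]]], [[0, 1, -1, 1, 0, -1, 0, 1]])] = true := by
  rw [tbE8]; decide +kernel

end Cfsg.Agent.H12
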