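import Mathlib
import Cfsg.Agent.H12.SS8

/-! The prime graph of `F₄(2ⁿ)`. -/

namespace Cfsg.Agent.H12

open Matrix Cfsg.Lie Polynomial

section Generic

variable {D : ChevalleyDatum} [Good D] {F K : Type*} [Field F] [Field K] [Fintype F] {p : ℕ}
  [hp : Fact p.Prime] [CharP K p] [IsAlgClosed K] (Z : Frob F K p) (hk : (hT D K).ker = ⊥)

theorem cM_apply (w : (rsOf D).W) (j k : Fin D.rank) :
    (rsOf D).cM w j k = (tb D).co (w • (rsOf D).simple k :) j := by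
  refine congrFun ((rsOf D).cc_eq (c := fun j => (tb D).co (w • (rsOf D).simple k :) j)
    ((Pi.basisFun ℤ _).ext fun i => ?_)) j
  rw [Pi.basisFun_apply, ← (rsOf D).α_simple, cor_α, pairing_eq, ← Fin.sum_univ_eq_sum_range
    (fun i' => coF D _ i' * D.cartan i' _), LinearMap.sum_apply]
  exact Finset.sum_congr rfl fun i' _ => congrArg _ (rwt_eq _ _).symm

theorem cyclotomic_dvd_charpoly (w : (rsOf D).W) {r : ℕ} (hr : r.Prime)
    (hW : ¬ r ∣ Nat.card (rsOf D).W) {q : ℤ} (h : (r : ℤ) ∣ (q • 1 - (rsOf D).cM w).det) :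
    cyclotomic (orderOf (q : ZMod r)) ℤ ∣ ((rsOf D).cM w).charpoly := by
  have h1 := fun α => pow_eq_one_of_charpoly (M := (rsOf D).cM w) (N := Nat.card (rsOf D).W)
    (by rw [← map_pow, pow_card_eq_one', map_one]) (α := α)
  obtain ⟨d, h2, h3, h4⟩ := exists_cyclotomic_dvd Nat.card_pos.ne' hr q _ _ rfl (charpoly_monic _)
    h1 (by rwa [eval_charpoly_eq])
  have h5 := Complex.isPrimitiveRoot_exp d h2.ne'
  rwa [orderOf_eq_of_dvd_cyclotomic hr (fun e => hW (e.trans (h5.dvd_of_pow_eq_one _ (h1 _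
    (aeval_eq_zero_of_dvd_aeval_eq_zero h3 (by
      rw [aeval_def, ← eval_map, map_cyclotomic]
      exact h5.isRoot_cyclotomic h2)))))) h4]

include Z

theorem Frob.card_tor (w : (rsOf D).W) : Nat.card (mT (Γ := Kˣ) ((Fintype.card F : ℤ) • 1 -
    (rsOf D).cM w)).ker = ((Fintype.card F : ℤ) • 1 - (rsOf D).cM w).det.natAbs ∧
    ((Fintype.card F : ℤ) • 1 - (rsOf D).cM w).det.natAbs ≠ 0 := by
  have h := cast_det_sub_ne (K := K) (P := 1) (M := (rsOf D).cM w) (orderOf_pos w).ne'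
    (by rw [← map_pow, pow_orderOf_eq_one, map_one]) (q := Fintype.card F)
    (by exact_mod_cast Z.cast_card)
  exact ⟨card_ker_mT h, Int.natAbs_ne_zero.2 fun e => h (by rw [e, Int.cast_zero])⟩

include hk

theorem Frob.exists_adj (w : (rsOf D).W) {r s : ℕ} (hr : r.Prime) (hs : s.Prime) (hrs : r ≠ s)
    (h1 : (r : ℤ) ∣ ((Fintype.card F : ℤ) • 1 - (rsOf D).cM w).det)
    (h2 : (s : ℤ) ∣ ((Fintype.card F : ℤ) • 1 - (rsOf D).cM w).det) :
    ∃ x : D.group F, orderOf x = r * s := by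
  obtain ⟨f, hf⟩ := Z.exists_torus hk w
  have h3 := Z.card_tor w
  have := Nat.finite_of_card_ne_zero (h3.1 ▸ h3.2)
  have := Fact.mk hr
  have := Fact.mk hs
  obtain ⟨a, ha⟩ := exists_prime_orderOf_dvd_card' r (h3.1 ▸ Int.natCast_dvd.1 h1)
  obtain ⟨b, hb⟩ := exists_prime_orderOf_dvd_card' s (h3.1 ▸ Int.natCast_dvd.1 h2)
  exact ⟨f (a * b), by
    rw [orderOf_injective f hf, (Commute.all a b).orderOf_mul_eq_mul_orderOf_of_coprime
      (by rw [ha, hb]; exact (Nat.coprime_primes hr hs).2 hrs), ha, hb]⟩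

theorem Frob.exists_adj_char (a : List (Fin D.rank)) (γ : Fin D.nroots)
    (ha : ∀ i ∈ a, (tb D).refl i γ = γ ∧ (tb D).eta i γ = 1) {s : ℕ} (hs : s.Prime) (hsp : s ≠ p)
    (h1 : (s : ℤ) ∣ ((Fintype.card F : ℤ) • 1 - (rsOf D).cM (wprod (rsOf D).s a)).det)
    (h2 : ¬ s ∣ Fintype.card F - 1) : ∃ x : D.group F, orderOf x = s * p := by
  have h5 : wprod (rsOf D).s a • γ = γ ∧ (grpRGD D K).mw a * (grpSt D K).x γ 1 *
      ((grpRGD D K).mw a)⁻¹ = (grpSt D K).x γ 1 := by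
    clear h1
    induction a with
    | nil => simp
    | cons i a ih =>
      have h5 := ih fun j hj => ha j (List.mem_cons_of_mem _ hj)
      have h6 := m_conj_x_of (grpSt D K) i γ γ (ha i List.mem_cons_self) 1
      refine ⟨by rw [wprod_cons, mul_smul, h5.1]; exact Fin.ext (ha i List.mem_cons_self).1, ?_⟩
      rw [RGD.mw_cons, _root_.mul_inv_rev, ← mul_assoc, mul_assoc _ _ ((grpSt D K).x γ 1),
        mul_assoc ((grpRGD D K).m i), h5.2]
      exact h6.trans (by simp)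
  have h3 := Z.card_tor (wprod (rsOf D).s a)
  have := Nat.finite_of_card_ne_zero (h3.1 ▸ h3.2)
  have := Fact.mk hs
  obtain ⟨⟨c, hc⟩, h4⟩ := exists_prime_orderOf_dvd_card' s (h3.1 ▸ Int.natCast_dvd.1 h1)
  replace h4 : orderOf c = s := (Subgroup.orderOf_mk ..).symm.trans h4
  replace hc := mem_ker_mT_iff.1 hc
  have h6 : γ ∈ (rsOf D).cP c := by
    have h6 := (rsOf D).wp_rwt_smul (wprod (rsOf D).s a) γ c
    rw [h5.1, ← hc, map_pow, ← Nat.sub_add_cancel (Fintype.card_pos (α := F)), pow_succ,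
      mul_eq_right] at h6
    exact orderOf_eq_one_iff.1 (((Nat.dvd_prime hs).1 (h4 ▸ orderOf_map_dvd _ c)).resolve_right
      fun e => h2 (e ▸ orderOf_dvd_of_pow_eq_one h6))
  have h7 : Commute ((grpSt D K).x γ 1) (hP D K c) := StSys.commute_of_mem (hM := grpNM)
    (Subgroup.mem_sup_left (RGD.U_le_US (X := grpRGD D K) h6 ((grpSt D K).x_mem_U _ _)))
  obtain ⟨x, hx⟩ := Z.exists_orderOf hk (n := (grpRGD D K).mw a)
    (y := hP D K c * (grpSt D K).x γ 1) (by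
      rw [map_mul, fieldHom_x, map_one, Z.θ_hP_of (RGD.rep_mw a) hc]
      conv_lhs => rw [← h5.2]
      group)
  have h8 := orderOf_injective _ (hP_injective hk) c
  exact ⟨x, by
    rw [hx, h7.symm.orderOf_mul_eq_mul_orderOf_of_coprime (by
      rw [h8, h4, orderOf_grp_x (p := p)]; exact (Nat.coprime_primes hs hp.out).2 hsp), h8, h4,
      orderOf_grp_x (p := p)]⟩

end Generic

/-- `det (t - M)` for the matrix `M` with columns `a`, `b`, `c`, `d` -/
def det4 (t : ℤ) (a b c d : Fin 4 → ℤ) : ℤ :=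
  ((t - a 0) * (t - b 1) - b 0 * a 1) * ((t - c 2) * (t - d 3) - d 2 * c 3) -
  (c 0 * a 1 + (t - a 0) * c 1) * (d 2 * b 3 + b 2 * (t - d 3)) -
  ((t - a 0) * d 1 + d 0 * a 1) * (b 2 * c 3 + (t - c 2) * b 3) -
  (b 0 * c 1 + c 0 * (t - b 1)) * (a 2 * (t - d 3) + d 2 * a 3) -
  (b 0 * d 1 + d 0 * (t - b 1)) * (a 2 * c 3 + (t - c 2) * a 3) +
  (c 0 * d 1 - d 0 * c 1) * (a 2 * b 3 - b 2 * a 3)

theorem det_sub_four (t : ℤ) (M : Matrix (Fin 4) (Fin 4) ℤ) :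
    (t • 1 - M).det = det4 t (M · 0) (M · 1) (M · 2) (M · 3) := by
  rw [show t • 1 - M = of fun j k => (if j = k then t else 0) - M j k by
    ext j k; rw [Matrix.sub_apply, Matrix.smul_apply, one_apply]; simp]
  simp [det4, det_succ_row_zero, Fin.sum_univ_succ, Fin.succAbove]
  ring

noncomputable def f4Chk (X : Tab) : Bool :=
  allLt 48 fun b => allLt 48 fun c => (decide (X.pairing b c ≠ -2) || decide (X.pairing c b ≠ -1)) ||
    allLt 48 fun a => (decide (X.pairing a b ≠ -1) || decide (X.pairing b a ≠ -1) ||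
      decide (X.pairing a c ≠ 0)) || allLt 48 fun d => (decide (X.pairing c d ≠ -1) ||
      decide (X.pairing d c ≠ -1) || decide (X.pairing b d ≠ 0) || decide (X.pairing a d ≠ 0)) ||
      (forceZ (det4 1 (X.co a ·) (X.co b ·) (X.co c ·) (X.co d ·)) fun x => decide (x ≠ 3) && decide (x ≠ 6))
        && decide (det4 (-1) (X.co a ·) (X.co b ·) (X.co c ·) (X.co d ·) ≠ 6)

theorem f4Chk_F4 : f4Chk (tb chevF4) = true := by
  rw [tbF4]
  decide +kernel

theorem det_F4 (w : (rsOf chevF4).W) : ((1 : ℤ) • 1 - (rsOf chevF4).cM w).det ≠ 3 ∧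
    ((1 : ℤ) • 1 - (rsOf chevF4).cM w).det ≠ 6 ∧ ((-1 : ℤ) • 1 - (rsOf chevF4).cM w).det ≠ 6 := by
  let a : Fin 4 → Fin chevF4.nroots := fun i => w • (rsOf chevF4).simple i
  have h1 : ∀ t : ℤ, (t • 1 - (rsOf chevF4).cM w).det = det4 t ((tb chevF4).co (a 0) ·)
      ((tb chevF4).co (a 1) ·) ((tb chevF4).co (a 2) ·) ((tb chevF4).co (a 3) ·) := fun t => by
    rw [show (rsOf chevF4).cM w = (of fun j k : Fin 4 => (tb chevF4).co (a k) j) from
      ext (cM_apply w)]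
    exact det_sub_four ..
  have h2 : ∀ i j, (tb chevF4).pairing (a i) (a j) =
      !![2, -1, 0, 0; -1, 2, -2, 0; 0, -1, 2, -1; 0, 0, -1, 2] i j := fun i j => by
    have : (of fun i j : Fin 4 => fastF4.tab.pairing (chevF4.simple i) (chevF4.simple j)) =
      !![2, -1, 0, 0; -1, 2, -2, 0; 0, -1, 2, -1; 0, 0, -1, 2] := by decide +kernel
    rw [tb_pairing, pairing_smul, ← tb_pairing, tbF4]
    exact congrFun (congrFun this i) j
  have h := f4Chk_F4
  simp only [f4Chk, allLt_iff, Bool.or_eq_true, Bool.and_eq_true, decide_eq_true_eq, forceZ_eq] at h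
  have h3 := (((h _ (a 1).2 _ (a 2).2).resolve_left (by simp [h2]) _ (a 0).2).resolve_left
    (by simp [h2]) _ (a 3).2).resolve_left (by simp [h2])
  exact ⟨h1 _ ▸ h3.1.1, h1 _ ▸ h3.1.2, h1 _ ▸ h3.2⟩

def f4S : Fin 4 → Matrix (Fin 4) (Fin 4) ℤ :=
  ![!![-1, 1, 0, 0; 0, 1, 0, 0; 0, 0, 1, 0; 0, 0, 0, 1],
    !![1, 0, 0, 0; 1, -1, 1, 0; 0, 0, 1, 0; 0, 0, 0, 1],
    !![1, 0, 0, 0; 0, 1, 0, 0; 0, 2, -1, 1; 0, 0, 0, 1],
    !![1, 0, 0, 0; 0, 1, 0, 0; 0, 0, 1, 0; 0, 0, 1, -1]]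

theorem cM_wprod_F4 (a : List (Fin 4)) :
    (rsOf chevF4).cM (wprod (rsOf chevF4).s a) = (a.map f4S).prod := by
  have : ∀ i : Fin 4, (of fun j k : Fin 4 => ((if j.1 = k.1 then 1 else 0) - if j.1 = i.1 then
      chevF4.cartan k (chevF4.simple i) else 0 : ℤ)) = f4S i := by
    decide +kernel
  induction a with
  | nil => exact map_one _
  | cons i a ih =>
    exact (map_mul _ _ _).trans (congrArg₂ _ (ext fun j k => (cM_s_apply ..).trans
      (congrFun (congrFun (this i) j) k)) ih)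

theorem cyc_four : cyclotomic 4 ℤ = X ^ 2 + 1 := by
  rw [← cyclotomic_expand_eq_cyclotomic Nat.prime_two (dvd_refl 2), cyclotomic_two]; simp

theorem cyc_eight : cyclotomic 8 ℤ = X ^ 4 + 1 := by
  rw [← cyclotomic_expand_eq_cyclotomic (n := 4) Nat.prime_two (by decide), cyc_four]
  simp [← pow_mul]

theorem cyc_twelve : cyclotomic 12 ℤ = X ^ 4 - X ^ 2 + 1 := by
  rw [← cyclotomic_expand_eq_cyclotomic (n := 6) Nat.prime_two (by decide), cyclotomic_six]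
  simp [← pow_mul]

/-- the characteristic polynomials of some elements of `W(F₄)` -/
theorem det_wprod_F4 (q : ℤ) (a : List (Fin 4)) (L : List ℕ) (h : (a, L) ∈ [([0, 1, 3], [1, 2, 3]),
    ([0, 1, 2, 1, 2], [1, 2, 4]), ([0, 1, 2], [1, 2, 6]), ([0, 1], [1, 1, 3]),
    ([0, 1, 2, 1, 2, 3], [8]), ([0, 1, 2, 3], [12])]) :
    (q • 1 - (rsOf chevF4).cM (wprod (rsOf chevF4).s a)).det =
      (L.map fun d => (cyclotomic d ℤ).eval q).prod := by
  rw [cM_wprod_F4]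
  refine (det_sub_four ..).trans ?_
  simp only [List.mem_cons, List.not_mem_nil, or_false, Prod.mk.injEq] at h
  rcases h with ⟨rfl, rfl⟩ | ⟨rfl, rfl⟩ | ⟨rfl, rfl⟩ | ⟨rfl, rfl⟩ | ⟨rfl, rfl⟩ | ⟨rfl, rfl⟩ <;>
  · simp [det4, f4S, cyc_four, cyc_eight, cyc_twelve, cyclotomic_six, cyclotomic_three]
    ring

section Graph

variable {F : Type*} [Field F] [Fintype F] {r s : ℕ}

theorem charpoly_eq_F4 {w : (rsOf chevF4).W} {q : ℤ} (hr : r.Prime) (h2 : r ≠ 2)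
    (h : (r : ℤ) ∣ (q • 1 - (rsOf chevF4).cM w).det) (he : 2 < orderOf (q : ZMod r)) :
    cyclotomic (orderOf (q : ZMod r)) ℤ ∣ ((rsOf chevF4).cM w).charpoly := by
  refine cyclotomic_dvd_charpoly w hr (fun e => ?_) h
  rw [card_W_F4, show 1152 = 2 ^ 7 * 3 ^ 2 from rfl] at e
  rcases hr.dvd_mul.1 e with e | e
  · exact h2 ((Nat.prime_dvd_prime_iff_eq hr Nat.prime_two).1 (hr.dvd_of_dvd_pow e))
  · obtain rfl := (Nat.prime_dvd_prime_iff_eq hr Nat.prime_three).1 (hr.dvd_of_dvd_pow e)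
    have : ∀ x : ZMod 3, x = 0 ∨ x ^ 2 = 1 := by decide
    rcases this q with e | e
    · rw [e, orderOf_zero] at he
      omega
    · exact absurd (Nat.le_of_dvd two_pos (orderOf_dvd_of_pow_eq_one e)) he.not_ge

theorem charpoly_big_F4 {w : (rsOf chevF4).W} {d : ℕ} (hd : d = 8 ∨ d = 12)
    (h : cyclotomic d ℤ ∣ ((rsOf chevF4).cM w).charpoly) :
    ((rsOf chevF4).cM w).charpoly = cyclotomic d ℤ :=
  eq_of_monic_of_dvd_of_natDegree_le (cyclotomic.monic d ℤ) (charpoly_monic _) h (by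
    rw [charpoly_natDegree_eq_dim, natDegree_cyclotomic, Fintype.card_fin]
    rcases hd with rfl | rfl <;> decide)

theorem charpoly_two_F4 {w : (rsOf chevF4).W} {d e : ℕ} (hd : (d, e) ∈ [(3, 6), (4, 6), (3, 4)])
    (h1 : cyclotomic d ℤ ∣ ((rsOf chevF4).cM w).charpoly)
    (h2 : cyclotomic e ℤ ∣ ((rsOf chevF4).cM w).charpoly) : False := by
  have h0 : 0 < d ∧ d ≠ e ∧ d.totient = 2 ∧ e.totient = 2 := (by decide : ∀ x ∈ [(3, 6), (4, 6),
    (3, 4)], 0 < x.1 ∧ x.1 ≠ x.2 ∧ x.1.totient = 2 ∧ x.2.totient = 2) _ hd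
  obtain ⟨g, hg⟩ := h2
  have h3 := (cyclotomic.monic e ℤ).of_mul_monic_left (hg ▸ charpoly_monic _)
  have h4 := charpoly_natDegree_eq_dim ((rsOf chevF4).cM w)
  rw [hg, (cyclotomic.monic e ℤ).natDegree_mul h3, natDegree_cyclotomic, h0.2.2.2,
    show Fintype.card (Fin chevF4.rank) = 4 from Fintype.card_fin _] at h4
  rcases (cyclotomic.irreducible h0.1).prime.dvd_or_dvd (hg ▸ h1) with h | h
  · exact h0.2.1 (cyclotomic_injective (eq_of_monic_of_dvd_of_natDegree_le (cyclotomic.monic d ℤ)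
      (cyclotomic.monic e ℤ) h (by rw [natDegree_cyclotomic, natDegree_cyclotomic]; omega)).symm)
  obtain rfl := eq_of_monic_of_dvd_of_natDegree_le (cyclotomic.monic d ℤ) h3 h
    (by rw [natDegree_cyclotomic]; omega)
  have h5 := det_F4 w
  simp only [← eval_charpoly_eq, hg, eval_mul] at h5
  simp only [List.mem_cons, List.not_mem_nil, or_false, Prod.mk.injEq] at hd
  rcases hd with ⟨rfl, rfl⟩ | ⟨rfl, rfl⟩ | ⟨rfl, rfl⟩ <;>
    simp [cyc_four, cyclotomic_six, cyclotomic_three] at h5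

theorem dvd_eval_cyclotomic (hr : r.Prime) {q : ℤ} (h : 0 < orderOf (q : ZMod r)) :
    (r : ℤ) ∣ (cyclotomic (orderOf (q : ZMod r)) ℤ).eval q := by
  have := Fact.mk hr
  exact (ZMod.intCast_zmod_eq_zero_iff_dvd _ r).1 ((cyclotomic.eval_apply q _
    (Int.castRingHom (ZMod r))).symm.trans ((IsPrimitiveRoot.orderOf _).isRoot_cyclotomic h))

variable [CharP F 2]

theorem not_adj_two_F4 (hs : s.Prime) (h2 : s ≠ 2) (h : orderOf (Fintype.card F : ZMod s) = 8 ∨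
    orderOf (Fintype.card F : ZMod s) = 12) (x : chevF4.group F) : orderOf x ≠ 2 * s := fun hx => by
  obtain ⟨Z⟩ := exists_frob' F 2
  obtain ⟨w, c, u, h1, h3, ⟨j, hj⟩, h4, h5⟩ := Z.exists_jordan (locFin_closure F) hT_ker_F4 x
  have h6 : s ∣ orderOf c := (hs.dvd_mul.1 (h5 ▸ hx ▸ dvd_mul_left s 2)).resolve_right fun e =>
    h2 ((Nat.prime_dvd_prime_iff_eq hs Nat.prime_two).1 (hs.dvd_of_dvd_pow (hj ▸ e)))
  have key : ∀ w, c ^ Fintype.card F = mT ((rsOf chevF4).cM w) c → ((rsOf chevF4).cM w).det = 1 :=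
    fun w e => by
      have h7 := charpoly_eq_F4 (w := w) (q := Fintype.card F) hs h2 ((Int.natCast_dvd_natCast.2
        h6).trans (orderOf_dvd_iff_zpow_eq_one.2 (pow_det_of_mT (mem_ker_mT_iff.2 e))))
        (by rw [Int.cast_natCast]; omega)
      rw [Int.cast_natCast] at h7
      rw [det_eq_sign_charpoly_coeff, charpoly_big_F4 h h7, cyclotomic_coeff_zero _ (by omega),
        Fintype.card_fin]
      rfl
  rcases US_eq_bot_or h3 with rfl | ⟨γ, hγ⟩
  · rw [orderOf_one, mul_one] at h5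
    exact h4 (h5 ▸ hx ▸ dvd_mul_right 2 s)
  · have := key _ (h1.trans (RS.mT_mul_rrefl hγ w).symm)
    rw [RS.det_cM_mul_rrefl, key w h1] at this
    omega

theorem not_adj_F4 (hr : r.Prime) (hs : s.Prime) (h1 : r ≠ 2) (h2 : s ≠ 2) {k l : ℕ}
    (hk : orderOf (Fintype.card F : ZMod r) = k) (hl : orderOf (Fintype.card F : ZMod s) = l)
    (hkl : k < l) (h : (l = 8 ∨ l = 12) ∨ (k, l) ∈ [(3, 6), (4, 6), (3, 4)]) (x : chevF4.group F) :
    orderOf x ≠ r * s := fun hx => by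
  obtain ⟨Z⟩ := exists_frob' F 2
  obtain ⟨w, c, u, h3, -, ⟨j, hj⟩, -, h5⟩ := Z.exists_jordan (locFin_closure F) hT_ker_F4 x
  have h6 : ∀ {t}, t.Prime → t ≠ 2 → t ∣ r * s →
      (t : ℤ) ∣ ((Fintype.card F : ℤ) • 1 - (rsOf chevF4).cM w).det := fun ht h2 e =>
    (Int.natCast_dvd_natCast.2 ((ht.dvd_mul.1 (h5 ▸ hx ▸ e)).resolve_right fun e =>
      h2 ((Nat.prime_dvd_prime_iff_eq ht Nat.prime_two).1 (ht.dvd_of_dvd_pow (hj ▸ e))))).trans
      (orderOf_dvd_iff_zpow_eq_one.2 (pow_det_of_mT (mem_ker_mT_iff.2 h3)))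
  have h7 := h6 hr h1 (dvd_mul_right r s)
  have h8 := charpoly_eq_F4 hs h2 (h6 hs h2 (dvd_mul_left s r))
  have h9 := charpoly_eq_F4 hr h1 h7
  rw [Int.cast_natCast] at h8 h9
  rw [hl] at h8
  rw [hk] at h9
  rcases h with h | h
  · rw [← eval_charpoly_eq, charpoly_big_F4 h (h8 (by omega))] at h7
    by_cases h10 : r ∣ l
    · obtain ⟨rfl, rfl⟩ : r = 3 ∧ l = 12 := by
        have := Nat.le_of_dvd (by omega) h10
        have : r ≤ 12 := by omega
        rcases h with rfl | rfl <;> interval_cases r <;> simp_all (config := {decide := true})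
      have : ∀ x : ZMod 3, x ^ 4 - x ^ 2 + 1 ≠ 0 := by decide
      exact this (Fintype.card F) (by
        simpa [cyc_twelve] using (ZMod.intCast_zmod_eq_zero_iff_dvd _ 3).2 h7)
    · have := orderOf_eq_of_dvd_cyclotomic hr h10 h7
      rw [Int.cast_natCast] at this
      omega
  · have : 2 < k := (by decide : ∀ x ∈ [(3, 6), (4, 6), (3, 4)], 2 < x.1) _ h
    exact charpoly_two_F4 h (h9 this) (h8 (this.trans hkl))

theorem adj_F4 (hr : r.Prime) (hs : s.Prime) (hrs : r ≠ s) {L : List ℕ}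
    (hL : L ∈ [[1, 2, 3], [1, 2, 4], [1, 2, 6], [8], [12]])
    (h1 : orderOf (Fintype.card F : ZMod r) ∈ L) (h2 : orderOf (Fintype.card F : ZMod s) ∈ L) :
    ∃ x : chevF4.group F, orderOf x = r * s := by
  obtain ⟨Z⟩ := exists_frob' F 2
  obtain ⟨a, ha, h0⟩ : ∃ a ∈ [[0, 1, 3], [0, 1, 2, 1, 2], [0, 1, 2], [0, 1, 2, 1, 2, 3],
    [0, 1, 2, 3]], (a, L) ∈ ([([0, 1, 3], [1, 2, 3]), ([0, 1, 2, 1, 2], [1, 2, 4]),
    ([0, 1, 2], [1, 2, 6]), ([0, 1], [1, 1, 3]), ([0, 1, 2, 1, 2, 3], [8]),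
    ([0, 1, 2, 3], [12])] : List (List (Fin 4) × List ℕ)) ∧ 0 ∉ L := by
    clear h1 h2; revert L; decide
  have key : ∀ {t}, t.Prime → orderOf (Fintype.card F : ZMod t) ∈ L → (t : ℤ) ∣
      ((Fintype.card F : ℤ) • 1 - (rsOf chevF4).cM (wprod (rsOf chevF4).s a)).det := fun ht h => by
    rw [← Int.cast_natCast] at h
    exact det_wprod_F4 _ a L h0.1 ▸ (dvd_eval_cyclotomic ht (Nat.pos_of_ne_zero fun e =>
      h0.2 (e ▸ h))).trans (List.dvd_prod (List.mem_map_of_mem h))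
  exact Z.exists_adj hT_ker_F4 _ hr hs hrs (key hr h1) (key hs h2)

theorem adj_two_F4 (hs : s.Prime) (h2 : s ≠ 2)
    (h : orderOf (Fintype.card F : ZMod s) ∈ [1, 2, 3, 4, 6]) :
    ∃ x : chevF4.group F, orderOf x = s * 2 := by
  obtain ⟨Z⟩ := exists_frob' F 2
  have h0 : s ∣ Fintype.card F - 1 ↔ orderOf (Fintype.card F : ZMod s) = 1 := by
    rw [orderOf_eq_one_iff, ← ZMod.natCast_eq_zero_iff, Nat.cast_sub Fintype.card_pos, sub_eq_zero,
      Nat.cast_one]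
  by_cases h1 : orderOf (Fintype.card F : ZMod s) = 1
  · refine Z.exists_mixed hT_ker_F4 RGD.rep_one (k := 1) (u := (grpSt chevF4 _).x ⟨47, by decide⟩ 1)
      (by simp [fieldHom_x]) (orderOf_grp_x (p := 2) _) (fun e => h2 ((Nat.prime_dvd_prime_iff_eq
        Nat.prime_two hs).1 e).symm) (e := Pi.single ⟨0, by decide⟩ 1) (Pi.single_eq_same ..)
      (fun j => ?_) (RGD.U_le_US (X := grpRGD chevF4 _) ?_ ((grpSt chevF4 _).x_mem_U _ _))
    · rw [map_one, one_mulVec, ← sub_one_mul]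
      exact ((Int.natCast_dvd_natCast.2 (h0.2 h1)).trans
        (Nat.cast_sub Fintype.card_pos).dvd).mul_right _
    · rw [Set.mem_ofPred_eq, RS.pr_apply, dotProduct_single_one, rwt_eq,
        show chevF4.cartan _ _ = 0 by decide +kernel]
      exact dvd_zero _
  obtain ⟨a, ha, L, h3⟩ : ∃ a ∈ [[0, 1, 2, 1, 2], [0, 1, 2], [0, 1]], ∃ L ∈ [[1, 2, 4], [1, 2, 6],
    [1, 1, 3]], (a, L) ∈ ([([0, 1, 3], [1, 2, 3]), ([0, 1, 2, 1, 2], [1, 2, 4]),
    ([0, 1, 2], [1, 2, 6]), ([0, 1], [1, 1, 3]), ([0, 1, 2, 1, 2, 3], [8]),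
    ([0, 1, 2, 3], [12])] : List (List (Fin 4) × List ℕ)) ∧ orderOf (Fintype.card F : ZMod s) ∈ L ∧
    0 < orderOf (Fintype.card F : ZMod s) := by
    generalize orderOf (Fintype.card F : ZMod s) = d at *
    clear * - h; revert d; decide
  have h4 : ∀ a ∈ ([[0, 1, 2, 1, 2], [0, 1, 2], [0, 1]] : List (List (Fin 4))), ∀ i ∈ a,
    fastF4.tab.refl i 47 = 47 ∧ fastF4.tab.eta i 47 = 1 := by decide +kernel
  rw [← Int.cast_natCast] at h3
  exact Z.exists_adj_char hT_ker_F4 a ⟨47, by decide⟩ (tbF4 ▸ h4 a ha) hs h2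
    (det_wprod_F4 _ a L h3.2.1 ▸ (dvd_eval_cyclotomic hs h3.2.2.2).trans
      (List.dvd_prod (List.mem_map_of_mem h3.2.2.1))) (mt h0.1 h1)

omit [CharP F 2] in
theorem orderOf_mem_F4 (hr : r.Prime) (h1 : ¬ r ∣ Fintype.card F) (h : r ∣ Fintype.card F ^ 24 *
    (Fintype.card F ^ 2 - 1) * (Fintype.card F ^ 6 - 1) * (Fintype.card F ^ 8 - 1) *
    (Fintype.card F ^ 12 - 1)) : orderOf (Fintype.card F : ZMod r) ∈ [1, 2, 3, 4, 6, 8, 12] := by
  have h0 : ∀ e, r ∣ Fintype.card F ^ e - 1 → orderOf (Fintype.card F : ZMod r) ∣ e := fun e => by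
    rw [orderOf_dvd_iff_pow_eq_one, ← ZMod.natCast_eq_zero_iff,
      Nat.cast_sub (Nat.one_le_pow _ _ Fintype.card_pos), sub_eq_zero, Nat.cast_pow, Nat.cast_one]
    exact id
  have key : ∀ e ∈ [2, 6, 8, 12], ∀ d ∈ Nat.divisors e, d ∈ [1, 2, 3, 4, 6, 8, 12] := by decide
  simp only [hr.dvd_mul] at h
  rcases h with (((h | h) | h) | h) | h
  · exact absurd (hr.dvd_of_dvd_pow h) h1
  all_goals exact key _ (by simp) _ (Nat.mem_divisors.2 ⟨h0 _ h, by simp⟩)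

end Graph

end Cfsg.Agent.H12
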