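import Mathlib
import Cfsg.Agent.H12.TorD

/-! Certificates for cyclic self-centralising tori. -/

namespace Cfsg.Agent.H12

open Cfsg.Lie

theorem torChk_G2 : torChk (tb chevG2) [1, 0, 1, 0] id
    (tabF [[2, -1], [-1, 0], [-1, 1]])
    (tabF [[0, -1], [-1, -2]])
    (tabF [[-1, 0], [-1, 1]])
    (fun k => [1, 1].getD k 0) (fun k => [0, 1].getD k 0) = true := by
  rw [tbG2]; decide +kernel

theorem torChk_F4 : torChk (tb chevF4) [0, 2, 1, 2, 3, 1] id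
    (tabF [[-1, 0, 1, -1], [1, -1, 0, 1], [-1, 2, -1, 0], [-1, -1, 1, 0], [1, 0, -1, 1]])
    (tabF [[1, 1, 0, -1], [2, 2, 1, -1], [3, 3, 1, -1], [1, 2, 1, 0]])
    (tabF [[1, 0, -1, -1], [2, 1, -1, -2], [3, 1, -1, -3], [2, 1, 0, -1]])
    (fun k => [1, 0, 0, 0].getD k 0) (fun k => [1, 0, 2, 3].getD k 0) = true := by
  rw [tbF4]; decide +kernel

theorem torChk_E6 : torChk (tb chevE6) [0, 1, 2, 3, 4, 5] id
    (tabF [[0, -1, 0, 1, -1, 1], [-1, 0, 0, 0, 1, -1], [1, 0, -1, 0, 0, 1], [-1, -1, 1, 0, 0,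
      0], [0, 1, -1, 0, 0, 0], [1, -1, 0, 0, 0, 0], [-1, 1, 1, -1, 0, 0]])
    (tabF [[0, 0, 0, -1, -1, 0], [0, 0, 0, -1, -1, -1], [0, 0, 0, -1, -2, -1], [1, 1, 0, -2, -2,
      -1], [0, 1, 1, -1, -2, -1], [0, 0, 1, 0, -1, -1]])
    (tabF [[0, 0, -1, -1, 0, 0], [0, 0, -1, -1, -1, 0], [0, 0, -1, -2, -1, 0], [0, 0, -1, -2,
      -2, -1], [1, 1, -1, -2, -1, 0], [0, 1, 0, -1, -1, 0]])
    (fun k => [1, 1, 0, -1, 0, 1].getD k 0) (fun k => [0, 2, 3, 1, 4, 5].getD k 0) = true := by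
  rw [tbE6]; decide +kernel

theorem torChk_E7 : torChk (tb chevE7) [1, 4, 3, 6, 1, 5, 2, 4, 1, 6, 3, 5, 0] id
    (tabF [[-1, -1, 0, 1, 0, 0, 0], [1, 0, 0, 0, 0, 0, -1], [0, -1, 0, 0, 0, 1, 0], [0, 0, 1, 0,
      -1, 0, 0], [1, 0, -1, 0, 0, 0, 1], [-1, 0, 0, 1, -1, 0, 0], [1, 0, -1, 0, 1, -1, 0], [-1,
      0, 0, 0, 0, 1, -1]])
    (tabF [[1, 1, -1, 0, 1, -1, -1], [1, 1, -2, -1, 1, -1, -2], [2, 1, -2, 0, 1, -2, -2], [3, 2,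
      -3, -1, 2, -2, -3], [2, 1, -2, -1, 1, -2, -2], [1, 1, -1, -1, 1, -1, -2], [1, 0, -1, 0, 1,
      -1, -1]])
    (tabF [[1, 0, -1, 0, 0, -1, -1], [1, -1, -2, 0, 0, -2, -1], [1, 0, -2, -1, 0, -2, -2], [2,
      0, -4, -1, 1, -3, -3], [1, 0, -3, -1, 0, -2, -2], [1, 0, -2, 0, 0, -2, -1], [0, 0, -1, 0,
      0, -1, -1]])
    (fun k => [1, 0, -1, 1, 1, -1, 0].getD k 0) (fun k => [1, 3, 2, 0, 4, 5, 6].getD k 0) = true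
      := by
  rw [tbE7]; decide +kernel

theorem torChk_E8 : torChk (tb chevE8) [0, 1, 2, 3, 4, 5, 6, 7] id
    (tabF [[1, 1, -1, -1, 1, 0, 0, 0], [0, -1, 1, 0, -1, 1, 0, 0], [-1, 1, 0, 0, 0, -1, 1, 0],
      [1, -1, -1, 1, 0, 0, -1, 1], [-1, 0, 1, -1, 1, 0, 0, -1], [1, 1, -1, 0, -1, 1, 0, 0], [0,
      -1, 1, 0, 0, -1, 1, 0], [-1, 1, 0, 0, 0, 0, -1, 1], [1, -1, -1, 1, 0, 0, 0, -1]])
    (tabF [[0, -1, -2, -2, -2, -1, 0, 0], [0, -1, -2, -3, -3, -2, -1, 0], [0, -1, -3, -4, -4,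
      -3, -1, 0], [0, -1, -3, -5, -6, -5, -3, -1], [1, 0, -2, -4, -5, -5, -3, -1], [1, 1, -1,
      -3, -4, -4, -3, -1], [1, 1, 0, -2, -3, -3, -2, -1], [1, 1, 0, -1, -2, -2, -1, 0]])
    (tabF [[-1, -2, -2, -2, -1, 0, 0, 0], [-1, -2, -3, -3, -2, -1, 0, 0], [-1, -3, -4, -4, -3,
      -1, 0, 0], [-1, -3, -5, -6, -5, -3, -1, 0], [-1, -2, -3, -4, -4, -3, -2, -1], [0, -1, -2,
      -3, -3, -3, -2, -1], [0, 0, -1, -2, -2, -2, -2, -1], [0, 0, 0, -1, -1, -1, -1, -1]])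
    (fun k => [1, 1, 0, -1, -1, -1, 0, 1].getD k 0) (fun k => [0, 1, 2, 3, 4, 5, 6, 7].getD k 0)
      = true := by
  rw [tbE8]; decide +kernel

theorem torChk_D4 : torChk (tb chevD4) [1] (fun i => [2, 1, 3, 0].getD i 0)
    (tabF [[0, -1, 0, 1], [0, 1, -1, -1], [0, -1, 1, 0], [-1, 1, -1, 0], [1, -1, 0, 0]])
    (tabF [[0, 0, -1, -1], [-1, -1, -1, 0], [-1, -1, 0, 0], [0, -1, -1, 0]])
    (tabF [[0, -1, -1, 0], [0, -1, -1, -1], [0, 0, -1, -1], [-1, -1, 0, 0]])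
    (fun k => [-1, -1, 0, 1].getD k 0) (fun k => [0, 1, 2, 3].getD k 0) = true := by
  rw [tbD4]; decide +kernel


end Cfsg.Agent.H12
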