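import Mathlib
import Cfsg.Agent.H12.Syl5
import Cfsg.Agent.S2475
import Cfsg.Agent.S5057

/-!
The groups `A₆` and `L₂(8)` as normal subgroups of `p`-minimal groups.
-/

set_option autoImplicit false
set_option linter.unusedSectionVars false

namespace Cfsg.Agent.H12

open H17 H13 RGD Subgroup FT

section Abs

variable {K : Type*} [Group K] [Finite K]

/-- `x` is an involution commuting with `t` -/
def CI (t x : K) : Prop := x ≠ 1 ∧ x * x = 1 ∧ x ≠ t ∧ Commute t x

theorem CI.mul {t x : K} (a : t ≠ 1) (b : t * t = 1) (h : CI t x) : CI t (x * t) ∧ x * t ≠ x :=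
  let ⟨c, d, e, f⟩ := h
  ⟨⟨fun h => e (by rw [← mul_one x, ← b, ← mul_assoc, h, one_mul]),
    by rw [mul_assoc, ← mul_assoc t, f.eq, mul_assoc x, b, mul_one, d], by simpa,
    f.mul_right (.refl t)⟩, by simpa⟩

theorem CI.map {t x : K} (h : CI t x) (a : MulAut K) : CI (a t) (a x) :=
  ⟨a.map_ne_one_iff.2 h.1, by rw [← map_mul, h.2.1, map_one], a.injective.ne h.2.2.1, h.2.2.2.map a⟩

theorem PD.a6 [IsSimpleGroup K] (hc : Nat.card K = 360)
    (h1 : ∀ t : K, t ≠ 1 → t * t = 1 → {x | CI t x}.ncard = 4)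
    (h2 : ∀ t : K, t ≠ 1 → t * t = 1 → #C[t] = 8)
    (two : ∀ {t x w : K}, t ≠ 1 → t * t = 1 → CI t x → CI t w → Commute x w →
      w ∈ ({x, x * t} : Set K)) {U : Sylow 2 K} {A : Subgroup (MulAut K)} {D : Subgroup K}
    (h : PD U A D) : D ≤ N((U : Subgroup K)) ∧ ¬ ∀ a ∈ A, ∃ u ∈ U, a = MulAut.conj u := by
  have hK := H20.simple_not_comm_of_not_prime (G := K) (by rw [hc]; norm_num)
  have hU := h.U_le (H20.simple_sylow_normalizer_ne_top hK U (by rw [hc]; decide))
  have cU : ∀ P : Sylow 2 K, Nat.card P = 8 := fun P => by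
    rw [P.card_eq_multiplicity, hc]; decide +kernel
  have hY : O[{2}](D) ≠ ⊥ := fun e => h.ne (case_360 hc e fun hd =>
    U.not_dvd_index (hd.trans (index_dvd_of_le hU)))
  have cj : ∀ {t g : K}, g ∈ C[t] → MulAut.conj g t = t := fun hg => by
    rw [MulAut.conj_apply, mem_centralizer_singleton_iff.1 hg, mul_inv_cancel_right]
  have orb : ∀ {t x g : K}, t ≠ 1 → t * t = 1 → CI t x → g ∈ C[t] →
      MulAut.conj g x ∈ ({x, x * t} : Set K) := fun {t x g} a b c hg => by
    have hx : x ∈ C[t] := mem_centralizer_singleton_iff.2 c.2.2.2.symm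
    refine two a b c (cj hg ▸ c.map (MulAut.conj g)) (mem_centralizer_singleton_iff.1 ?_).symm
    have e1 := (C[x].subgroupOf C[t]).card_mul_index
    have e2 : 3 ≤ #(C[x].subgroupOf C[t]) := by
      have := Set.ncard_le_ncard (s := {1, ⟨x, hx⟩, ⟨t, mem_centralizer_singleton_iff.2 rfl⟩})
        (t := (C[x].subgroupOf C[t] : Set C[t])) (by
          rintro _ (rfl | rfl | rfl)
          exacts [one_mem _, mem_centralizer_singleton_iff.2 rfl,
            mem_centralizer_singleton_iff.2 c.2.2.2])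
      rwa [Set.ncard_eq_three.2 ⟨_, _, _, fun e => c.1 (congrArg Subtype.val e).symm,
        fun e => a (congrArg Subtype.val e).symm,
        by simpa using c.2.2.1, rfl⟩] at this
    rw [h2 t a b] at e1
    have : (C[x].subgroupOf C[t]).Normal := by
      obtain e | e : (C[x].subgroupOf C[t]).index = 1 ∨ (C[x].subgroupOf C[t]).index = 2 := by
        have : (C[x].subgroupOf C[t]).index < 3 := by nlinarith
        have := index_ne_zero_of_finite (H := C[x].subgroupOf C[t])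
        omega
      exacts [normal_of_index_eq_one e, normal_of_index_eq_two e]
    exact this.conj_mem ⟨x, hx⟩ (mem_centralizer_singleton_iff.2 rfl) ⟨g, hg⟩
  obtain ⟨z, hz, ho, hz'⟩ := exists_cent_inv U.isPGroup' fun e => by simpa [e] using cU U
  have z1 : z ≠ 1 := by rintro rfl; simp at ho
  have z2 : z * z = 1 := by rw [← pow_two, ← ho, pow_orderOf_eq_one]
  have eU : (U : Subgroup K) = C[z] := eq_of_le_of_card_ge hz' (by rw [h2 z z1 z2]; exact (cU U).ge)
  have uq : ∀ {y}, CI z y → ¬ (U : Subgroup K) ≤ C[y] := fun {y} hy e => by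
    have := (Set.ncard_le_ncard (s := {x | CI z x}) fun w hw => two z1 z2 hy hw
      (mem_centralizer_singleton_iff.1 (e (eU.ge (mem_centralizer_singleton_iff.2
        hw.2.2.2.symm)))).symm).trans ((Set.ncard_insert_le _ _).trans (by rw [Set.ncard_singleton]))
    rw [h1 z z1 z2] at this; omega
  have hZ : ZInv U z := ⟨hz, z1, z2, hz', fun y hy a b => by_contra fun h => by
    push Not at h
    exact uq ⟨h.1, a, h.2, (mem_centralizer_singleton_iff.1 (hz' hy)).symm⟩ b⟩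
  have fz : ∀ {a}, a ∈ A → a z = z := hZ.fix h.nU
  have pr : ∀ {x w : K} (a : MulAut K), a z = z → a x ∈ ({x, x * z} : Set K) →
      w ∈ ({x, x * z} : Set K) → a w ∈ ({x, x * z} : Set K) := by
    rintro x _ a e hx (rfl | rfl)
    · exact hx
    · rw [map_mul, e]
      rcases hx with hx | hx <;> rw [hx]
      exacts [.inr rfl, .inl (by rw [mul_assoc, z2, mul_one])]
  have cD : ∀ {x}, CI z x → (∀ a ∈ A, a x ∈ ({x, x * z} : Set K)) → O[{2}](D) ≤ C[x] ∧ C[x] ≤ D :=
    fun {x} hx hA => by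
    have w1 : ∀ a ∈ A, ∀ h ∈ ({z, x, x * z} : Set K), a h ∈ ({z, x, x * z} : Set K) := by
      rintro a ha h (rfl | hh)
      exacts [.inl (fz ha), .inr (pr a (fz ha) (hA a ha) hh)]
    have w2 : ∀ a ∈ A, ∀ h, h ∈ ({z, x, x * z} : Set K) ↔ a h ∈ ({z, x, x * z} : Set K) :=
      fun a ha h => ⟨w1 a ha h, fun hh => by simpa using w1 _ (inv_mem ha) _ hh⟩
    have w3 : C[x] ≤ normalizer ({z, x, x * z} : Set K) := fun g hg => mem_normalizer_fintype (by
      have hz : CI x z := ⟨z1, z2, hx.2.2.1.symm, hx.2.2.2.symm⟩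
      have := orb hx.1 hx.2.1 hz hg
      rw [hx.2.2.2.eq] at this
      rintro _ (rfl | rfl | rfl)
      · exact this.imp_right .inr
      · exact .inr (.inl (cj hg))
      · change MulAut.conj g _ ∈ _
        rw [map_mul, cj hg]
        rcases this with e | e <;> rw [e]
        exacts [.inr (.inr rfl), .inl (by rw [← mul_assoc, hx.2.1, one_mul])])
    have w4 := w3.trans (h.le _ (fun a ha g hg h => by rw [w2 _ (inv_mem ha), hg, w2 a ha]; simp)
      fun e => (normalizer_eq_top_iff.1 e).eq_bot_or_eq_top.elim (fun e => hx.1 (mem_bot.1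
        (e ▸ w3 (mem_centralizer_singleton_iff.2 rfl)))) fun e => by
      have := (relIndex_le_ncard ⊤ z fun g _ => (e.ge (mem_top g) z).1 (Set.mem_insert _ _)).trans
        ((Set.ncard_insert_le _ _).trans (Nat.succ_le_succ (Set.ncard_insert_le _ _)))
      have e2 := C[z].card_mul_index
      rw [relIndex_top_right, Set.ncard_singleton] at this
      rw [h2 z z1 z2, hc] at e2
      omega)
    exact ⟨le_sylow (Sylow.ofCard C[x] (p := 2) (by rw [h2 x hx.1 hx.2.1, hc]; decide +kernel))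
      (pcore_pi {2} D).isPGroup (w4.trans (pcore_nrm _ _)), w4⟩
  have yU := le_sylow U (pcore_pi {2} D).isPGroup (hU.trans (pcore_nrm _ _))
  have zY : z ∈ O[{2}](D) := by
    obtain ⟨w, hw, w1, -⟩ := exists_cent_inv ((pcore_pi {2} D).isPGroup.to_inf_left)
      (PiGrp.meet_cen (pGrp_of_isPGroup Nat.prime_two U.isPGroup') (pcore_pi {2} D)
        (hU.trans (pcore_nrm _ _)) hY)
    exact (hZ.2.2.2.2 w (yU hw.1) (by rw [← pow_two, ← w1, pow_orderOf_eq_one]) fun u hu =>
      mem_centralizer_singleton_iff.2 (hw.2 u hu)).resolve_left (by rintro rfl; simp at w1) ▸ hw.1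
  have dz : ∀ d ∈ D, MulAut.conj d z ≠ z → CI z (MulAut.conj d z) ∧ MulAut.conj d z ∈ O[{2}](D) :=
    fun d hd e =>
    have := (mem_normalizer_iff.1 (pcore_nrm _ _ hd) z).1 zY
    ⟨⟨by simpa, by rw [← map_mul, z2, map_one], e,
      (mem_centralizer_singleton_iff.1 (hz' (yU this))).symm⟩, this⟩
  have key : ∀ {x}, CI z x → ¬ ∀ a ∈ A, a x ∈ ({x, x * z} : Set K) := fun {x} hx hA => by
    have s1 : ({x, x * z} : Set K) ⊆ {w | CI z w} := by
      rintro _ (rfl | rfl); exacts [hx, (hx.mul z1 z2).1]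
    have s2 := Set.ncard_sdiff_add_ncard_of_subset s1
    rw [h1 z z1 z2, Set.ncard_pair (hx.mul z1 z2).2.symm] at s2
    obtain ⟨y, hy, y1⟩ := Set.nonempty_of_ncard_ne_zero (s := {w | CI z w} \ {x, x * z}) (by omega)
    have s3 : {y, y * z} = {w | CI z w} \ ({x, x * z} : Set K) := Set.eq_of_subset_of_ncard_le (by
      rintro _ (rfl | rfl)
      exacts [⟨hy, y1⟩, ⟨(hy.mul z1 z2).1, by
        rintro (e | e)
        exacts [y1 (.inr (by rw [← e, mul_assoc, z2, mul_one]; rfl)), y1 (.inl (by simpa using e))]⟩])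
      (by rw [Set.ncard_pair (hy.mul z1 z2).2.symm]; omega)
    obtain ⟨a1, a2⟩ := cD hx hA
    obtain ⟨b1, -⟩ := cD hy fun a ha => s3.ge ⟨fz ha ▸ hy.map a, fun e => y1 (by
      simpa using pr _ (fz (inv_mem ha)) (hA _ (inv_mem ha)) e)⟩
    refine uq hx (eq_of_le_of_card_ge (fun d hd => eU.ge (mem_centralizer_singleton_iff.2
      (mul_inv_eq_iff_eq_mul.1 (by_contra fun e => ?_)))) (by rw [h2 x hx.1 hx.2.1]; exact (cU U).le)).ge
    obtain ⟨c1, c2⟩ := dz d (a2 hd) e
    exact (s3.le (two z1 z2 hy c1 (mem_centralizer_singleton_iff.1 (b1 c2)).symm)).2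
      (two z1 z2 hx c1 (mem_centralizer_singleton_iff.1 (a1 c2)).symm)
  refine ⟨fun d hd => le_normalizer (eU.ge (mem_centralizer_singleton_iff.2
    (mul_inv_eq_iff_eq_mul.1 (by_contra fun e => ?_)))), fun hA => ?_⟩
  · obtain ⟨c1, c2⟩ := dz d hd e
    refine key c1 fun a ha => ?_
    have e1 : a (MulAut.conj d z) = MulAut.conj (a d) z := by simp [fz ha]
    obtain ⟨c3, c4⟩ := dz _ (h.nD a ha d hd) fun e' => e (a.injective ((e1.trans e').trans (fz ha).symm))
    refine e1 ▸ two z1 z2 c1 c3 ?_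
    have := mem_centralizer_singleton_iff.1 (hz' (yU
      ((mem_normalizer_iff''.1 (pcore_nrm _ _ hd) _).1 c4)))
    simpa [mul_assoc, commute_iff_eq] using congrArg (MulAut.conj d) this.symm
  · obtain ⟨x, hx⟩ := Set.nonempty_of_ncard_ne_zero (s := {w | CI z w}) (by rw [h1 z z1 z2]; omega)
    refine key hx fun a ha => ?_
    obtain ⟨u, hu, rfl⟩ := hA a ha
    exact orb z1 z2 hx (hz' hu)

open Equiv in
set_option maxRecDepth 100000 in
set_option synthInstance.maxSize 2048 in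
theorem a6_chk : (Finset.univ.filter fun x : alternatingGroup (Fin 6) =>
      x ≠ 1 ∧ x * x = 1 ∧ x ≠ S5057.a0 ∧ S5057.a0 * x = x * S5057.a0).card = 4 ∧
    (Finset.univ.filter fun x : alternatingGroup (Fin 6) => x * S5057.a0 = S5057.a0 * x).card = 8 ∧
    ∀ x : alternatingGroup (Fin 6), x ≠ 1 ∧ x * x = 1 ∧ x ≠ S5057.a0 ∧ S5057.a0 * x = x * S5057.a0 →
      ∀ w : alternatingGroup (Fin 6), w ≠ 1 ∧ w * w = 1 ∧ w ≠ S5057.a0 ∧
        S5057.a0 * w = w * S5057.a0 → x * w = w * x → w = x ∨ w = x * S5057.a0 := by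
  refine ⟨?_, ?_, ?_⟩ <;> decide +kernel

theorem PD.alt (e : K ≃* alternatingGroup (Fin 6)) {U : Sylow 2 K} {A : Subgroup (MulAut K)}
    {D : Subgroup K} (h : PD U A D) :
    D ≤ N((U : Subgroup K)) ∧ ¬ ∀ a ∈ A, ∃ u ∈ U, a = MulAut.conj u := by
  have := alternatingGroup.isSimpleGroup (α := Fin 6) (by simp)
  have := e.isSimpleGroup
  have k : ∀ t : K, t ≠ 1 → t * t = 1 → ∃ f : K ≃* alternatingGroup (Fin 6), f t = S5057.a0 :=
    fun t a b => by
    obtain ⟨g, hg⟩ := S5057.conj0 (e t) (by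
      rw [e.orderOf_eq]; exact orderOf_eq_prime (by rwa [pow_two]) a)
    exact ⟨e.trans (MulAut.conj g⁻¹), by simp [hg, mul_assoc]⟩
  have k2 : ∀ (f : K ≃* alternatingGroup (Fin 6)) (t x : K), CI t x ↔
      f x ≠ 1 ∧ f x * f x = 1 ∧ f x ≠ f t ∧ f t * f x = f x * f t := fun f t x => by
    simp [CI, ← map_mul, commute_iff_eq]
  refine h.a6 (by rw [Nat.card_congr e.toEquiv, nat_card_alternatingGroup]; simp [Nat.factorial])
    (fun t a b => ?_) (fun t a b => ?_) fun {t x w} a b c d e => ?_ <;>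
    obtain ⟨f, hf⟩ := k t a b
  · rw [← a6_chk.1, ← Nat.card_eq_finsetCard]
    exact Nat.card_congr (f.toEquiv.subtypeEquiv fun x => by simpa [hf] using k2 f t x)
  · rw [← a6_chk.2.1, ← Nat.card_eq_finsetCard]
    exact Nat.card_congr (f.toEquiv.subtypeEquiv fun x => by
      simp [mem_centralizer_singleton_iff, ← hf, ← map_mul])
  · simpa [← hf, ← map_mul] using a6_chk.2.2 (f x) (hf ▸ (k2 f t x).1 c) (f w) (hf ▸ (k2 f t w).1 d)
      (by rw [← map_mul, ← map_mul, e.eq])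

theorem PD.l28 (hK : IsChevSimple 3 K) (hc : Nat.card K = 504)
    (ho : ∀ g : K, orderOf g ∣ 2 ∨ orderOf g ∣ 7 ∨ orderOf g ∣ 9) [Fact (Nat.Prime 3)] {U : Sylow 3 K}
    {D : Subgroup K} (hD : D ≠ ⊤) (hU : (U : Subgroup K) ≤ D) : D ≤ N((U : Subgroup K)) := by
  have hY : O[{3}](D) ≠ ⊥ := fun e => hD (chev_eq_top hK e fun hd =>
    U.not_dvd_index (hd.trans (index_dvd_of_le hU)))
  have yU := le_sylow U (pcore_pi {3} D).isPGroup (hU.trans (pcore_nrm _ _))
  have := IsPGroup.isMulCommutative_of_card_eq_prime_sq (G := U) (p := 3) (by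
    rw [U.card_eq_multiplicity, hc]; decide +kernel)
  obtain ⟨y, hy⟩ := exists_prime_orderOf_dvd_card' (G := O[{3}](D)) 3
    ((pcore_pi {3} D).isPGroup.card_eq_or_dvd.resolve_left fun e => hY (eq_bot_of_card_eq _ e))
  rw [← orderOf_coe] at hy
  have e : C(O[{3}](D)) = U := U.is_maximal' (IsPGroup.iff_card.2 ⟨_, Nat.eq_prime_pow_of_unique_prime_dvd
    Nat.card_pos.ne' fun {l} hl hd => by_contra fun hne => by
      have := Fact.mk hl
      obtain ⟨c, hc⟩ := exists_prime_orderOf_dvd_card' l hd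
      rw [← orderOf_coe] at hc
      have h1 := ho (y * c)
      rw [Commute.orderOf_mul_eq_mul_orderOf_of_coprime (c.2 y y.2) (by
        rw [hy, hc]; exact (Nat.coprime_primes Nat.prime_three hl).2 (Ne.symm hne)), hy, hc] at h1
      rcases h1 with h | h | h
      · exact absurd (Dvd.intro _ rfl |>.trans h) (by decide)
      · exact absurd (Dvd.intro _ rfl |>.trans h) (by decide)
      · exact hne ((Nat.prime_dvd_prime_iff_eq hl Nat.prime_three).1
          (Nat.dvd_of_mul_dvd_mul_left (by decide) (h : 3 * l ∣ 3 * 3)))⟩)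
    fun u hu x hx => congrArg Subtype.val (mul_comm' (⟨x, yU hx⟩ : U) ⟨u, hu⟩)
  exact e ▸ norms_cent (pcore_nrm _ _)

theorem pd_chev {p : ℕ} [Fact p.Prime] (hK : IsChevSimple p K) (U : Sylow p K) :
    N((U : Subgroup K)) ≠ ⊤ ∧ ∀ A D, PD U A D → D ≤ N((U : Subgroup K)) ∧ (IsLieRankOneChar p K ∨
      p = 2 ∧ (¬ ∀ a ∈ A, ∃ u ∈ U, a = MulAut.conj u) ∧
      ((∃ (F : Type) (_ : Field F) (_ : Fintype F) (_ : CharP F 2),
        Nonempty (K ≃* Matrix.ProjectiveSpecialLinearGroup (Fin 3) F)) ∨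
      (∃ (F : Type) (_ : Field F) (_ : Fintype F) (_ : CharP F 2), 4 ≤ Fintype.card F ∧
        Nonempty (K ≃* PSp 2 F)) ∨ Nonempty (K ≃* alternatingGroup (Fin 6)))) := by
  have nt : ∀ [IsSimpleGroup K] {n : ℕ}, Nat.card K = n → ¬ n.Prime → p ∣ n →
      N((U : Subgroup K)) ≠ ⊤ := fun h1 h2 h3 => H20.simple_sylow_normalizer_ne_top
        (H20.simple_not_comm_of_not_prime (h1 ▸ h2)) U (h1 ▸ h3)
  rcases id hK with h | ⟨rfl, ⟨⟨e⟩⟩ | ⟨F, _, _, hF, ⟨e⟩⟩ | h⟩ | ⟨rfl, F, _, _, hF, ⟨e⟩⟩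
  · obtain ⟨L₀, h0⟩ := exists_sh h
    obtain ⟨P, hP⟩ := L₀.char.exists_sylow L₀.top
    obtain ⟨g, rfl⟩ := MulAction.exists_smul_eq K P U
    have hk : (MulAut.conj g).toMonoidHom.ker ≤ center K := by
      rw [(MonoidHom.ker_eq_bot_iff _).2 (MulAut.conj g).injective]; exact bot_le
    let L := L₀.map _ (MulAut.conj g).surjective hk
    have e : L.X.Up = (g • P : Sylow p K) := (rmap_Up _ _ (L₀.ker_le hk)).trans (hP ▸ rfl)
    obtain ⟨⟨i⟩, h1⟩ := h0
    have : Nonempty L.I := ⟨i⟩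
    refine ⟨fun h => m_not_mem_B (X := L.X) i (normalizer_Up.le ⟨e ▸ h.ge (mem_top _),
      L.top.ge (mem_top _)⟩), fun A D hD => ?_⟩
    obtain ⟨a, b, c⟩ := hD.ld L.char L.top e
    refine ⟨a, ?_⟩
    rcases h1 with h | h | h
    · exact absurd (h.rmap (L₀.ker_le hk) (hk.trans (center_le_T _ L₀.top))) b
    · exact .inl h
    · exact .inr ⟨(c h.1).1, (c h.1).2, (h.2 (c h.1).1).imp_right .inl⟩
  · have := alternatingGroup.isSimpleGroup (α := Fin 6) (by simp)
    have := e.isSimpleGroup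
    exact ⟨nt (n := 360) (by
      rw [Nat.card_congr e.toEquiv, nat_card_alternatingGroup]; simp [Nat.factorial])
      (by norm_num) (by decide), fun A D hD =>
        ⟨(hD.alt e).1, .inr ⟨rfl, (hD.alt e).2, .inr (.inr ⟨e⟩)⟩⟩⟩
  · obtain ⟨_, h1, -⟩ := u33_data hF e
    exact ⟨nt h1 (by norm_num) (by decide), fun A D hD => absurd (amal_u33 hF e) (hD.not_amal
      (H20.simple_not_comm_of_not_prime (by rw [h1]; norm_num)))⟩
  · obtain ⟨_, h1⟩ := tits_simple h
    obtain ⟨z, hz, -⟩ := amal_tits h U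
    exact ⟨H20.simple_sylow_normalizer_ne_top h1 U (orderOf_eq_prime (by rw [pow_two, hz.2.2.1])
      hz.2.1 ▸ _root_.orderOf_dvd_natCard z), fun A D hD => absurd (amal_tits h) (hD.not_amal h1)⟩
  · have := H10.isSimpleGroup_PSL_fin (F := F) (n := 2) le_rfl fun _ => by simp [hF]
    have := e.isSimpleGroup
    have := charP_of_card_pow (p := 2) (n := 3) hF
    have hc : Nat.card K = 504 := by
      have := S0243.result hF 2 le_rfl
      simp [Fin.prod_univ_two] at this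
      rw [Nat.card_congr e.toEquiv]; omega
    have h1 := nt hc (by norm_num) (by decide)
    refine ⟨h1, fun A D hD => ⟨PD.l28 hK hc (fun g => ?_) hD.ne (hD.U_le h1),
      .inl (.inr (.inr (.inr ⟨rfl, .inr ⟨F, _, _, hF, ⟨e⟩⟩⟩)))⟩⟩
    simpa [hF] using (S2475.result (F := F) 2 (by omega)).le ⟨e g, rfl⟩

end Abs

end Cfsg.Agent.H12
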